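import Cfsg.Agent.Lib.C3.BasicA
import Cfsg.Agent.Lib.PLocal.Constrained
import Cfsg.Agent.Lib.PSL2Rec.O168
import Cfsg.Agent.S0336

/-! The class `𝒞`: local subgroups of a minimal simple member.  See `plans/C3.md`. -/

set_option autoImplicit false
set_option linter.unusedSectionVars false

namespace CfsgLib.C3

open Cfsg CfsgLib.BG Subgroup
open scoped MatrixGroups

universe u

variable {G : Type*} [Group G] [Finite G] {x y g a : G} {H K N R M : Subgroup G}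

/-- Burnside: in a simple group an element generating a Sylow 3-subgroup is real -/
theorem exists_inverter [IsSimpleGroup G] (h9 : ¬ 9 ∣ Nat.card G) (hn : ¬ IsMulCommutative G)
    (hx : orderOf x = 3) : ∃ j : G, j * x * j⁻¹ = x⁻¹ := by
  have := Fact.mk Nat.prime_three
  obtain ⟨S, hS⟩ := exists_sylow_top Nat.prime_three (sylow_three h9 hx (mem_top x))
  by_contra hcon
  have hP : normalizer ((S : Subgroup G) : Set G) ≤ centralizer ((S : Subgroup G) : Set G) := by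
    rw [hS, cent_zpowers]
    intro g hg
    exact mem_cent1.2 (mul_inv_eq_iff_eq_mul.1
      ((norm_three hx hg).resolve_right fun e => hcon ⟨g, e⟩))
  have hc := MonoidHom.ker_transferSylow_isComplement' S hP
  rcases (MonoidHom.normal_ker (MonoidHom.transferSylow S hP)).eq_bot_or_eq_top with e | e
  · rw [e] at hc
    have h1 : zpowers x = ⊤ := hS ▸ isComplement'_bot_left.1 hc
    refine hn ⟨⟨fun a b => ?_⟩⟩
    exact setLike_mul_comm (s := zpowers x) (h1 ▸ mem_top a) (h1 ▸ mem_top b)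
  · rw [e] at hc
    have h1 : zpowers x = ⊥ := hS ▸ isComplement'_top_left.1 hc
    exact three_ne_one hx (zpowers_eq_bot.1 h1)

theorem lift_inv (h9 : ¬ 9 ∣ Nat.card G) {A : Type*} [Group A] (f : G →* A)
    (hf : Function.Surjective f) (hx : orderOf x = 3) (h1 : f x ≠ 1) {b : A}
    (hb : b * f x * b⁻¹ = (f x)⁻¹) : ∃ j, j * x * j⁻¹ = x⁻¹ := by
  obtain ⟨g, rfl⟩ := hf b
  have hg : g ∈ 𝒩((zpowers (f x)).comap f) := by
    refine mem_norm_of_cj_le (cj_le_iff.2 fun y hy => ?_)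
    obtain ⟨n, hn⟩ := hy
    refine ⟨-n, ?_⟩
    simp only at hn ⊢
    rw [map_mul, map_mul, map_inv, ← hn, ← conj_zpow, hb, inv_zpow']
  obtain ⟨n, ⟨i, hi⟩, m, rfl, e⟩ := frattini3' h9 hx (N := (zpowers (f x)).comap f)
    (mem_zpowers (f x)) hg
  simp only at hi
  have h3 : orderOf (f x) = 3 := orderOf_three (by rw [← map_pow, cube hx, map_one]) h1
  refine ⟨m, e.resolve_left fun e => three_inv_ne h3 ?_⟩
  have := congrArg f e
  rw [map_mul, map_mul, map_inv] at this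
  rw [← hb, map_mul, ← hi, mul_inv_rev]
  calc _ = f x ^ i * (f m * f x * (f m)⁻¹) * (f x ^ i)⁻¹ := by group
    _ = _ := by rw [this, ← (Commute.self_zpow (f x) i).eq, mul_inv_cancel_right]

theorem Sm.exists_inverter {A : Type*} [Group A] (h : Sm A) {x : A} (hx : orderOf x = 3) :
    ∃ j : A, j * x * j⁻¹ = x⁻¹ := by
  have := h.simple
  have : Finite A := Nat.finite_of_card_ne_zero (by rcases h.card with e | e <;> omega)
  exact C3.exists_inverter (by rcases h.card with e | e <;> rw [e] <;> norm_num) h.not_comm hx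

theorem not3_K (H : Subgroup G) : ¬ 3 ∣ Nat.card ↥(oppOf 3 H) :=
  (p'group_iff Nat.prime_three).1 (pcore_pgroup _ H)

theorem le_K (hN : N ⊲ H) (h3 : ¬ 3 ∣ Nat.card N) : N ≤ oppOf 3 H :=
  pcore_max hN ((p'group_iff Nat.prime_three).2 h3)

theorem notMem_of_not3 (hx : orderOf x = 3) (h3 : ¬ 3 ∣ Nat.card R) : x ∉ R := fun e =>
  h3 (hx ▸ order_dvdG e)

theorem exists_ns (h : Cl G) {A : Type*} [Group A] (hA : Sm A) (L : Subgroup (H ⧸ pPrimeCore 3 H))
    [hL : L.Normal] (e : L ≃* A) (hc : 𝒞(L) = ⊥) : ∃ (L : Subgroup G) (π : L →* A), NS H L π := by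
  let f := QuotientGroup.mk' (pPrimeCore 3 H)
  have hf : Function.Surjective f := QuotientGroup.mk'_surjective _
  have hk : ∀ a : H, f a = 1 ↔ (a : G) ∈ oppOf 3 H := fun a => by
    rw [← mem_subgroupOf, oppOf_subgroupOf Nat.prime_three]
    exact QuotientGroup.eq_one_iff a
  let L' := (L.comap f).map H.subtype
  have hLH : L' ≤ H := map_subtype_le _
  have hm : ∀ a : H, (a : G) ∈ L' ↔ f a ∈ L := fun a =>
    mem_map_iff_mem H.subtype_injective
  let φ : L' →* L := (f.comp (inclusion hLH)).codRestrict L fun a => (hm ⟨a, hLH a.2⟩).1 a.2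
  have hφ : Function.Surjective φ := fun b => by
    obtain ⟨a, ha⟩ := hf b
    exact ⟨⟨a, (hm a).2 (ha ▸ b.2)⟩, Subtype.ext ha⟩
  have hπ : Function.Surjective (e.toMonoidHom.comp φ) := e.surjective.comp hφ
  have hker : ∀ l : L', (e.toMonoidHom.comp φ) l = 1 ↔ (l : G) ∈ oppOf 3 H := fun l => by
    rw [← hk ⟨l, hLH l.2⟩]
    change e (φ l) = 1 ↔ _
    rw [map_eq_one_iff _ e.injective, Subtype.ext_iff]
    rfl
  have hn : L' ⊲ H := normalIn_map_subtype _
  have h3 : ∀ x ∈ H, orderOf x = 3 → x ∈ L' := fun x xH hx => by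
    have : Finite A := Finite.of_surjective _ e.surjective
    obtain ⟨b, hb, hb3⟩ := Cauchy (H := L) Nat.prime_three (by
      rw [Nat.card_congr e.toEquiv]; rcases hA.card with e | e <;> rw [e] <;> norm_num)
    have h1 : orderOf (f ⟨x, xH⟩) = 3 := orderOf_three
      (by rw [← map_pow, show (⟨x, xH⟩ : H) ^ 3 = 1 from Subtype.ext (cube hx), map_one])
      fun e => notMem_of_not3 hx (not3_K H) ((hk _).1 e)
    obtain ⟨k, -, e⟩ := ((h.sub H).of_surj f hf).conj3 hb3 h1 (mem_top _) (mem_top _)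
    refine (hm ⟨x, xH⟩).2 ?_
    rcases e with e | e
    · rw [← e]; exact hL.conj_mem _ hb _
    · rw [← inv_mem_iff, ← e]; exact hL.conj_mem _ hb _
  refine ⟨L', e.toMonoidHom.comp φ, fun a ha => ?_, hn, hπ, hker, h3, fun x xH hx g hg => ?_,
    fun g hg hl => ?_⟩
  · exact (hm ⟨a, pcore_sub _ _ ha⟩).2 (by rw [(hk _).2 ha]; exact one_mem _)
  · have xL := h3 x xH hx
    have hx' : orderOf (⟨x, xL⟩ : L') = 3 := by rw [← hx, ← orderOf_coe]
    have h1 : (e.toMonoidHom.comp φ) ⟨x, xL⟩ ≠ 1 := fun e =>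
      notMem_of_not3 hx (not3_K H) ((hker _).1 e)
    obtain ⟨b, hb⟩ := hA.exists_inverter (orderOf_three
      (by rw [← map_pow, cube hx', map_one]) h1)
    obtain ⟨j, hj⟩ := lift_inv (h.sub L').h9 _ hπ hx' h1 hb
    have hj' : (j : G) * x * (j : G)⁻¹ = x⁻¹ := congrArg Subtype.val hj
    obtain ⟨n, hn, m, rfl, e | e⟩ := h.frattini3 hx xL (hn.norm hg)
    · obtain ⟨i, v, hv, rfl⟩ := h.mem_cent hx (mul_inv_eq_iff_eq_mul.1 e)
      exact ⟨n * x ^ i, mul_mem hn (pow_mem xL i), v, hv, by group⟩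
    · obtain ⟨i, v, hv, e1⟩ := h.mem_cent hx (a := (j : G)⁻¹ * m) (by
        calc _ = (j : G)⁻¹ * (m * x * m⁻¹) * m := by group
          _ = _ := by rw [e, ← hj']; group)
      exact ⟨n * j * x ^ i, mul_mem (mul_mem hn j.2) (pow_mem xL i), v, hv, by
        rw [mul_assoc, ← e1]; group⟩
  · rw [← hk ⟨g, hg⟩, ← mem_bot, ← hc]
    intro b hb
    obtain ⟨l, rfl⟩ := hf b
    have := (hk (⟨g, hg⟩ * l * ⟨g, hg⟩⁻¹ * l⁻¹)).2 (hl l ((hm l).2 hb))
    rw [map_mul, map_mul, map_mul, map_inv, map_inv, mul_inv_eq_one, mul_inv_eq_iff_eq_mul] at this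
    exact this.symm

theorem NS.card {L : Subgroup G} {A : Type*} [Group A] {π : L →* A} (n : NS H L π) :
    (oppOf 3 H).relIndex L = Nat.card A := by
  have : (oppOf 3 H).subgroupOf L = π.ker := by
    ext l; rw [mem_subgroupOf, MonoidHom.mem_ker, n.ker]
  rw [relIndex, this, index_ker, MonoidHom.range_eq_top.2 n.surj, card_top]

namespace Min

variable (h : Min G)
include h

theorem not_solvable : ¬ Group.IsSolvable G := fun hs =>
  have := h.simple
  h.ncomm ⟨⟨IsSimpleGroup.comm_iff_isSolvable.2 hs⟩⟩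

theorem ne_top (hs : Group.IsSolvable H) : H ≠ ⊤ := by
  rintro rfl
  exact h.not_solvable (Group.isSolvable_of_surjective (f := (⊤ : Subgroup G).subtype)
    fun g => ⟨⟨g, trivial⟩, rfl⟩)

theorem no_index_two (M : Subgroup G) : M.index ≠ 2 := fun e => by
  have := h.simple
  rcases (normal_of_index_eq_two e).eq_bot_or_eq_top with rfl | rfl
  · rw [index_bot] at e
    have := Fact.mk Nat.prime_two
    have := isCyclic_of_prime_card e
    exact h.ncomm inferInstance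
  · simp at e

theorem norm_ne_top (h1 : R ≠ ⊥) (hs : Group.IsSolvable R) : 𝒩(R) ≠ ⊤ := fun e =>
  have := h.simple
  h.ne_top hs ((normalizer_eq_top_iff.1 e).eq_bot_or_eq_top.resolve_left h1)

theorem cent_ne_top (h1 : a ≠ 1) : 𝒞[a] ≠ ⊤ := fun e =>
  h.norm_ne_top (R := zpowers a) (mt zpowers_eq_bot.1 h1) inferInstance
    (top_le_iff.1 (e ▸ cents_norm (cent_zpowers a).ge))

theorem solv_K (hH : H ≠ ⊤) : Group.IsSolvable ↥(oppOf 3 H) := by
  have := (h.st H hH).1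
  rw [oppOf_eq_map Nat.prime_three]
  exact Group.isSolvable_of_surjective (MonoidHom.subgroupMap_surjective _ _)

theorem exists_three : ∃ x : G, orderOf x = 3 := by
  have := h.simple
  have := Fact.mk Nat.prime_three
  refine exists_prime_orderOf_dvd_card' 3 (by_contra fun h3 => h.cl.h5 ?_)
  obtain ⟨-, m, -, e⟩ := Cfsg.Agent.S0336.result (G := G)
    (by_contra fun hc => h.ncomm ⟨⟨fun a b => by_contra fun e => hc ⟨a, b, e⟩⟩⟩) h3
  rw [e]
  refine Dvd.dvd.mul_right (Dvd.dvd.mul_left ?_ _) _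
  rw [← pow_mul, show (2 * m + 1) * 2 = 4 * m + 2 by ring, pow_add, pow_mul]
  have : (2 ^ 4) ^ m % 5 = 1 := by rw [Nat.pow_mod]; simp
  omega

theorem solv_of_not3 (h3 : ¬ 3 ∣ Nat.card H) : Group.IsSolvable H := by
  obtain ⟨x, hx⟩ := h.exists_three
  have hH : H ≠ ⊤ := fun e => notMem_of_not3 hx h3 (e ▸ mem_top x)
  exact solvableS (le_K (NormalIn.refl H) h3) (h.solv_K hH)

theorem sol (hs : Group.IsSolvable H) : (oppOf 3 H).relIndex H ∣ 6 := by
  rw [oppOf_relIndex Nat.prime_three]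
  rcases (h.st H (h.ne_top hs)).2 with e | ⟨L, -, hL, -⟩
  · exact e.2
  · exact absurd (inferInstance : Group.IsSolvable L) hL.not_solvable

theorem ns (hH : H ≠ ⊤) (hs : ¬ Group.IsSolvable H) :
    ∃ L : Subgroup G, (∃ π : L →* L7, NS H L π) ∨ ∃ π : L →* L13, NS H L π := by
  rcases (h.st H hH).2 with e | ⟨L, hL, ⟨⟨e⟩⟩ | ⟨⟨e⟩⟩, hc⟩
  · exact absurd e.1 hs
  · obtain ⟨L, π, n⟩ := exists_ns h.cl (Or.inl ⟨MulEquiv.refl _⟩) L e hc
    exact ⟨L, Or.inl ⟨π, n⟩⟩
  · obtain ⟨L, π, n⟩ := exists_ns h.cl (Or.inr ⟨MulEquiv.refl _⟩) L e hc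
    exact ⟨L, Or.inr ⟨π, n⟩⟩

/-- in a solvable subgroup every `x`-invariant `3'`-subgroup lies in `O_{3'}` -/
theorem xinv (hs : Group.IsSolvable H) (hx : orderOf x = 3) (xH : x ∈ H) (hR : R ≤ H)
    (h3 : ¬ 3 ∣ Nat.card R) (xR : x ∈ 𝒩(R)) : R ≤ oppOf 3 H := by
  have hn : H ≤ 𝒩(oppOf 3 H) := pcore_norm _ H
  have hKH : oppOf 3 H ≤ H := pcore_sub _ H
  have h3' : ¬ 3 ∣ Nat.card ↥(oppOf 3 H ⊔ R) := (p'group_iff Nat.prime_three).1
    (pigroupY (Or.inr (hR.trans hn)) (pcore_pgroup _ H) ((p'group_iff Nat.prime_three).2 h3))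
  have hle : oppOf 3 H ⊔ R ≤ H := sup_le hKH hR
  have xn : zpowers x ≤ 𝒩(oppOf 3 H ⊔ R) :=
    normsY (zpowers_le.2 (hn xH)) (zpowers_le.2 xR)
  by_contra hcon
  refine hcon (le_sup_right.trans (le_K ⟨hle, ?_⟩ h3'))
  have e : oppOf 3 H ⊔ R ⊔ zpowers x = H := by
    refine eq_of_le_card (sup_le hle (zpowers_le.2 xH)) ?_
    have hc : Nat.card (zpowers x) = 3 := by rw [Nat.card_zpowers, hx]
    rw [TI_cardMg (Or.inr xn) (coprime_TIg (by
      rw [hc]; exact (Nat.prime_three.coprime_iff_not_dvd.2 h3').symm)), hc,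
      ← Lagrange hKH, ← Lagrange (le_sup_left : oppOf 3 H ≤ oppOf 3 H ⊔ R), mul_assoc]
    refine Nat.mul_le_mul_left _ ((Nat.le_of_dvd (by norm_num) (h.sol hs)).trans ?_)
    have h1 : (oppOf 3 H).relIndex (oppOf 3 H ⊔ R) ≠ 1 := fun e =>
      hcon (le_sup_right.trans (relIndex_eq_one.1 e))
    have h2 := relIndex_pos (oppOf 3 H) (oppOf 3 H ⊔ R)
    omega
  conv_lhs => rw [← e]
  exact sup_le (normG _) xn

/-- the local lemma LL -/
theorem ll {v t : G} (hx : orderOf x = 3) (hv : v ∈ V x) (ht : t ∈ V x) (v1 : v ≠ 1) (t1 : t ≠ 1)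
    (hne : t ≠ v) (hK : ¬ 8 ∣ Nat.card ↥(oppOf 3 (𝒞[v] ⊓ 𝒞[t]))) : ¬ 64 ∣ Nat.card 𝒞[v] := by
  have := Fact.mk Nat.prime_two
  have v2 : orderOf v = 2 := orderOf_eq_prime (by rw [pow_two, ((h.cl.mem_V hx).1 hv).2]) v1
  have t2 : orderOf t = 2 := orderOf_eq_prime (by rw [pow_two, ((h.cl.mem_V hx).1 ht).2]) t1
  have xH : x ∈ 𝒞[v] := cent1C.1 (V_le x hv)
  have VH : V x ≤ 𝒞[v] := fun a ha => mem_cent1.2 (h.cl.V_comm hx ha hv)
  have hF : zpowers v ⊔ zpowers t = V x := by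
    refine eq_of_le_card (sup_le (zpowers_le.2 hv) (zpowers_le.2 ht)) ?_
    have hc : Nat.card (zpowers t) = 2 := by rw [Nat.card_zpowers, t2]
    rw [TI_cardMg (Or.inr (cents_norm (by rw [cent_zpowers]; exact zpowers_le.2 (VH ht)))) (by
      rw [inf_comm]
      refine prime_TIg (hc ▸ Nat.prime_two) fun e => hne ?_
      obtain ⟨n, hn⟩ := mem_powers_iff_mem_zpowers.2 (zpowers_le.1 e)
      simp only at hn
      rw [← pow_mod_orderOf, v2] at hn
      rcases Nat.mod_two_eq_zero_or_one n with e | e <;> rw [e] at hn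
      · exact absurd (by simpa using hn.symm) t1
      · simpa using hn.symm), hc, Nat.card_zpowers, v2]
    exact Nat.le_of_dvd (by norm_num) (h.cl.card_V hx)
  have hCV : 𝒞(V x) = 𝒞[v] ⊓ 𝒞[t] := by rw [← hF, centY, cent_zpowers, cent_zpowers]
  have hn : 𝒞[v] ≤ 𝒩(oppOf 3 𝒞[v]) := pcore_norm _ _
  have hKH : oppOf 3 𝒞[v] ≤ 𝒞[v] := pcore_sub _ _
  have h3 : ¬ 3 ∣ Nat.card ↥(oppOf 3 𝒞[v] ⊔ V x) := (p'group_iff Nat.prime_three).1
    (pigroupY (Or.inr (VH.trans hn)) (pcore_pgroup _ _)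
      ((p'group_iff Nat.prime_three).2 (h.cl.not3_V hx)))
  have xV : zpowers x ≤ 𝒞(V x) := cents_symm (by rw [cent_zpowers]; exact V_le x)
  have hc : Nat.card (zpowers x) = 3 := by rw [Nat.card_zpowers, hx]
  obtain ⟨P, hP, xP, VP⟩ := coprime_Sylow_subset Nat.prime_two
    (normsY (zpowers_le.2 (hn xH)) (cents_norm xV))
    (by rw [hc]; exact (Nat.prime_three.coprime_iff_not_dvd.2 h3).symm) (Or.inl inferInstance)
    le_sup_right ((pigroup_singleton Nat.prime_two).2 (h.cl.V_pgroup hx)) (cents_norm xV)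
  have hPp := Sylow_isPGroup hP
  have hVV : V x ≤ 𝒞(V x) := fun a ha b hb => h.cl.V_comm hx hb ha
  have h4 : Nat.card (V x) = 4 := by
    by_contra e
    have h1 := h.cl.card_V hx
    have h2 : Nat.card (V x) ∣ 2 := by
      have : Nat.card (V x) ≤ 4 := Nat.le_of_dvd (by norm_num) h1
      interval_cases Nat.card (V x) <;> simp_all
    have h5 : zpowers v = V x := eq_of_le_card (zpowers_le.2 hv)
      (by rw [Nat.card_zpowers, v2]; exact Nat.le_of_dvd two_pos h2)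
    obtain ⟨n, hn⟩ := mem_powers_iff_mem_zpowers.2 (h5 ▸ ht : t ∈ zpowers v)
    simp only at hn
    rw [← pow_mod_orderOf, v2] at hn
    rcases Nat.mod_two_eq_zero_or_one n with e | e <;> rw [e] at hn
    · exact t1 (by simpa using hn.symm)
    · exact hne (by simpa using hn.symm)
  have e1 : V x = P ⊓ 𝒞(V x) := by
    refine eq_of_le_card (le_inf VP hVV) ?_
    have h1 : P ⊓ 𝒞(V x) ≤ oppOf 3 (𝒞[v] ⊓ 𝒞[t]) := by
      rw [← hCV]
      refine (inf_le_inf_right _ hP.1).trans (le_K (N := _ ⊓ _) ⟨inf_le_right, normsIG (normsY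
        ((hCV.le.trans inf_le_left).trans hn) (cent_sub _)) le_rfl⟩
        fun e => h3 (e.trans (cardSg inf_le_left)))
    obtain ⟨k, hk⟩ := pgroup_card Nat.prime_two (hPp.to_le (inf_le_left : P ⊓ 𝒞(V x) ≤ P))
    have h2 : k ≤ 2 := by
      by_contra e
      exact hK (((pow_dvd_pow 2 (by omega : 3 ≤ k)).trans hk.symm.dvd).trans (cardSg h1))
    rw [hk, h4]
    exact Nat.pow_le_pow_right two_pos h2
  have e2 : P ≤ V x := by
    refine h.cl.le_V hx (fun e => h3 (e.trans (cardSg hP.1))) (sub_cent1.2 ?_)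
    refine CfsgLib.PLocal.Constr.a_times_b (h.cl.V_pgroup hx) hPp (norm_of_le VP)
      (by rw [hx]; norm_num) (zpowers_le.1 xP) (zpowers_le.1 xV) fun u hu hu' => ?_
    exact mem_cent1.1 (V_le x (e1 ▸ (⟨hu, hu'⟩ : u ∈ P ⊓ 𝒞(V x))))
  have h8 : ¬ 8 ∣ Nat.card ↥(oppOf 3 𝒞[v] ⊔ V x) := fun e => by
    have := (dvd_card_pHall hP (n := 2 ^ 3) ((isPiNat_prime Nat.prime_two).2 (Set.mem_singleton 2) |>.pow 3) e).trans
      (cardSg e2)
    rw [h4] at this
    norm_num at this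
  intro h64
  have key : ∀ n : ℕ, Nat.card 𝒞[v] ∣ Nat.card ↥(oppOf 3 𝒞[v] ⊔ V x) * n → ¬ 16 ∣ n → False := by
    intro n h1 h2
    have h5 : 2 ^ 6 ∣ _ := h64.trans h1
    obtain ⟨a, b, ha, hb, e⟩ := (Nat.dvd_mul.1 h5)
    obtain ⟨i, -, rfl⟩ := (Nat.dvd_prime_pow Nat.prime_two).1 (e ▸ dvd_mul_right a b : a ∣ 2 ^ 6)
    obtain ⟨j, -, rfl⟩ := (Nat.dvd_prime_pow Nat.prime_two).1
      (e ▸ dvd_mul_left b _ : b ∣ 2 ^ 6)
    rw [← pow_add] at e
    have := Nat.pow_right_injective le_rfl e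
    by_cases h6 : 3 ≤ i
    · exact h8 ((pow_dvd_pow 2 h6).trans ha)
    · exact h2 ((pow_dvd_pow 2 (by omega : 4 ≤ j)).trans hb)
  have key2 : ∀ (L : Subgroup G) {A : Type} [Group A] (π : L →* A), NS 𝒞[v] L π →
      Nat.card 𝒞[v] ∣ Nat.card ↥(oppOf 3 𝒞[v] ⊔ V x) * Nat.card A := by
    intro L A _ π n
    have e : L ⊔ V x = 𝒞[v] := le_antisymm (sup_le n.nrm.le VH) fun g hg => by
      obtain ⟨l, hl, w, hw, rfl⟩ := n.gen x xH hx g hg
      exact mul_mem_sup hl hw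
    have e3 : L.relIndex 𝒞[v] = L.relIndex (V x) := by
      rw [← relIndex_sup_norm (VH.trans n.nrm.norm), e]
    rw [← Lagrange n.nrm.le, ← Lagrange n.le, n.card,
      ← Lagrange (le_sup_left : oppOf 3 𝒞[v] ≤ oppOf 3 𝒞[v] ⊔ V x),
      relIndex_sup_norm (VH.trans hn), e3, mul_right_comm]
    exact Nat.mul_dvd_mul_right (Nat.mul_dvd_mul_left _ (relIndex_dvd_of_le_left _ n.le)) _
  by_cases hs : Group.IsSolvable 𝒞[v]
  · refine key 6 ?_ (by norm_num)
    rw [← Lagrange hKH]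
    exact Nat.mul_dvd_mul (cardSg le_sup_left) (h.sol hs)
  · obtain ⟨L, ⟨π, n⟩ | ⟨π, n⟩⟩ := h.ns (h.cent_ne_top v1) hs
    · exact key _ (key2 L π n) (by rw [card_L7]; norm_num)
    · exact key _ (key2 L π n) (by rw [card_L13]; norm_num)

end Min

end CfsgLib.C3
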