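import Cfsg.Agent.Lib.C3.Basic
import Cfsg.Agent.Lib.FT3.Char

/-! Package CF: every involution inverts an element of order three.  See `plans/C3.md`. -/

set_option autoImplicit false
set_option linter.unusedSectionVars false

namespace CfsgLib.C3

open Cfsg CfsgLib.BG Subgroup
open scoped MatrixGroups

universe u

namespace CfA

open CfsgLib.Char CfsgLib.CharDeep
open scoped ComplexConjugate

variable {G : Type*} [Group G] [Fintype G] {x : G}

theorem chars_of {θ : G → ℂ} (h1 : IsGeneralizedCharacter G θ) (h2 : classInner θ θ = 3)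
    (h3 : classInner θ (fun _ => 1) = 1) (h4 : θ 1 = 0) : ∃ (α β : G → ℂ) (n : ℕ),
    IsIrrCharacter G α ∧ IsIrrCharacter G β ∧ α ≠ (fun _ => 1) ∧ α 1 = n ∧ β 1 = n + 1 ∧
    ∀ g, θ g = 1 + α g - β g := by
  have h3' : classInner (fun _ => 1) θ = 1 := by rw [← classInner_conj_symm, h3]; simp
  have h7 : classInner (θ - fun _ => 1) (fun _ => 1) = 0 := by
    rw [classInner_sub_left, h3, classInner_one_one]; norm_num
  obtain ⟨χ₁, χ₂, hχ₁, hχ₂, hne, h8⟩ := exists_irr_of_genChar_norm_two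
    (isGenChar_sub h1 isGenChar_one) (by
      simp only [classInner_sub_left, classInner_sub_right, h2, h3, h3', classInner_one_one]
      norm_num)
  obtain ⟨a, ha0, ha⟩ := exists_irr_one_eq_nat hχ₁
  obtain ⟨b, hb0, hb⟩ := exists_irr_one_eq_nat hχ₂
  have h9 : (θ - (fun _ => 1) : G → ℂ) 1 = -1 := by simp [h4]
  have h10 : θ - (fun _ => 1) = χ₁ - χ₂ := by
    rcases h8 with h8 | h8 | h8
    · rw [h8, Pi.add_apply, ha, hb] at h9
      have : (a : ℤ) + b = -1 := by exact_mod_cast h9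
      omega
    · exact h8
    · rw [h8, Pi.sub_apply, Pi.neg_apply, ha, hb] at h9
      have : -(a : ℤ) - b = -1 := by exact_mod_cast h9
      omega
  rw [h10] at h7 h9
  rw [classInner_sub_left] at h7
  have hn1 : χ₁ ≠ fun _ => 1 := by
    rintro rfl
    rw [classInner_one_one, classInner_irr_of_ne hχ₂ isIrr_one hne.symm] at h7
    norm_num at h7
  refine ⟨χ₁, χ₂, a, hχ₁, hχ₂, hn1, ha, ?_, fun g => ?_⟩
  · rw [Pi.sub_apply, ha] at h9
    linear_combination -h9
  · have := congrFun h10 g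
    simp only [Pi.sub_apply] at this
    linear_combination this

theorem exists_pair [IsSimpleGroup G] {θ : G → ℂ} (h1 : IsGeneralizedCharacter G θ)
    (h2 : classInner θ θ = 3) (h3 : classInner θ (fun _ => 1) = 1) (h4 : θ 1 = 0) {a : G}
    (ha : a * a = 1) (a1 : a ≠ 1) (h5 : θ a = 0) :
    ∃ u w, IsConj u a ∧ IsConj w a ∧ θ (u * w) ≠ 0 := by
  obtain ⟨α, β, n, hα, hβ, hα1, e1, b1, hθ⟩ := chars_of h1 h2 h3 h4
  have hker := charKer_eq_bot_of_simple hα hα1
  have hn0 : 0 < n := by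
    obtain ⟨m, hm, e⟩ := exists_irr_one_eq_nat hα
    rw [e1] at e
    exact Nat.cast_injective e ▸ hm
  have hn' : (n : ℂ) ≠ 0 := by exact_mod_cast hn0.ne'
  have hn'' : (n : ℂ) + 1 ≠ 0 := by exact_mod_cast n.succ_ne_zero
  by_contra hcon
  push Not at hcon
  have hsum : ∑ u, ∑ v, classInd a u * classInd a v * θ (u * v) =
      ∑ u, ∑ v, classInd a u * classInd a v * (fun _ => (1 : ℂ)) (u * v) +
      ∑ u, ∑ v, classInd a u * classInd a v * α (u * v) -
      ∑ u, ∑ v, classInd a u * classInd a v * β (u * v) := by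
    simp only [← Finset.sum_add_distrib, ← Finset.sum_sub_distrib]
    exact Finset.sum_congr rfl fun u _ => Finset.sum_congr rfl fun v _ => by
      linear_combination classInd a u * classInd a v * hθ (u * v)
  have h0 : ∑ u, ∑ v, classInd a u * classInd a v * θ (u * v) = 0 :=
    Finset.sum_eq_zero fun u _ => Finset.sum_eq_zero fun v _ => by
      by_cases hu : IsConj u a
      · by_cases hv : IsConj v a
        · rw [hcon u v hu hv, mul_zero]
        · rw [classInd_of_not_isConj hv, mul_zero, zero_mul]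
      · rw [classInd_of_not_isConj hu, zero_mul, zero_mul]
  rw [h0, sum_sum_classInd_irr_mul hα, sum_sum_classInd_irr_mul hβ,
    sum_sum_classInd_irr_mul isIrr_one, e1, b1] at hsum
  obtain ⟨u, v, e2, e3⟩ := exists_char_invol (isCharacter_of_isIrr hα) ha
  have e4 : n = u + v := by rw [e1] at e2; exact_mod_cast e2
  have hv : v ≠ 0 := by
    rintro rfl
    have : a ∈ charKer α := (mem_charKer (isCharacter_of_isIrr hα)).2 (by rw [e2, e3]; simp)
    rw [hker] at this
    exact a1 this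
  have hb : β a = 1 + α a := by linear_combination hθ a - h5
  have h6 : ((𝒞[a]).index : ℂ) ≠ 0 := by exact_mod_cast index_ne_zero_of_finite
  rw [hb, e3] at hsum
  field_simp at hsum
  have h7 : ((n : ℂ) - (u - v)) ^ 2 = 0 :=
    mul_left_cancel₀ (pow_ne_zero 2 h6) (by linear_combination -hsum)
  have h8 : (n : ℂ) - (u - v) = 2 * v := by rw [e4]; push_cast; ring
  rw [h8, pow_eq_zero_iff two_ne_zero] at h7
  exact mul_ne_zero two_ne_zero (by exact_mod_cast hv) h7

theorem pow_four (h : Cl G) (hx : orderOf x = 3) {v : G} (hv : v ∈ V x) : (x * v) ^ 4 = x := by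
  obtain ⟨e1, e2⟩ := (h.mem_V hx).1 hv
  rw [Commute.mul_pow e1.symm, show 4 = 3 + 1 from rfl, pow_succ x, cube hx, one_mul,
    show 3 + 1 = 2 * 2 from rfl, pow_mul, pow_two v, e2, one_pow, mul_one]

theorem cent_mul (h : Cl G) (hx : orderOf x = 3) {v : G} (hv : v ∈ V x) : 𝒞[x * v] = 𝒞[x] := by
  refine le_antisymm (fun g hg => ?_) fun g hg => ?_
  · have : Commute g (x * v) := mem_cent1.1 hg
    have := this.pow_right 4
    rw [pow_four h hx hv] at this
    exact mem_cent1.2 this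
  · exact mem_cent1.2 (h.comm x hx g hg _ (mul_mem (mem_cent1.2 rfl) (V_le x hv)))

theorem sum_cent (h : Cl G) (hx : orderOf x = 3) [Fintype (V x)] [Fintype 𝒞[x]] (f : 𝒞[x] → ℂ) :
    ∑ c, f c = ∑ i : Fin 3, ∑ v : V x,
      f ⟨x ^ (i : ℕ) * v, mul_mem (pow_mem (mem_cent1.2 rfl) _) (V_le x v.2)⟩ := by
  rw [← Fintype.sum_prod_type']
  refine (Fintype.sum_bijective (fun p : Fin 3 × V x =>
    (⟨x ^ (p.1 : ℕ) * p.2, mul_mem (pow_mem (mem_cent1.2 rfl) _) (V_le x p.2.2)⟩ : 𝒞[x]))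
    ?_ _ _ fun _ => rfl).symm
  rw [Fintype.bijective_iff_surjective_and_card]
  refine ⟨fun c => ?_, ?_⟩
  · obtain ⟨i, v, hv, e⟩ := h.mem_cent hx (mem_cent1.1 c.2)
    refine ⟨(⟨i % 3, Nat.mod_lt _ (by norm_num)⟩, ⟨v, hv⟩), Subtype.ext ?_⟩
    simp only
    rw [e, ← hx, pow_mod_orderOf]
  · rw [Fintype.card_prod, Fintype.card_fin, ← Nat.card_eq_fintype_card,
      ← Nat.card_eq_fintype_card, h.card_cent hx]

theorem sum_int (h : Cl G) (hx : orderOf x = 3) [Fintype (V x)] {j : G} (hj : j * x * j⁻¹ = x⁻¹)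
    {χ : G → ℂ} (hχ : IsIrrCharacter G χ) :
    ∃ n : ℤ, ∑ v : V x, χ (x * v) = Nat.card (V x) * n := by
  classical
  have hc := isClassFunction_of_isIrr hχ
  let _ : CommGroup 𝒞[x] :=
    { (inferInstance : Group 𝒞[x]) with
      mul_comm := fun a b => Subtype.ext (h.comm x hx a a.2 b b.2) }
  have xC : x ∈ 𝒞[x] := mem_cent1.2 rfl
  obtain ⟨φ, hφ⟩ := CommGroup.exists_apply_ne_one_of_hasEnoughRootsOfUnity 𝒞[x] ℂ
    (a := ⟨x, xC⟩) fun e => three_ne_one hx (congrArg Subtype.val e)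
  have h3 : φ ⟨x, xC⟩ ^ 3 = 1 := by
    rw [← map_pow, show (⟨x, xC⟩ : 𝒞[x]) ^ 3 = 1 from Subtype.ext (cube hx), map_one]
  set ω : ℂ := ((φ ⟨x, xC⟩ : ℂˣ) : ℂ) with hω
  have ω3 : ω ^ 3 = 1 := by rw [hω, ← Units.val_pow_eq_pow_val, h3, Units.val_one]
  have ω1 : ω - 1 ≠ 0 := fun e => hφ (Units.ext (sub_eq_zero.1 e))
  have ω2 : ω ^ 2 + ω + 1 = 0 := mul_left_cancel₀ ω1 (by linear_combination ω3)
  have hl : ∀ (i : ℕ) (v : V x), (((φ ^ 2)
      ⟨x ^ i * v, mul_mem (pow_mem xC _) (V_le x v.2)⟩ : ℂˣ) : ℂ) = ω ^ (2 * i) := by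
    intro i v
    have : (⟨x ^ i * v, mul_mem (pow_mem xC _) (V_le x v.2)⟩ : 𝒞[x]) ^ 2 = ⟨x, xC⟩ ^ (2 * i) := by
      refine Subtype.ext ?_
      obtain ⟨e1, e2⟩ := (h.mem_V hx).1 v.2
      change (x ^ i * v) ^ 2 = x ^ (2 * i)
      rw [Commute.mul_pow (Commute.pow_left e1.symm i), pow_two (v : G), e2, mul_one, ← pow_mul,
        mul_comm]
    rw [MonoidHom.pow_apply, ← map_pow, this, map_pow, Units.val_pow_eq_pow_val]
  obtain ⟨k, hk⟩ := exists_classInner_eq_nat (isCharacter_restrict 𝒞[x] (isCharacter_of_isIrr hχ))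
    (isCharacter_of_isIrr (isIrr_unitsHom (φ ^ 2)))
  obtain ⟨m, hm⟩ := exists_classInner_eq_nat (isCharacter_restrict (V x) (isCharacter_of_isIrr hχ))
    (isCharacter_of_isIrr isIrr_one)
  rw [classInner_one_right] at hm
  have h0 : (Nat.card (V x) : ℂ) ≠ 0 := by exact_mod_cast Nat.card_pos.ne'
  rw [classInner, sum_cent h hx, h.card_cent hx] at hk
  simp only [hl, Fin.sum_univ_three, ← Finset.sum_mul, Fin.val_zero, Fin.val_one, Fin.val_two,
    pow_zero, one_mul, pow_one, mul_zero, map_one, mul_one] at hk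
  have jV : j ∈ 𝒩(V x) := mem_norm_iff.2 (by rw [cj_V, hj, V_inv])
  have e2 : ∑ v : V x, χ (x ^ 2 * v) = ∑ v : V x, χ (x * v) := by
    refine (Fintype.sum_equiv ((V x).normalizerMonoidHom ⟨j, jV⟩).toEquiv _ _ fun v => ?_).symm
    change χ (x * v) = χ (x ^ 2 * (j * v * j⁻¹))
    rw [pow_two, ← three_inv hx, ← hj, conj_mul, hc]
  have e3 : conj (ω ^ 2) + conj (ω ^ (2 * 2)) = -1 := by
    rw [← map_add, show ω ^ 2 + ω ^ (2 * 2) = -1 by linear_combination ω2 + ω * ω3]; simp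
  rw [e2] at hk
  refine ⟨m - 3 * k, ?_⟩
  push_cast at hk ⊢
  field_simp at hk hm
  linear_combination hm - hk + (∑ v : V x, χ (x * v)) * e3

end CfA

open CfsgLib.Char CfA in
open scoped ComplexConjugate in
theorem inverts {G : Type*} [Group G] [Finite G] [IsSimpleGroup G] (h : Cl G)
    (hn : ¬ IsMulCommutative G) {x a : G} (hx : orderOf x = 3) (ha : orderOf a = 2) :
    ∃ g : G, g * a * g⁻¹ * x * (g * a * g⁻¹)⁻¹ = x⁻¹ := by
  classical
  have := Fintype.ofFinite G
  obtain ⟨j, hj⟩ := exists_inverter h.h9 hn hx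
  have h0 : (Nat.card (V x) : ℂ) ≠ 0 := by exact_mod_cast Nat.card_pos.ne'
  set θ : G → ℂ := (3 : ℂ) • ∑ v : V x, classInd (x * v) with hθ
  have hcf : IsClassFunction G θ := fun a b => by
    simp only [hθ, Pi.smul_apply, Finset.sum_apply, isClassFunction_classInd _ a b]
  have hin : ∀ f, IsClassFunction G f →
      classInner θ f = (Nat.card (V x) : ℂ)⁻¹ * conj (∑ v : V x, f (x * v)) := fun f hf => by
    rw [hθ, classInner_smul_left, classInner_sum_left, map_sum, Finset.mul_sum, Finset.mul_sum]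
    refine Finset.sum_congr rfl fun v _ => ?_
    rw [classInner_classInd _ hf, cent_mul h hx v.2, h.card_cent hx]
    push_cast; field_simp
  have h1 : IsGeneralizedCharacter G θ := isGenChar_of_inner_int hcf fun χ hχ => by
    obtain ⟨n, e⟩ := sum_int h hx hj hχ
    exact ⟨n, by rw [hin χ (isClassFunction_of_isIrr hχ), e]; simp⟩
  have hz : ∀ g, θ g ≠ 0 → ∃ v ∈ V x, IsConj g (x * v) := fun g hg => by
    by_contra hcon
    push Not at hcon
    refine hg ?_
    rw [hθ, Pi.smul_apply, Finset.sum_apply,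
      Finset.sum_eq_zero fun (v : V x) _ => classInd_of_not_isConj (hcon v v.2), smul_zero]
  have hz' : ∀ g, g * g = 1 → θ g = 0 := fun g hg => by
    by_contra hcon
    obtain ⟨v, hv, e⟩ := hz g hcon
    obtain ⟨c, e⟩ := isConj_iff.1 e
    refine three_ne_one hx ?_
    rw [← pow_four h hx hv, ← e, conj_pow, show 4 = 2 * 2 from rfl, pow_mul, pow_two g, hg]
    simp
  have h3 : ∀ w : V x, θ (x * w) = 3 := fun w => by
    rw [hθ, Pi.smul_apply, Finset.sum_apply, Finset.sum_eq_single w, classInd_of_isConj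
      (IsConj.refl _), smul_eq_mul, mul_one]
    · intro v _ hne
      refine classInd_of_not_isConj fun e => hne ?_
      obtain ⟨c, e⟩ := isConj_iff.1 e
      have e1 : c * x * c⁻¹ = x := by
        conv_lhs => rw [← pow_four h hx w.2, ← conj_pow, e, pow_four h hx v.2]
      have e2 : c ∈ 𝒞[x * w] := by
        rw [cent_mul h hx w.2]; exact mem_cent1.2 (mul_inv_eq_iff_eq_mul.1 e1)
      rw [mem_cent1.1 e2, mul_inv_cancel_right] at e
      exact Subtype.ext (mul_left_cancel e).symm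
    · simp
  have a2 : a * a = 1 := by rw [← pow_two, ← ha, pow_orderOf_eq_one]
  obtain ⟨u, w, hu, hw, e⟩ := exists_pair h1 (by rw [hin θ hcf]; simp [h3, map_ofNat])
    (by rw [hin _ fun _ _ => rfl]; simp) (hz' 1 (one_mul 1)) a2 (by rintro rfl; simp at ha)
    (hz' a a2)
  obtain ⟨v, hv, e⟩ := hz _ e
  obtain ⟨c, e⟩ := isConj_iff.1 e
  obtain ⟨p, rfl⟩ := isConj_iff.1 hu.symm
  obtain ⟨q, rfl⟩ := isConj_iff.1 hw.symm
  have ai : a⁻¹ = a := inv_eq_of_mul_eq_one_right a2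
  refine ⟨c * p, ?_⟩
  rw [← pow_four h hx hv, ← conj_pow, ← inv_pow, ← e]
  congr 1
  simp only [mul_inv_rev, inv_inv, ai, mul_assoc, inv_mul_cancel_left]
  rw [← mul_assoc a a, a2, one_mul, mul_inv_cancel_left]

end CfsgLib.C3
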