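import Cfsg.Agent.Lib.C3.Basic
import Cfsg.Agent.Lib.GW.KPSLb
import Cfsg.Agent.Lib.GW.DS
import Cfsg.Agent.Lib.TL2.PSL

/-! Package PGL: facts on `PGL₂(7)` and `PSL₂(13)`.  See `plans/C3.md`. -/

set_option autoImplicit false

namespace CfsgLib.C3

open Cfsg CfsgLib.BG Subgroup
open scoped MatrixGroups

universe u

open CfsgLib.DihSyl

open CfsgLib.Dickson CfsgLib.GW.KP in
theorem exists_pgl {q : ℕ} [Fact q.Prime] (hq : Odd q) {P : Type*} [Group P] (L : Subgroup P) [L.Normal]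
    (hC : 𝒞(L) = ⊥) (e : L ≃* PSL(2, ZMod q)) (hne : L ≠ ⊤) :
    ∃ f : P ≃* PGL(2, ZMod q), L = (pslPGL (ZMod q)).range.comap f.toMonoidHom := by
  obtain ⟨ρ, h⟩ := exists_emb L hC e
  have h1 : ∀ a, (ρ a).right = 1 := fun a => RingEquiv.ext fun x =>
    DFunLike.congr_fun (Subsingleton.elim ((ρ a).right : ZMod q →+* ZMod q) (RingHom.id _)) x
  let f : P →* PGL(2, ZMod q) := MonoidHom.mk' (fun a => (ρ a).left) fun a b => by simp [h1]
  have h2 : ∀ a, ρ a = .inl (f a) := fun a => eq_inl (h1 a)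
  have h3 : Function.Injective f := fun a b e => h.inj (by rw [h2, h2, e])
  have h4 : ∀ g ∈ (pslPGL (ZMod q)).range, ∃ a ∈ L, f a = g := fun g hg =>
    (h.surj g hg).imp fun a ha => ⟨ha.1, SemidirectProduct.inl_injective ((h2 a).symm.trans ha.2)⟩
  have h5 : L = (pslPGL (ZMod q)).range.comap f := by
    refine le_antisymm (fun a ha => ?_) fun a ha => ?_
    · obtain ⟨g, hg, e⟩ := h.mem a ha
      exact mem_comap.2 (SemidirectProduct.inl_injective ((h2 a).symm.trans e) ▸ hg)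
    · obtain ⟨b, hb, e⟩ := h4 _ ha
      exact h3 e ▸ hb
  obtain ⟨y, hy⟩ : ∃ y, y ∉ L := by by_contra! H; exact hne (eq_top_iff.2 fun y _ => H y)
  refine ⟨MulEquiv.ofBijective f ⟨h3, fun g => ?_⟩, h5⟩
  by_cases hg : g ∈ (pslPGL (ZMod q)).range
  · exact (h4 g hg).imp fun _ => And.right
  obtain ⟨a, -, e⟩ := h4 (g * (f y)⁻¹) ((mul_mem_iff_of_index_two (index_psl_odd (by simpa using hq))).2
    (iff_of_false hg fun e => hy (h5.ge (mem_comap.2 (inv_mem_iff.1 e)))))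
  exact ⟨a * y, by rw [map_mul, e, inv_mul_cancel_right]⟩

theorem pgl_gen {q : ℕ} [Fact q.Prime] (hq : Odd q) {P : Type*} [Group P] (L : Subgroup P) [L.Normal]
    (hC : 𝒞(L) = ⊥) (e : L ≃* PSL(2, ZMod q)) (hne : L ≠ ⊤) : L.index = 2 ∧ Nonempty (P ≃* PGL(2, ZMod q)) := by
  obtain ⟨f, h⟩ := exists_pgl hq L hC e hne
  exact ⟨by rw [h, index_comap_of_surjective _ f.surjective, Dickson.index_psl_odd (by simpa using hq)], ⟨f⟩⟩

theorem pgl7 {P : Type*} [Group P] [Finite P] (L : Subgroup P) [L.Normal] (hC : 𝒞(L) = ⊥)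
    (e : L ≃* L7) (hne : L ≠ ⊤) : L.index = 2 ∧
    Nonempty (P ≃* (GL (Fin 2) (ZMod 7) ⧸ Subgroup.center (GL (Fin 2) (ZMod 7)))) :=
  have : Fact (Nat.Prime 7) := ⟨by norm_num⟩
  pgl_gen (by decide) L hC e hne

theorem pgl13 {P : Type*} [Group P] [Finite P] (L : Subgroup P) [L.Normal] (hC : 𝒞(L) = ⊥)
    (e : L ≃* L13) (hne : L ≠ ⊤) : L.index = 2 ∧
    Nonempty (P ≃* (GL (Fin 2) (ZMod 13) ⧸ Subgroup.center (GL (Fin 2) (ZMod 13)))) :=
  have : Fact (Nat.Prime 13) := ⟨by norm_num⟩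
  pgl_gen (by decide) L hC e hne

theorem two7 : (2 : ZMod 7) ≠ 0 := by decide

theorem two13 : (2 : ZMod 13) ≠ 0 := by decide

theorem sq_of_two {P : Type*} [Group P] {z : P} (h : orderOf z = 2) : z * z = 1 := by
  rw [← pow_two, ← h, pow_orderOf_eq_one]

theorem comap_cent1 {P Q : Type*} [Group P] [Group Q] {f : P →* Q} (hf : Function.Injective f) (y : P) :
    𝒞[f y].comap f = 𝒞[y] := by
  ext x
  simp only [mem_comap, mem_cent1, ← map_mul, hf.eq_iff]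

/-- outer involutions of `PGL₂(7)` -/
theorem pgl7_outer {P : Type*} [Group P] [Finite P] (L : Subgroup P) [L.Normal] (hC : 𝒞(L) = ⊥)
    (e : L ≃* L7) {y : P} (hy : y ∉ L) (h2 : y * y = 1) : Nat.card ↥(L ⊓ 𝒞[y]) = 6 := by
  have : Fact (Nat.Prime 7) := ⟨by norm_num⟩
  obtain ⟨f, h⟩ := exists_pgl (q := 7) (by decide) L hC e fun e => hy (e.ge (mem_top y))
  have t2 : f y * f y = 1 := by rw [← map_mul, h2, map_one]
  have t1 : f y ≠ 1 := fun e => hy (f.map_eq_one_iff.1 e ▸ L.one_mem)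
  obtain ⟨a, b, r, w, T⟩ := GW.KP.exists_tor 7 two7 (by simp) t2 t1
  have h3 := T.orderOf_cases (by simp; decide) (by simp) t1
  have h4 := mt (T.even_iff 7 t2 t1).1 fun e => hy (h.ge e)
  have h5 := (T.isDih 7 t2 t1).card
  rw [h, ← comap_cent1 (f := f.toMonoidHom) f.injective, ← comap_inf, comap_equiv_eq_map_symm',
    card_map_of_injective f.symm.injective]
  rw [Nat.card_zmod] at h3
  rw [Nat.even_iff] at h4
  exact h5.trans (by omega)

open CfsgLib.Dickson CfsgLib.GW.KP in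
/-- the centralizer of an inner involution of `PGL₂(7)` is dihedral of order sixteen -/
theorem pgl7_dih {P : Type*} [Group P] [Finite P] (L : Subgroup P) [L.Normal] (hC : 𝒞(L) = ⊥)
    (e : L ≃* L7) (hne : L ≠ ⊤) {z : P} (hz : z ∈ L) (h2 : orderOf z = 2) :
    ∃ r s : P, IsDih 𝒞[z] 8 r s ∧ r ∉ L ∧ s ∈ L ∧ r ^ 4 = z := by
  have : Fact (Nat.Prime 7) := ⟨by norm_num⟩
  obtain ⟨f, h⟩ := exists_pgl (q := 7) (by decide) L hC e hne
  have t2 : f z * f z = 1 := by rw [← map_mul, sq_of_two h2, map_one]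
  have t1 : f z ≠ 1 := fun e => by rw [f.map_eq_one_iff.1 e, orderOf_one] at h2; omega
  obtain ⟨x, y, r, w, T⟩ := exists_tor 7 two7 (by simp) t2 t1
  have h3 := T.orderOf_cases (by simp; decide) (by simp) t1
  have h4 := Nat.even_iff.1 ((T.even_iff 7 t2 t1).2 (h.le hz))
  rw [Nat.card_zmod] at h3
  obtain ⟨R, hR, h5⟩ := exists_gen_stab2 7 ⊤ T.ne
  have m : ∀ {g}, g ∈ zpowers R ↔ g • x = x ∧ g • y = y := by simp [hR, mem_stab2]
  have h6 : orderOf R = 8 := by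
    have h7 := orderOf_dvd_of_mem_zpowers (m.2 T.r_fix.2)
    rw [h5] at h7 ⊢
    rcases fix_two_cases t1 T.ne T.tx T.ty with ⟨a, b, hab, rfl, rfl⟩ | ⟨h1, -, h2⟩
    · have := card_stab2_emb (L := ⊤) le_top hab
      rw [index_top, Nat.card_zmod] at this
      rw [show orderOf r = 4 by omega] at h7
      omega
    · simpa using IrrPair.card_stab2 (L := ⊤) le_top (by simp) ⟨h1, T.ne, h2⟩
  have D : IsDih 𝒞[f z] 8 R w := by
    refine ⟨h6, (T.isDih 7 t2 t1).ss, (mob_bar 7).swap_conj T.ne T.wx T.wy (m.1 (mem_zpowers R)).1 (m.1 (mem_zpowers R)).2,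
      fun hw => T.ne ((m.1 hw).1.symm.trans T.wx), fun g => ?_⟩
    rw [mem_cent1, T.comm_iff 7 t2 t1, ← m, exists_or]
    refine or_congr ⟨fun ⟨i, e⟩ => ⟨i, e.symm⟩, fun ⟨i, e⟩ => ⟨i, e.symm⟩⟩ ⟨fun ⟨h1, h2⟩ => ?_, ?_⟩
    · obtain ⟨i, hi⟩ : g * w⁻¹ ∈ zpowers R := m.2 ⟨by rw [mul_smul, ← T.wy, inv_smul_smul, h2, T.wy],
        by rw [mul_smul, ← T.wx, inv_smul_smul, h1, T.wx]⟩
      exact ⟨i, by rw [show R ^ i = _ from hi, inv_mul_cancel_right]⟩
    · rintro ⟨i, rfl⟩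
      have := m.1 (zpow_mem_zpowers R i)
      exact ⟨by rw [mul_smul, T.wx, this.2], by rw [mul_smul, T.wy, this.1]⟩
  have D' := GW.isDih_map_of_injOn D f.symm.toMonoidHom fun _ _ => f.symm.map_eq_one_iff.1
  rw [← comap_equiv_eq_map_symm', show 𝒞[f z].comap f.toMonoidHom = _ from comap_cent1 f.injective z] at D'
  refine ⟨_, _, D', fun e => ?_, h.ge (by simpa using T.w_mem), f.injective ?_⟩
  · have := orderOf_dvd_of_mem_zpowers (T.mem_zpowers_iff.2 ⟨by simpa using h.le e, m.1 (mem_zpowers R)⟩)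
    rw [h6, show orderOf r = 4 by omega] at this
    omega
  · have := D.half (m := 4) rfl (by norm_num)
    simpa using D.eq_of_sq (zpow_mem_zpowers R _) (m.2 ⟨T.tx, T.ty⟩) this.1 t2 this.2 t1

theorem cent3_L7 {x : L7} (hx : orderOf x = 3) : Nat.card 𝒞[x] = 3 :=
  have := simple_L7
  PSL2Rec.O168.c3 card_L7 hx

theorem inv3_L13 {x : L13} (hx : orderOf x = 3) : ∃ j : L13, j * x * j⁻¹ = x⁻¹ :=
  have := simple_L13
  exists_inverter (by rw [card_L13]; decide) (Sm.not_comm (.inr ⟨MulEquiv.refl _⟩)) hx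

theorem conj3_L13 {x y : L13} (hx : orderOf x = 3) (hy : orderOf y = 3) : ∃ k, k * x * k⁻¹ = y := by
  obtain ⟨k, -, e | e⟩ := conj3' (H := ⊤) (by rw [card_L13]; decide) hx hy trivial trivial
  · exact ⟨k, e⟩
  · obtain ⟨j, hj⟩ := inv3_L13 hy
    exact ⟨j⁻¹ * k, by rw [← hj] at e; rw [mul_assoc j⁻¹, _root_.mul_inv_rev, ← mul_assoc, mul_assoc j⁻¹, e]; group⟩

open CfsgLib.Dickson in
theorem cent3_L13 {x : L13} (hx : orderOf x = 3) : Nat.card 𝒞[x] = 6 := by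
  have : Fact (Nat.Prime 13) := ⟨by norm_num⟩
  have hf := pslPGL_injective (K := ZMod 13)
  obtain ⟨t, ht⟩ := exists_prime_orderOf_dvd_card' (G := L13) 2 (by rw [card_L13]; decide)
  have t2 : pslPGL _ t * pslPGL _ t = 1 := by rw [← map_mul, sq_of_two ht, map_one]
  have t1 : pslPGL _ t ≠ 1 := fun e => by rw [hf (e.trans (map_one _).symm), orderOf_one] at ht; omega
  obtain ⟨a, b, r, w, T⟩ := GW.KP.exists_tor 13 two13 (by simp) t2 t1
  have h3 := T.orderOf_cases (by simp; decide) (by simp) t1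
  have h4 := Nat.even_iff.1 ((T.even_iff 13 t2 t1).2 ⟨t, rfl⟩)
  rw [Nat.card_zmod] at h3
  obtain ⟨r, rfl⟩ := T.r_fix.1
  rw [orderOf_injective _ hf] at h3 h4
  have h5 : orderOf r = 6 := by omega
  obtain ⟨k, rfl⟩ := conj3_L13 (x := r ^ 2) (by rw [orderOf_pow, h5]; rfl) hx
  rw [← cj_cent1, card_cj, ← h5, ← Nat.card_zpowers]
  congr 2
  ext g
  have := T.cent 13 (z := pslPGL _ (r ^ 2)) (g := pslPGL _ g) (by rw [map_pow]; exact pow_mem (mem_zpowers _) 2) fun e => by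
    rw [← map_mul, ← pow_add, ← map_one (pslPGL (ZMod 13)), hf.eq_iff, ← orderOf_dvd_iff_pow_eq_one, h5] at e
    omega
  rw [← map_mul, ← map_mul, hf.eq_iff, ← MonoidHom.map_zpowers, mem_map_iff_mem hf] at this
  rw [mem_cent1, ← this, and_iff_right ⟨g, rfl⟩]

theorem thirteen_L13 {x : L13} (hx : orderOf x = 3) :
    ∃ y : L13, orderOf y = 13 ∧ x ∈ 𝒩(zpowers y) := by
  have : Fact (Nat.Prime 13) := ⟨by norm_num⟩
  obtain ⟨y, hy⟩ := exists_prime_orderOf_dvd_card' (G := L13) 13 (by rw [card_L13]; decide)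
  let S : Sylow 13 L13 := Sylow.ofCard (zpowers y) (by
    rw [Nat.card_zpowers, hy, card_L13, show 1092 = 13 ^ 1 * 84 by rfl, Nat.factorization_mul (by simp) (by simp),
      Nat.Prime.factorization_pow Fact.out]
    simp [Nat.factorization_eq_zero_of_not_dvd])
  have h1 := (𝒩(zpowers y)).card_mul_index
  have h2 := card_sylow_modEq_one 13 L13
  rw [S.card_eq_index_normalizer] at h2
  change (𝒩(zpowers y)).index % 13 = 1 at h2
  rw [card_L13] at h1
  have h3 : 3 ∣ Nat.card 𝒩(zpowers y) := by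
    have h4 : (𝒩(zpowers y)).index ∈ Nat.divisors 1092 := Nat.mem_divisors.2 ⟨Dvd.intro_left _ h1, by simp⟩
    generalize (𝒩(zpowers y)).index = n at *
    have : ∀ n ∈ Nat.divisors 1092, n % 13 = 1 → n = 1 ∨ n = 14 := by decide +kernel
    rcases this n h4 h2 with rfl | rfl <;> omega
  obtain ⟨z, hz⟩ := exists_prime_orderOf_dvd_card' 3 h3
  obtain ⟨k, rfl⟩ := conj3_L13 ((orderOf_coe z).trans hz) hx
  exact ⟨k * y * k⁻¹, by rw [← MulAut.conj_apply, MulEquiv.orderOf_eq, hy], by rw [← cj_zpowers, ← cj_norm, conj_mem_cj]; exact z.2⟩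

theorem exists_psl {A : Type*} [Group A] (h : Sm A) :
    ∃ (q : ℕ) (_ : Fact q.Prime), Odd q ∧ 4 ≤ q ∧ Nonempty (A ≃* PSL(2, ZMod q)) :=
  h.elim (fun e => ⟨7, ⟨by norm_num⟩, by decide, by decide, e⟩) fun e => ⟨13, ⟨by norm_num⟩, by decide, by decide, e⟩

theorem conj2_sm {A : Type*} [Group A] (h : Sm A) {a b : A} (ha : orderOf a = 2)
    (hb : orderOf b = 2) : IsConj a b := by
  obtain ⟨q, _, -, h4, ⟨e⟩⟩ := exists_psl h
  simpa using e.symm.toMonoidHom.map_isConj ((TL2.psl_facts (by simpa using h4)).1 (e a) (e b)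
    (by rwa [e.orderOf_eq]) (by rwa [e.orderOf_eq]))

/-- a Sylow 2-subgroup is generated by two involutions with product of order two or four -/
theorem sylow_sm {A : Type*} [Group A] (h : Sm A) (T : Sylow 2 A) : ∃ a b : A, orderOf a = 2 ∧
    orderOf b = 2 ∧ (orderOf (a * b) = 2 ∨ orderOf (a * b) = 4) ∧
    (T : Subgroup A) = closure {a, b} := by
  obtain ⟨q, _, h1, -, ⟨e⟩⟩ := exists_psl h
  have : Finite A := Nat.finite_of_card_ne_zero (by rcases h.card with e | e <;> omega)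
  obtain ⟨S, n, r, s, hn, D⟩ := GHA.S2.dihSylow (F := ZMod q) (by simpa using h1)
  obtain ⟨g, hg⟩ := MulAction.exists_smul_eq A (S.mapSurjective (f := e.symm.toMonoidHom) e.symm.surjective) T
  obtain ⟨r, s, D⟩ : ∃ r s, IsDih (T : Subgroup A) n r s := ⟨_, _, by
    rw [← hg]
    exact GW.isDih_cj (GW.isDih_map_of_injOn D e.symm.toMonoidHom fun _ _ => e.symm.map_eq_one_iff.1) g⟩
  have e1 : r ^ (1 : ℤ) * s * (r ^ (0 : ℤ) * s) = r := by simpa using D.rpows_mul_rpows 1 0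
  refine ⟨_, _, D.orderOf_rpows 1, D.orderOf_rpows 0, ?_, le_antisymm (fun x hx => ?_) ((closure_le _).2 ?_)⟩
  · obtain ⟨k, rfl⟩ := D.exists_pow_of_isPGroup T.isPGroup'
    have h2 := D.card ▸ card_subgroup_dvd_card (T : Subgroup A)
    rw [e1, D.ord]
    rcases k with _ | _ | _ | k
    · omega
    · exact .inl rfl
    · exact .inr rfl
    · have h3 : 16 ∣ Nat.card A := Dvd.dvd.trans ⟨2 ^ k, by ring⟩ h2
      rcases h.card with e | e <;> omega
  · have a : r ^ (1 : ℤ) * s ∈ closure {r ^ (1 : ℤ) * s, r ^ (0 : ℤ) * s} := subset_closure (by simp)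
    have b : r ^ (0 : ℤ) * s ∈ closure {r ^ (1 : ℤ) * s, r ^ (0 : ℤ) * s} := subset_closure (by simp)
    have c := zpow_mem (e1 ▸ mul_mem a b)
    obtain ⟨i, rfl | rfl⟩ := (D.mem x).1 hx
    exacts [c i, mul_mem (c i) (by simpa using b)]
  · rintro _ (rfl | rfl) <;> exact D.rpows_mem _

end CfsgLib.C3
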