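import Cfsg.Agent.Lib.C3.Mod
import Cfsg.Agent.Lib.C3.PGL
import Cfsg.Agent.Lib.Invol.BaerSuzuki
import Cfsg.Agent.Lib.Classif.Conn
import Cfsg.Agent.Lib.InvHarv.ConstrLocal
import Cfsg.Agent.Lib.BG.S3_6b

/-! Package KQ: 2-constrained subgroups.  See `plans/C3.md`. -/

set_option autoImplicit false

namespace CfsgLib.C3

open Cfsg CfsgLib.BG Subgroup CfsgLib.PSL2Rec
open scoped MatrixGroups commutatorElement

universe u

variable {G : Type*} [Group G] [Finite G] {x j t : G} {Q R Y U U0 : Subgroup G}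

theorem idx_mod {d : ℕ} (hRQ : R ≤ 𝒩(Q)) (hd : d.Coprime (Nat.card Q))
    (h : ∀ q ∈ Q, ¬ R ≤ 𝒞[q] → d ∣ (𝒞[q]).relIndex R) : (𝒞(R)).relIndex Q ≡ 1 [MOD d] := by
  let _ : MulAction R G := MulAction.compHom G ((MulAut.conj : G →* MulAut G).comp R.subtype)
  have h1 := SylNum.dvd_ncard_of_orbits (H := R) (d := d) ((Q : Set G) \ (𝒞(R) ⊓ Q : Subgroup G))
    (fun g q hq => ⟨conj_mem_of_mem_norm (hRQ g.2) hq.1, fun k => hq.2 ⟨by
      simpa [mul_assoc] using conj_mem_of_mem_norm' (norms_cent (normG R) g.2) (show (g : G) * q * (g : G)⁻¹ ∈ 𝒞(R) from k.1), hq.1⟩⟩)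
    fun q hq => by
      rw [Nat.card_coe_set_eq, ← MulAction.index_stabilizer, show MulAction.stabilizer R q = (𝒞[q]).subgroupOf R from
        Subgroup.ext fun g => mul_inv_eq_iff_eq_mul.trans mem_cent1.symm]
      exact h q hq.1 fun k => hq.2 ⟨sub_cent1.1 k, hq.1⟩
  rw [Set.ncard_sdiff (show ((𝒞(R) ⊓ Q : Subgroup G) : Set G) ⊆ Q from inf_le_right), ← Nat.card_coe_set_eq,
    ← Nat.card_coe_set_eq, SetLike.coe_sort_coe, SetLike.coe_sort_coe, ← LagrangeI 𝒞(R) Q, ← Nat.mul_sub_one] at h1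
  exact ((Nat.modEq_iff_dvd' (relIndex_pos _ _)).2 ((coprimegS inf_le_right hd).dvd_of_dvd_mul_left h1)).symm

theorem dvd_relIndex {p : ℕ} (hp : p.Prime) (hR : IsPGroup p R) {C : Subgroup G} (h : ¬ R ≤ C) : p ∣ C.relIndex R := by
  obtain ⟨k, hk⟩ := pgp_relIndex hp ((pigroup_singleton hp).2 hR) C
  exact hk ▸ dvd_pow_self p fun e => h (relIndex_eq_one.1 (by simpa [e] using hk))

theorem idx_mod' {p : ℕ} (hp : p.Prime) (p2 : p ≠ 2) (hQ : IsPGroup 2 Q) (hR : IsPGroup p R) (hRQ : R ≤ 𝒩(Q)) :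
    (𝒞(R)).relIndex Q ≡ 1 [MOD p] := by
  obtain ⟨k, hk⟩ := pgroup_card Nat.prime_two hQ
  exact idx_mod hRQ (hk ▸ ((Nat.coprime_primes hp Nat.prime_two).2 p2).pow_right k) fun _ _ => dvd_relIndex hp hR

theorem seven_step (hQ : IsPGroup 2 Q) (hR : IsPGroup 7 R) (hRQ : R ≤ 𝒩(Q)) (hf : R ⊓ 𝒞(Q) = ⊥) (R1 : R ≠ ⊥)
    (h : (𝒞(R)).relIndex Q ∣ 64) : ∃ S ≤ R, Nat.card R = 7 * Nat.card S ∧ 8 * (𝒞(S)).relIndex Q ∣ (𝒞(R)).relIndex Q := by
  have p7 : Nat.Prime 7 := by norm_num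
  obtain ⟨k, hk⟩ := pgroup_card Nat.prime_two hQ
  have h1 : (𝒞(R)).relIndex Q ≠ 1 := fun e => R1 ((inf_eq_left.2 (centsC.1 (relIndex_eq_one.1 e))).symm.trans hf)
  have h64 := Nat.le_of_dvd (by norm_num) h
  obtain ⟨q, hq, h2, h3⟩ : ∃ q ∈ Q, ¬ R ≤ 𝒞[q] ∧ ¬ 49 ∣ (𝒞[q]).relIndex R := by
    by_contra! e
    have := idx_mod hRQ (hk ▸ (by norm_num : Nat.Coprime 49 2).pow_right k) e
    generalize (𝒞(R)).relIndex Q = n at *
    rw [Nat.ModEq] at this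
    obtain rfl : n = 50 := by omega
    norm_num at h
  refine ⟨𝒞[q] ⊓ R, inf_le_right, ?_, ?_⟩
  · obtain ⟨n, hn⟩ := pgp_relIndex p7 ((pigroup_singleton p7).2 hR) 𝒞[q]
    have := dvd_relIndex p7 hR h2
    rw [← LagrangeI 𝒞[q] R, mul_comm, hn]
    rw [hn] at this h3
    obtain rfl | rfl | hn := (by omega : n = 0 ∨ n = 1 ∨ 2 ≤ n)
    exacts [by norm_num at this, rfl, (h3 (pow_dvd_pow 7 hn)).elim]
  have e1 := idx_mod' p7 (by norm_num) hQ hR hRQ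
  have e2 := idx_mod' p7 (by norm_num) hQ (hR.to_le (inf_le_right : 𝒞[q] ⊓ R ≤ R)) (inf_le_right.trans hRQ)
  have e3 := relIndex_dvd_of_le_left Q (centS (inf_le_right : 𝒞[q] ⊓ R ≤ R))
  have e4 : (𝒞(𝒞[q] ⊓ R)).relIndex Q ≠ (𝒞(R)).relIndex Q := fun e => by
    have := (LagrangeI 𝒞(R) Q).trans (LagrangeI 𝒞(𝒞[q] ⊓ R) Q).symm
    rw [e, mul_left_inj' (relIndex_pos _ _).ne'] at this
    exact h2 (sub_cent1.2 ((eq_of_le_card (inf_le_inf_right Q (centS inf_le_right)) this.ge).ge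
      ⟨sub_cent1.1 inf_le_left, hq⟩).1)
  generalize (𝒞(R)).relIndex Q = n at *
  generalize (𝒞(𝒞[q] ⊓ R)).relIndex Q = m at *
  have := Nat.le_of_dvd (Nat.pos_of_dvd_of_pos h (by norm_num)) e3
  rw [Nat.ModEq] at e1 e2
  have hn : n = 8 ∨ n = 64 := by interval_cases n <;> omega
  rcases hn with rfl | rfl <;> interval_cases m <;> omega

theorem seven_8 (hQ : IsPGroup 2 Q) (hR : IsPGroup 7 R) (hRQ : R ≤ 𝒩(Q)) (hf : R ⊓ 𝒞(Q) = ⊥) (R1 : R ≠ ⊥)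
    (h : (𝒞(R)).relIndex Q ∣ 8) : Nat.card R = 7 := by
  obtain ⟨S, h1, h2, h3⟩ := seven_step hQ hR hRQ hf R1 (h.trans (by norm_num))
  have := Nat.dvd_one.1 (Nat.dvd_of_mul_dvd_mul_left (k := 8) (n := 1) (by norm_num) (h3.trans h))
  rw [h2, le_bot_iff.1 ((le_inf h1 (centsC.1 (relIndex_eq_one.1 this))).trans hf.le), card_bot]

theorem seven_64 (hQ : IsPGroup 2 Q) (hR : IsPGroup 7 R) (hRQ : R ≤ 𝒩(Q)) (hf : R ⊓ 𝒞(Q) = ⊥) (R1 : R ≠ ⊥)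
    (h : (𝒞(R)).relIndex Q ∣ 64) : Nat.card R ∣ 49 := by
  obtain ⟨S, h1, h2, h3⟩ := seven_step hQ hR hRQ hf R1 h
  obtain rfl | S1 := eq_or_ne S ⊥
  · rw [h2, card_bot]; norm_num
  rw [h2, seven_8 hQ (hR.to_le h1) (h1.trans hRQ) (eq_bot_iff.2 (hf ▸ inf_le_inf_right _ h1)) S1
    (Nat.dvd_of_mul_dvd_mul_left (k := 8) (by norm_num) (h3.trans h))]

theorem Cl.fpf (h : Cl G) (hx : orderOf x = 3) {p : ℕ} (hp : p.Prime) (p2 : p ≠ 2) (p3 : p ≠ 3) (hR : IsPGroup p R) :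
    R ⊓ 𝒞[x] = ⊥ := by
  have h1 := hR.to_le (inf_le_left : R ⊓ 𝒞[x] ≤ R)
  by_contra e
  exact p2 ((Nat.prime_dvd_prime_iff_eq hp Nat.prime_two).1 (hp.dvd_of_dvd_pow (n := 2) ((pgroup_pdiv hp h1 e).trans
    ((cardSg (h.le_V hx (fun k => p3 (pgroup_prime_eq hp Nat.prime_three h1 k).symm) inf_le_right)).trans (h.card_V hx)))))

theorem frob_bound (h : Cl G) (hx : orderOf x = 3) (hQ : IsPGroup 2 Q) (xQ : x ∈ 𝒩(Q)) {p : ℕ}
    (hp : p.Prime) (p2 : p ≠ 2) (p3 : p ≠ 3) (hR : IsPGroup p R) (R1 : R ≠ ⊥) (xR : x ∈ 𝒩(R))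
    (hRQ : R ≤ 𝒩(Q)) (hf : R ⊓ 𝒞(Q) = ⊥) : p = 7 ∧ Nat.card R ∣ 49 ∧
    ((∃ z ∈ Q, z ≠ 1 ∧ z * x = x * z ∧ R ≤ 𝒞[z]) → Nat.card R = 7) := by
  have hX : Nat.card (zpowers x) = 3 := (Nat.card_zpowers x).trans hx
  have F := frob_intro (zpowers_le.2 xR) R1 (prime_ne_bot (hX ▸ Nat.prime_three))
    (prime_semiregular (hX ▸ Nat.prime_three) (by rw [cent_zpowers, h.fpf hx hp p2 p3 hR]))
  have h1 := (Frobenius_Wielandt_fixpoint F (sup_le hRQ (zpowers_le.2 xQ)) (F.sdprod.card ▸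
    (pgroup_coprime_of_ne Nat.prime_two hp p2.symm hQ hR).mul_right (pgroup_coprime_of_ne Nat.prime_two Nat.prime_three
      (by norm_num) hQ (pgroup_of_card_prime hX))) (pgroup_sol Nat.prime_two hQ)).1
  rw [hX, cent_zpowers, ← LagrangeI 𝒞(R) Q, inf_comm 𝒞(R), mul_left_comm, mul_comm _ (Nat.card ↥(Q ⊓ 𝒞(R))),
    mul_right_inj' (cardG_ne_zero _)] at h1
  have h2 := (cardSg (h.le_V hx (R := Q ⊓ 𝒞[x]) (fun e => by
    simpa using pgroup_prime_eq Nat.prime_two Nat.prime_three (hQ.to_le inf_le_left) e) inf_le_right)).trans (h.card_V hx)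
  have h3 := idx_mod' hp p2 hQ hR hRQ
  have h4 : (𝒞(R)).relIndex Q ≠ 1 := fun e => R1 ((inf_eq_left.2 (centsC.1 (relIndex_eq_one.1 e))).symm.trans hf)
  have h5 : (∃ z ∈ Q, z ≠ 1 ∧ z * x = x * z ∧ R ≤ 𝒞[z]) → 1 < Nat.card ↥(Q ⊓ 𝒞(R ⊔ zpowers x)) := fun ⟨z, a, b, c, d⟩ =>
    cardG_gt1.2 (ne_bot_of_mem ⟨a, sub_cent1.1 (sup_le d (zpowers_le.2 (mem_cent1.2 c.symm)))⟩ b)
  have h6 := cardSg (inf_le_inf_left Q (cent_zpowers x ▸ centS le_sup_right : 𝒞(R ⊔ zpowers x) ≤ 𝒞[x]))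
  have h7 : ((𝒞(R)).relIndex Q = 8 ∨ (𝒞(R)).relIndex Q = 64) ∧
      (1 < Nat.card ↥(Q ⊓ 𝒞(R ⊔ zpowers x)) → (𝒞(R)).relIndex Q = 8) := by
    generalize Nat.card ↥(Q ⊓ 𝒞[x]) = c at *
    generalize Nat.card ↥(Q ⊓ 𝒞(R ⊔ zpowers x)) = d at *
    have := Nat.le_of_dvd (by norm_num) h2
    have := Nat.le_of_dvd (by norm_num) (h6.trans h2)
    interval_cases c <;> interval_cases d <;> omega
  obtain rfl : p = 7 := by
    have h8 : p ∣ 3 ^ 2 * 7 := by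
      have := (Nat.modEq_iff_dvd' (relIndex_pos _ _)).1 h3.symm
      rcases h7.1 with e | e <;> rw [e] at this
      exacts [this.trans (by norm_num), this]
    exact (Nat.prime_dvd_prime_iff_eq hp (by norm_num)).1 (((Nat.coprime_primes hp Nat.prime_three).2 p3).pow_right 2
      |>.dvd_of_dvd_mul_left h8)
  exact ⟨rfl, seven_64 hQ hR hRQ hf R1 (by rcases h7.1 with e | e <;> rw [e]; norm_num),
    fun k => seven_8 hQ hR hRQ hf R1 (h7.2 (h5 k)).dvd⟩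

theorem exists_R (h : Cl G) (hc : Y ⊓ 𝒞(opOf 2 Y) ≤ opOf 2 Y) (hx : orderOf x = 3) (xY : x ∈ Y) {P : Subgroup G}
    (hP : P ≤ Y) (xP : x ∈ 𝒩(P)) (h3 : ¬ 3 ∣ Nat.card P) {p : ℕ} (hp : p.Prime) (p2 : p ≠ 2) (hd : p ∣ Nat.card P) :
    p = 7 ∧ ∃ R, IsSylowOf p R P ∧ x ∈ 𝒩(R) ∧ Nat.card R ∣ 49 ∧
      ((∃ z ∈ Y, orderOf z = 2 ∧ Y ≤ 𝒞[z]) → Nat.card R = 7) := by
  obtain ⟨R, hR, xR⟩ := coprime_Sylow_exists hp (zpowers_le.2 xP) (by
    rw [Nat.card_zpowers, hx]; exact ((Nat.Prime.coprime_iff_not_dvd Nat.prime_three).2 h3).symm)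
    (Or.inl (Coprime.isSolvable_zpowers x))
  have hU := pgp_isPGroup (pcore_pgroup {2} Y)
  have RY := (pHall_sub hR).trans hP
  obtain ⟨h1, h2, h4⟩ := frob_bound h hx hU (pcore_norm _ Y xY) hp p2 (fun e => h3 (e ▸ hd)) (Sylow_isPGroup hR)
    (Sylow_ne_bot hp hR hd) (xR (mem_zpowers x)) (RY.trans (pcore_norm _ Y)) (eq_bot_iff.2 (coprime_TIg
      (pgroup_coprime_of_ne hp Nat.prime_two p2 (Sylow_isPGroup hR) hU) ▸ le_inf inf_le_left ((inf_le_inf_right _ RY).trans hc)))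
  refine ⟨h1, R, hR, xR (mem_zpowers x), h2, fun ⟨z, a, b, c⟩ => h4 ⟨z, pcore_max (π := {2}) (N := zpowers z)
    ⟨zpowers_le.2 a, cents_norm (cent_zpowers z ▸ c)⟩ (pgp_of_card_prime ((Nat.card_zpowers z).trans b) Nat.prime_two)
    (mem_zpowers z), fun e => by simp [e] at b, (mem_cent1.1 (c xY)).symm, RY.trans c⟩⟩

theorem not_dvd_K (Y : Subgroup G) : ¬ 3 ∣ Nat.card (oppOf 3 Y) := (p'group_iff Nat.prime_three).1 (pcore_pgroup _ Y)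

theorem NS.ord {L : Subgroup G} {A : Type*} [Group A] {π : L →* A} (n : NS Y L π) (hx : orderOf x = 3) (xL : x ∈ L) :
    orderOf (π ⟨x, xL⟩) = 3 :=
  orderOf_map_prime π Nat.prime_three (by rw [← hx, ← orderOf_coe]) fun e => not_dvd_K Y (hx.symm.dvd.trans (order_dvdG ((n.ker _).1 e)))

omit [Finite G] in
theorem NS.exists_P {L : Subgroup G} {A : Type*} [Group A] {π : L →* A} (n : NS Y L π) (xL : x ∈ L) {b : A}
    (hb : π ⟨x, xL⟩ ∈ 𝒩(zpowers b)) : ∃ P ≤ Y, x ∈ 𝒩(P) ∧ Nat.card P = orderOf b * Nat.card (oppOf 3 Y) := by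
  refine ⟨((zpowers b).comap π).map L.subtype, (map_subtype_le _).trans n.nrm.le,
    le_normalizer_map L.subtype ⟨_, le_normalizer_comap π hb, rfl⟩, ?_⟩
  rw [card_map_of_injective (subtype_injective L), ← Core.card_map_mul_card_inf_ker π, map_comap_eq_self_of_surjective n.surj,
    inf_eq_right.2 (ker_le_comap π _), Nat.card_zpowers, show π.ker = (oppOf 3 Y).subgroupOf L from Subgroup.ext n.ker,
    Core.card_subgroupOf_of_le n.le]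

theorem NS.no13 {L : Subgroup G} {π : L →* L13} (n : NS Y L π) (h : Cl G) (hc : Y ⊓ 𝒞(opOf 2 Y) ≤ opOf 2 Y)
    (hx : orderOf x = 3) (xY : x ∈ Y) : False := by
  obtain ⟨b, h1, h2⟩ := thirteen_L13 (n.ord hx (n.three x xY hx))
  obtain ⟨P, h3, h4, h5⟩ := n.exists_P _ h2
  rw [h1] at h5
  exact absurd (exists_R h hc hx xY h3 h4 (fun e => not_dvd_K Y ((by norm_num : Nat.Coprime 3 13).dvd_of_dvd_mul_left (h5 ▸ e)))
    (by norm_num : Nat.Prime 13) (by norm_num) (h5 ▸ dvd_mul_right _ _)).1 (by norm_num)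

theorem kq (h : Min G) (hY : Y ≠ ⊤) (hc : Y ⊓ 𝒞(opOf 2 Y) ≤ opOf 2 Y) (hx : orderOf x = 3)
    (xY : x ∈ Y) (jY : j ∈ Y) (hj : j * x * j⁻¹ = x⁻¹)
    (hh : ¬ 49 ∣ Nat.card Y ∨ (∃ z ∈ Y, orderOf z = 2 ∧ Y ≤ 𝒞[z]) ∨ ¬ Group.IsSolvable Y) :
    oppOf 3 Y = opOf 2 Y := by
  refine le_antisymm (pcore_max (pcore_normal _ Y) fun p hp hd => by_contra fun p2 => ?_) (opOf_le_oppOf (by norm_num) Y)
  have h3 := not_dvd_K Y
  have hX : (Nat.card (oppOf 3 Y)).Coprime (Nat.card (zpowers x)) := by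
    rw [Nat.card_zpowers, hx]; exact ((Nat.Prime.coprime_iff_not_dvd Nat.prime_three).2 h3).symm
  obtain ⟨rfl, R, hR, xR, h49, hz⟩ := exists_R h.cl hc hx xY (pcore_sub _ Y) (pcore_norm _ Y xY) h3 hp p2 hd
  have R1 := Sylow_ne_bot hp hR hd
  have h7 : Nat.card R ≠ 7 := fun e => by
    obtain ⟨c, hc, e1⟩ := coprime_Sylow_trans hp (zpowers_le.2 (pcore_norm _ Y xY)) hX (Or.inl (Coprime.isSolvable_zpowers x))
      hR (zpowers_le.2 xR) ((pHallJnorm (pcore_norm _ Y jY)).2 hR) (zpowers_le.2 (by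
        rw [← cj_norm, ← inv_mem_iff, ← hj, conj_mem_cj]; exact xR))
    have e2 : c⁻¹ * j ∈ 𝒩(R) := by rw [mem_norm_iff, cj_mul, e1, cj_cj, inv_mul_cancel, cj_one]
    have e3 := T36.der1_cent_cyclic (prime_cyclic (e ▸ hp)) le_rfl (commutator_mem_commutator xR e2)
    have e4 : c⁻¹ * j * x⁻¹ * (c⁻¹ * j)⁻¹ = x := by
      rw [show c⁻¹ * j * x⁻¹ * (c⁻¹ * j)⁻¹ = c⁻¹ * ((j * x * j⁻¹)⁻¹ * c) by group, hj, inv_inv,
        ← mem_cent1.1 ((cent_zpowers x).le hc.2), inv_mul_cancel_left]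
    rw [commutatorElement_def, mul_assoc, mul_assoc, ← mul_assoc (c⁻¹ * j), e4] at e3
    have e5 : x = (x * x)⁻¹ := by rw [eq_inv_iff_mul_eq_one, ← pow_three, ← hx, pow_orderOf_eq_one]
    exact R1 ((inf_eq_left.2 (sub_cent1.2 (e5 ▸ inv_mem e3))).symm.trans
      (h.cl.fpf hx hp p2 (by norm_num) (Sylow_isPGroup hR)))
  have e49 : 49 ∣ Nat.card (oppOf 3 Y) := by
    refine dvd_trans ?_ (cardSg (pHall_sub hR))
    have := cardG_gt1.2 R1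
    have := Nat.le_of_dvd (by norm_num) h49
    generalize Nat.card R = r at *
    interval_cases r <;> omega
  rcases hh with hh | hh | hh
  · exact hh (e49.trans (cardSg (pcore_sub _ Y)))
  · exact h7 (hz hh)
  obtain ⟨L, ⟨π, n⟩ | ⟨π, n⟩⟩ := h.ns hY hh
  · obtain ⟨-, b, -, h1, -, h2⟩ := triple_L7' (n.ord hx (n.three x xY hx))
    obtain ⟨P, h4, h5, h6⟩ := n.exists_P _ h2
    rw [h1] at h6
    obtain ⟨-, S, hS, -, h8, -⟩ := exists_R h.cl hc hx xY h4 h5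
      (fun e => h3 ((by norm_num : Nat.Coprime 3 7).dvd_of_dvd_mul_left (h6 ▸ e))) hp p2 (h6 ▸ dvd_mul_right _ _)
    exact absurd ((dvd_card_pHall hS (((isPiNat_prime (π := {7}) hp).2 rfl).pow 3) (h6 ▸ Nat.mul_dvd_mul_left 7 e49)).trans h8) (by norm_num)
  · exact n.no13 h.cl hc hx xY

theorem char2 (h2 : IsCharacteristicTwoType G) (hR : IsPGroup 2 R) (R1 : R ≠ ⊥) :
    𝒩(R) ⊓ 𝒞(opOf 2 𝒩(R)) ≤ opOf 2 𝒩(R) := by
  rw [opOf_eq_map Nat.prime_two]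
  exact fun g hg => ⟨⟨g, hg.1⟩, h2.2 R hR R1 (mem_centralizer_iff.2 fun u hu =>
    Subtype.ext (mem_cent_iff.1 hg.2 u ⟨u, hu, rfl⟩)), rfl⟩

theorem char2_inv (h2 : IsCharacteristicTwoType G) (ht : orderOf t = 2) :
    𝒞[t] ⊓ 𝒞(opOf 2 𝒞[t]) ≤ opOf 2 𝒞[t] := by
  have := char2 h2 (pgroup_of_card_prime ((Nat.card_zpowers t).trans ht)) (by rw [Ne, zpowers_eq_bot]; rintro rfl; simp at ht)
  rwa [InvHarv.normalizer_zpowers_of_orderOf_two ht] at this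

theorem Cl.inv_lift (h : Cl G) {A : Type*} [Group A] (π : G →* A) (hs : Function.Surjective π) (h3 : ¬ 3 ∣ Nat.card π.ker)
    (hx : orderOf x = 3) (hc : IsConj (π x) (π x)⁻¹) : ∃ j, j * x * j⁻¹ = x⁻¹ := by
  obtain ⟨k, hk⟩ := isConj_iff.1 hc
  obtain ⟨k, rfl⟩ := hs k
  obtain ⟨n, hn, e | e⟩ := h.conj3 (H := (zpowers (π x)).comap π) hx ((orderOf_conj k x).trans hx) (mem_zpowers _)
    (by rw [mem_comap, map_mul, map_mul, map_inv, hk]; exact inv_mem (mem_zpowers _))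
  · have := congrArg π e
    rw [map_mul, map_mul, map_mul, map_mul, map_inv, map_inv, hk, mem_cent1.1 (zpowers_le_cent1 _ hn), mul_inv_cancel_right,
      eq_inv_iff_mul_eq_one, ← map_mul] at this
    refine (h3 (hx ▸ order_dvdG ?_)).elim
    rw [show x = (x * x)⁻¹ by rw [eq_inv_iff_mul_eq_one, ← pow_three, ← hx, pow_orderOf_eq_one]]
    exact inv_mem this
  · exact ⟨k⁻¹ * n, by rw [show k⁻¹ * n * x * (k⁻¹ * n)⁻¹ = k⁻¹ * (n * x * n⁻¹) * k by group, e]; group⟩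

theorem par_pre (h : Min G) (hY : Y ≠ ⊤) (hc : Y ⊓ 𝒞(opOf 2 Y) ≤ opOf 2 Y) (hns : ¬ Group.IsSolvable Y) :
    ∃ π : Y →* L7, Function.Surjective π ∧ (∀ g : Y, π g = 1 ↔ (g : G) ∈ opOf 2 Y) ∧ ∀ a ∈ opOf 2 Y, a * a = 1 := by
  have := simple_L7
  obtain ⟨x, xY, hx⟩ := Cauchy Nat.prime_three (by_contra fun e => hns (h.solv_of_not3 e))
  obtain ⟨L, ⟨π, n⟩ | ⟨π, n⟩⟩ := h.ns hY hns
  swap
  · exact (n.no13 h.cl hc hx xY).elim
  have xL := n.three x xY hx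
  have hk : π.ker = (oppOf 3 Y).subgroupOf L := Subgroup.ext n.ker
  have hx' : orderOf (⟨x, xL⟩ : L) = 3 := by rw [← hx, ← orderOf_coe]
  obtain ⟨j, hj⟩ := (h.cl.sub L).inv_lift π n.surj (by rw [hk, Core.card_subgroupOf_of_le n.le]; exact not_dvd_K Y) hx'
    (O168.conj3 card_L7 _ _ (n.ord hx xL) ((orderOf_inv _).trans (n.ord hx xL)))
  have hK := kq h hY hc hx xY (n.nrm.le j.2) (congrArg Subtype.val hj) (Or.inr (Or.inr hns))
  have QL := hK ▸ n.le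
  have hU := pgp_isPGroup (pcore_pgroup {2} Y)
  rw [hK] at hk
  obtain ⟨h1, h4⟩ := mod_main (h.cl.sub L) π n.surj (hk ▸ hU.comap_subtype) (fun c hc' => hk.ge (hc ⟨n.nrm.le c.2,
    mem_cent_iff.2 fun q hq => congrArg Subtype.val (mem_cent_iff.1 hc' ⟨q, QL hq⟩ (hk.ge hq))⟩)) hx'
  have he : ∀ a ∈ opOf 2 Y, a * a = 1 := fun a ha => congrArg Subtype.val (h1 ⟨a, QL ha⟩ (hk.ge ha))
  rw [show Nat.card π.ker = Nat.card (opOf 2 Y) by rw [hk, Core.card_subgroupOf_of_le QL],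
    show Nat.card ↥(π.ker ⊓ 𝒞[(⟨x, xL⟩ : L)]) = Nat.card ↥(opOf 2 Y ⊓ 𝒞[x]) by
      rw [← Core.card_subgroupOf_of_le (inf_le_left.trans QL), hk]
      congr 2; ext u; simp [mem_subgroupOf, mem_cent1, Subtype.ext_iff]] at h4
  obtain rfl : L = Y := le_antisymm n.nrm.le fun g hg => by
    obtain ⟨l, hl, v, hv, rfl⟩ := n.gen x xY hx g hg
    have vY : v ∈ Y := (mul_mem_cancel_left (n.nrm.le hl)).1 hg
    refine mul_mem hl (QL ?_)
    have e4 : Nat.card ↥(opOf 2 Y ⊓ 𝒞[x]) = 4 → v ∈ opOf 2 Y := fun e => ((eq_of_le_card (h.cl.le_V hx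
      (R := opOf 2 Y ⊓ 𝒞[x]) (by rw [e]; norm_num) inf_le_right) (e ▸ Nat.le_of_dvd (by norm_num) (h.cl.card_V hx))).ge hv).1
    rcases h4 with ⟨e1, e2, -⟩ | e | e
    rotate_left
    · exact e4 e.2
    · exact e4 e.2.1
    obtain ⟨v1, v2⟩ := (h.cl.mem_V hx).1 hv
    have k1 := Classif.card_le_sq_card_centralizer (fun a ha => (pow_two a).trans (he a ha)) (pcore_norm _ Y vY)
      fun e _ => by rw [pow_two, v2, one_mul, mul_one]
    have k2 := h.cl.card_mod hx (R := opOf 2 Y ⊓ 𝒞[v]) (zpowers_le.1 (normsI (zpowers_le.2 (pcore_norm _ Y xY))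
      (norms_cent1 (zpowers_le.2 (mem_cent1.2 v1.symm)))))
    rw [inf_right_comm (opOf 2 Y), (inf_eq_left (a := opOf 2 Y ⊓ 𝒞[x])).2 fun a ha =>
      mem_cent1.2 (h.cl.comm x hx a ha.2 v (mem_cent1.2 v1)), e2, Nat.ModEq] at k2
    have k3 := e1 ▸ cardSg (inf_le_left : opOf 2 Y ⊓ 𝒞[v] ≤ _)
    refine hc ⟨vY, sub_cent1.1 ((eq_of_le_card inf_le_left ?_).ge.trans inf_le_right)⟩
    have := Nat.le_of_dvd (by norm_num) k3
    rw [e1] at k1 ⊢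
    generalize Nat.card ↥(opOf 2 Y ⊓ 𝒞[v]) = c at *
    interval_cases c <;> omega
  exact ⟨π, n.surj, fun g => hK ▸ n.ker g, he⟩

theorem par_of (h : Min G) (h2 : IsCharacteristicTwoType G) (hR : IsPGroup 2 R) (R1 : R ≠ ⊥)
    (hns : ¬ Group.IsSolvable 𝒩(R)) : ∃ π, Par 𝒩(R) (opOf 2 𝒩(R)) π := by
  have key : ∀ {R : Subgroup G}, IsPGroup 2 R → R ≠ ⊥ → ¬ Group.IsSolvable 𝒩(R) → R ≤ opOf 2 𝒩(R) ∧
      (∀ a ∈ opOf 2 𝒩(R), a * a = 1) ∧ ∃ π : 𝒩(R) →* L7, Function.Surjective π ∧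
      (∀ g, π g = 1 ↔ (g : G) ∈ opOf 2 𝒩(R)) ∧ Nat.card (opOf 2 𝒩(R)) * 168 = Nat.card 𝒩(R) := fun {R} hR R1 hns => by
    obtain ⟨π, h3, h4, h5⟩ := par_pre h (h.norm_ne_top R1 (pgroup_sol Nat.prime_two hR)) (char2 h2 hR R1) hns
    refine ⟨pcore_max (normalIn_norm R) ((pigroup_singleton Nat.prime_two).2 hR), h5, π, h3, h4, ?_⟩
    rw [← card_ker_mul π, MonoidHom.range_eq_top.2 h3, card_top, card_L7, ← Core.card_subgroupOf_of_le (pcore_sub _ _),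
      show π.ker = (opOf 2 𝒩(R)).subgroupOf _ from Subgroup.ext h4]
  obtain ⟨h3, h4, π, h5, h6, h7⟩ := key hR R1 hns
  have hC : 𝒞(opOf 2 𝒩(R)) = opOf 2 𝒩(R) := le_antisymm
    ((le_inf ((centS h3).trans (cent_sub R)) le_rfl).trans (char2 h2 hR R1)) (MD.abelian h4)
  obtain ⟨k3, k4, -, -, -, k7⟩ := key (pgp_isPGroup (pcore_pgroup {2} 𝒩(R))) (subG1_contra h3 R1)
    fun e => hns (solvableS (pcore_norm _ _) e)
  rw [le_antisymm ((MD.abelian k4).trans ((centS k3).trans hC.le)) k3, h7] at k7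
  exact ⟨π, (eq_of_le_card (pcore_norm _ _) k7.ge).symm, hC, h4, h5, h6⟩

theorem par_of_inv (h : Min G) (h2 : IsCharacteristicTwoType G) (ht : orderOf t = 2)
    (hns : ¬ Group.IsSolvable 𝒞[t]) :
    ∃ π, Par 𝒞[t] (opOf 2 𝒞[t]) π ∧ Nat.card ↥(opOf 2 𝒞[t]) = 16 := by
  have t1 : t ≠ 1 := by rintro rfl; simp at ht
  have := par_of h h2 (pgroup_of_card_prime ((Nat.card_zpowers t).trans ht)) (by rwa [Ne, zpowers_eq_bot])
  rw [InvHarv.normalizer_zpowers_of_orderOf_two ht] at this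
  obtain ⟨π, p⟩ := this hns
  exact ⟨π, p, p.sixteen h.cl (cent1id t) t1 le_rfl⟩

theorem inv_small0 {b y : G} (hU : ∀ u ∈ U, u * u = 1) (hb : b * b = 1) (bU : b ∈ 𝒩(U)) (yU : y ∈ 𝒩(U))
    (yC : y ∉ 𝒞(U)) {p : ℕ} (hp : p.Prime) (p2 : p ≠ 2) (hy : orderOf y = p)
    (hby : b * y * b⁻¹ = y⁻¹) (h4 : (𝒞[b]).relIndex U ≤ 4) : p = 3 ∨ p = 5 := by
  have hY : Nat.card (zpowers y) = p := (Nat.card_zpowers y).trans hy
  have h2 : IsPGroup 2 U := fun q => ⟨1, Subtype.ext (by simpa [pow_two] using hU q q.2)⟩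
  have hco := pgroup_coprime_of_ne Nat.prime_two hp p2.symm h2 (pgroup_of_card_prime hY)
  have AU : ⁅U, zpowers y⁆ ≤ U := commg_subl.2 (zpowers_le.2 yU)
  have A0 := coprime_abel_cent_TI (zpowers_le.2 yU) hco (abelian_iff.2 (MD.abelian hU))
  have A1 : ⁅U, zpowers y⁆ ≠ ⊥ := fun e => yC (zpowers_le.1 (commG1'.1 e))
  have bA : b ∈ 𝒩(⁅U, zpowers y⁆) := zpowers_le.1 (normsR (zpowers_le.2 bU) (zpowers_le.2 (by
    rw [mem_norm_iff, cj_zpowers, hby, zpowers_inv])))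
  have yA := commg_normr U (zpowers y)
  generalize ⁅U, zpowers y⁆ = A at *
  have e1 := idx_mod' hp p2 (h2.to_le AU) (pgroup_of_card_prime hY) yA
  have e2 := LagrangeI 𝒞(zpowers y) A
  rw [inf_comm, A0, card_bot, one_mul] at e2
  have e3 := Classif.card_le_sq_card_centralizer (fun a ha => (pow_two a).trans (hU a (AU ha))) bA
    fun e _ => by rw [pow_two, hb, one_mul, mul_one]
  have ab := abelianS AU (abelian_iff.2 (MD.abelian hU))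
  have CA : cj y (A ⊓ 𝒞[b]) ≤ A := cj_le_of_mem_norm (yA (mem_zpowers y)) inf_le_left
  have e4 := TI_cardMg (H := A ⊓ 𝒞[b]) (K := cj y (A ⊓ 𝒞[b])) (Or.inl (inf_le_left.trans (sub_abelian_norm ab CA)))
    (eq_bot_iff.2 fun u hu => A0.le ⟨hu.1.1, by
      have k := hu.2
      rw [cj_inf, cj_cent1] at k
      have k2 := mul_mem (cent1C.1 k.2) (inv_mem (cent1C.1 hu.1.2))
      rw [show y * b * y⁻¹ * b⁻¹ = y * (b * y * b⁻¹)⁻¹ by group, hby, inv_inv, ← pow_two] at k2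
      rw [← nt_gen_prime (hY ▸ hp) (pow_mem (mem_zpowers y) 2) fun e => p2 ((Nat.prime_dvd_prime_iff_eq hp Nat.prime_two).1
        (hy ▸ orderOf_dvd_of_pow_eq_one e)), cent_zpowers]
      exact cent1C.1 k2⟩)
  have e5 := BG.card_le_of_le (sup_le inf_le_left CA : A ⊓ 𝒞[b] ⊔ _ ≤ A)
  have e6 := (relIndex_le_of_le_right AU (relIndex_pos 𝒞[b] U).ne').trans h4
  have e7 := LagrangeI 𝒞[b] A
  have e8 := cardG_gt1.2 A1
  obtain ⟨k, hk⟩ := pgroup_card Nat.prime_two (h2.to_le (inf_le_left.trans AU : A ⊓ 𝒞[b] ≤ U))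
  rw [e4, card_cj] at e5
  rw [inf_comm] at e7
  rw [e2] at e1
  have e9 : Nat.card A = 4 ∨ Nat.card A = 16 := by
    rw [hk] at e3 e5 e7
    have : 2 ^ k ≤ 4 := by
      have : 2 ^ k * 2 ^ k ≤ 2 ^ k * 4 := e5.trans (e7 ▸ Nat.mul_le_mul_left _ e6)
      exact Nat.le_of_mul_le_mul_left this (by positivity)
    have : k ≤ 2 := (Nat.pow_le_pow_iff_right one_lt_two).1 this
    interval_cases k <;> omega
  have : p ∣ 3 * 5 := by
    have := (Nat.modEq_iff_dvd' e8.le).1 e1.symm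
    rcases e9 with e | e <;> rw [e] at this
    exacts [this.trans (by norm_num), this]
  exact ((Nat.Prime.dvd_mul hp).1 this).imp (Nat.prime_dvd_prime_iff_eq hp Nat.prime_three).1
    (Nat.prime_dvd_prime_iff_eq hp Nat.prime_five).1

/-- an involution with small action on `U / Φ(U)` inverts only elements of order three or five -/
theorem inv_small {b y : G} (hU : IsPGroup 2 U) (hb : b * b = 1) (bU : b ∈ 𝒩(U)) (yU : y ∈ 𝒩(U))
    (yC : y ∉ 𝒞(U)) {p : ℕ} (hp : p.Prime) (p2 : p ≠ 2) (hy : orderOf y = p)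
    (hby : b * y * b⁻¹ = y⁻¹) (h0 : U0 ≤ U ⊓ 𝒞[b])
    (h4 : (U0 ⊔ frattiniOf U).relIndex U ≤ 4) : p = 3 ∨ p = 5 := by
  have hU' := (pigroup_singleton Nat.prime_two).2 hU
  have hN : 𝒩(U) ≤ 𝒩(frattiniOf U) := (Phi_char U).norms le_rfl
  have UN := (normG U).trans hN
  have k : cos (frattiniOf U) y ∉ 𝒞(quo (frattiniOf U) U) := fun e => yC (zpowers_le.1 (coprime_cent_Phi Nat.prime_two hU'
    (pgroup_coprime_of_ne Nat.prime_two hp p2.symm hU (pgroup_of_card_prime ((Nat.card_zpowers y).trans hy))) (by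
      rw [commGC, ← quo_cent_iff (zpowers_le.2 (hN yU)) UN, quo, mim_zpowers _ (hN yU)]; exact zpowers_le.2 e)))
  refine inv_small0 (b := cos (frattiniOf U) b) (fun u hu => ?_) (by rw [← pf_mul _ (hN bU) (hN bU), hb, pf_one])
    (pf_mem_normalizer _ bU) (pf_mem_normalizer _ yU) k hp p2 ?_ (by rw [← pf_conj _ (hN bU) (hN yU), hby, pf_inv]) ?_
  · obtain ⟨w, hw, rfl⟩ := (mem_mim_of_le _ UN).1 hu
    rw [← pf_mul _ (UN hw) (UN hw), ← pow_two]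
    exact cos_eq_one_of_mem (pow_mem_Phi Nat.prime_two hU' hw)
  · exact ((Nat.dvd_prime hp).1 (hy ▸ orderOf_pf_dvd _ (hN yU))).resolve_left fun e =>
      k (by rw [cos, orderOf_eq_one_iff.1 e]; exact one_mem _)
  · rw [← relIndex_quo (h0.trans (inf_le_left.trans UN)) UN] at h4
    exact (relIndex_le_of_le_left ((mim_mono _ (h0.trans inf_le_right)).trans (mim_cent1_le _ (hN bU)))
      (relIndex_pos _ _).ne').trans h4

end CfsgLib.C3
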