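import Cfsg.Agent.Lib.C3.Frame
import Cfsg.Agent.Lib.C3.Kq
import Cfsg.Agent.Lib.C3.Cf
import Cfsg.Agent.Lib.Transfer.Cocycle
import Cfsg.Agent.Lib.Core.Frattini

/-! Package BIG.  See `plans/C3.md`. -/

set_option autoImplicit false
set_option linter.unusedSectionVars false

namespace CfsgLib.C3

open Cfsg CfsgLib.BG Subgroup
open scoped MatrixGroups

universe u

variable {G : Type*} [Group G] [Finite G] {H Q : Subgroup G} {π : H →* L7}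

namespace Big

variable {A A' T F X : Subgroup G} {x a b g m q : G}

/-- Baer-Suzuki inside a subgroup -/
theorem bs (hb : b ∈ X) (b2 : b * b = 1) (h : b ∉ opOf 2 X) :
    ∃ y ∈ X, ∃ r : ℕ, r.Prime ∧ r ≠ 2 ∧ orderOf y = r ∧ b * y * b⁻¹ = y⁻¹ := by
  obtain ⟨-, y, -, y1, o, e⟩ := CfsgLib.Invol.exists_inverted_of_not_mem_pCore (G := X) (t := ⟨b, hb⟩)
    (Subtype.ext b2) fun e => h (opOf_eq_map Nat.prime_two X ▸ mem_map_of_mem X.subtype e)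
  obtain ⟨r, hr, k, hk⟩ := Nat.exists_prime_and_dvd (mt orderOf_eq_one_iff.1 y1)
  have k0 : k ≠ 0 := fun e => (orderOf_pos y).ne' (by rw [hk, e, mul_zero])
  refine ⟨(y ^ k : X), (y ^ k).2, r, hr, fun e => ?_, ?_, ?_⟩
  · exact (Nat.not_even_iff_odd.2 o) (by rw [hk, e]; exact even_two_mul k)
  · rw [Subgroup.orderOf_coe, orderOf_pow' _ k0, hk, Nat.gcd_mul_left_left,
      Nat.mul_div_cancel _ (Nat.pos_of_ne_zero k0)]
  · have := congrArg (fun u : X => ((u ^ k : X) : G)) e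
    simpa only [conj_pow, inv_pow, coe_mul, coe_inv] using this

/-- elementary subgroups of `H` that are as large as `Q` -/
structure Off (H Q A : Subgroup G) : Prop where
  le : A ≤ H
  sq : ∀ a ∈ A, a * a = 1
  card : Nat.card Q ≤ Nat.card A
  ne : ¬ A ≤ Q

omit [Finite G] in
theorem comm_of_sq (ha : a * a = 1) (hb : b * b = 1) (h : a * b * (a * b) = 1) : a * b = b * a := by
  rw [eq_inv_of_mul_eq_one_left h, mul_inv_rev, inv_eq_of_mul_eq_one_right ha,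
    inv_eq_of_mul_eq_one_right hb]

omit [Finite G] in
theorem Off.comm (o : Off H Q A) (ha : a ∈ A) (hb : b ∈ A) : a * b = b * a :=
  comm_of_sq (o.sq a ha) (o.sq b hb) (o.sq _ (mul_mem ha hb))

theorem Off.pg (o : Off H Q A) : IsPGroup 2 A := fun a => ⟨1, Subtype.ext (by
  simpa [pow_two] using o.sq a a.2)⟩

variable (p : Par H Q π)
include p

theorem HN : H ≤ 𝒩(Q) := p.norm.ge

theorem QC : Q ≤ 𝒞(Q) := p.cent.ge

theorem cent_mul (hq : q ∈ Q) : Q ⊓ 𝒞[q * a] = Q ⊓ 𝒞[a] := by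
  ext b
  refine and_congr_right fun hb => ?_
  show b ∈ 𝒞[q * a] ↔ b ∈ 𝒞[a]
  rw [mem_cent1, mem_cent1, ← mul_assoc, p.comm hb hq, mul_assoc, mul_assoc, mul_left_cancel_iff]

theorem off_cj (h1 : cj g Q ≤ H) (h2 : g ∉ H) : Off H Q (cj g Q) :=
  ⟨h1, fun a ha => by
    obtain ⟨b, hb, rfl⟩ := mem_cj'.1 ha
    rw [conj_mul, p.exp b hb, mul_one, mul_inv_cancel], (card_cj g Q).ge,
    fun e => h2 (p.norm.le (mem_norm_of_cj_le e))⟩

theorem sq_bound (aH : a ∈ H) (a2 : a * a ∈ Q) :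
    Nat.card Q ≤ Nat.card ↥(Q ⊓ 𝒞[a]) * Nat.card ↥(Q ⊓ 𝒞[a]) := by
  let f : Q →* G := MonoidHom.mk' (fun q => a * q * a⁻¹ * q) fun u v => by
    have := p.comm u.2 (p.conj_mem aH v.2)
    calc a * (u * v : G) * a⁻¹ * (u * v) = a * u * a⁻¹ * (a * v * a⁻¹ * u) * v := by group
      _ = _ := by rw [← this]; group
  have h1 : f.range ≤ Q ⊓ 𝒞[a] := by
    rintro _ ⟨u, rfl⟩
    refine ⟨mul_mem (p.conj_mem aH u.2) u.2, mem_cent1.2 ?_⟩
    show a * u * a⁻¹ * u * a = a * (a * u * a⁻¹ * u)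
    calc a * u * a⁻¹ * u * a = u * (a * u * a⁻¹) * a := by rw [p.comm (p.conj_mem aH u.2) u.2]
      _ = u * (a * a) * a⁻¹ * u := by group
      _ = _ := by rw [← p.comm a2 u.2]; group
  have h2 : f.ker ≤ (Q ⊓ 𝒞[a]).subgroupOf Q := fun u hu => ⟨u.2, mem_cent1.2 (by
    have : a * u * a⁻¹ * u = 1 := hu
    rw [← p.exp u u.2, mul_left_inj] at this
    exact (mul_inv_eq_iff_eq_mul.1 this).symm)⟩
  rw [← f.ker.card_mul_index, index_ker]
  exact Nat.mul_le_mul ((BG.card_le_of_le h2).trans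
    (Nat.card_congr (subgroupOfEquivOfLe inf_le_left).toEquiv).le) (BG.card_le_of_le h1)

variable (h : Min G) (h64 : 64 ≤ Nat.card Q)
include h h64

theorem cases (xH : x ∈ H) (hx : orderOf x = 3) :
    V x ≤ Q ∧ Nat.card (V x) = 4 ∧ H ⊓ 𝒞(H) = ⊥ := by
  rcases p.cases h.cl xH hx with e | e | e
  · omega
  · omega
  · exact e.2

theorem b0 (xH : x ∈ H) (hx : orderOf x = 3) (e : m * x * m⁻¹ = x ∨ m * x * m⁻¹ = x⁻¹) : m ∈ H := by
  have k : ∀ m, m * x * m⁻¹ = x → m ∈ H := fun m e => by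
    obtain ⟨i, v, hv, rfl⟩ := h.cl.mem_cent hx (mul_inv_eq_iff_eq_mul.1 e)
    exact mul_mem (pow_mem xH i) (p.le ((cases p h h64 xH hx).1 hv))
  refine e.elim (k m) fun e => ?_
  obtain ⟨j, jH, hj, -⟩ := p.exists_inv h.cl xH hx
  refine (mul_mem_cancel_left (inv_mem jH)).1 (k _ ?_)
  calc j⁻¹ * m * x * (j⁻¹ * m)⁻¹ = j⁻¹ * (m * x * m⁻¹) * j := by group
    _ = x := by rw [e, ← hj]; group

theorem b1 (aH : a ∈ H) (aQ : a ∉ Q) (a2 : a * a ∈ Q) :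
    8 ≤ Nat.card ↥(Q ⊓ 𝒞[a]) ∧ 4 * Nat.card ↥(Q ⊓ 𝒞[a]) ≤ Nat.card Q := by
  refine ⟨by have := sq_bound p aH a2; nlinarith, ?_⟩
  obtain ⟨x, xH, hx⟩ := p.exists_three
  obtain ⟨j, jH, hj, j2⟩ := p.exists_inv h.cl xH hx
  obtain ⟨k, kH, hk⟩ := p.conj2 aH aQ a2 jH (p.inv_notMem xH hx hj) j2
  have cjk : ∀ {k a}, k ∈ H → cj k (Q ⊓ 𝒞[a]) = Q ⊓ 𝒞[k * a * k⁻¹] := fun kH => by
    rw [cj_inf, cj_cent1, cj_eq_of_mem_norm (HN p kH)]
  rw [← card_cj k, cjk kH, ← inv_mul_cancel_right (k * a * k⁻¹) j, cent_mul p hk]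
  have h1 := mul_cardG (H := Q ⊓ 𝒞[j]) (K := cj x (Q ⊓ 𝒞[j])) (.inl (cents_norm (centSS inf_le_left
    ((cjk xH).le.trans inf_le_left) (QC p))))
  have h2 : Q ⊓ 𝒞[j] ⊓ cj x (Q ⊓ 𝒞[j]) ≤ V x := fun d hd => by
    have e1 := mem_cent1.1 hd.1.2
    have e2 := mem_cent1.1 ((cjk xH).le hd.2).2
    have e3 : j⁻¹ * (x * j * x⁻¹) = x := by
      have e4 : x ^ 3 = 1 := hx ▸ pow_orderOf_eq_one x
      calc j⁻¹ * (x * j * x⁻¹) = j⁻¹ * (x * (j * x * j⁻¹)⁻¹⁻¹ * (j * x * j⁻¹)⁻¹) * j * x⁻¹ := by group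
        _ = j⁻¹ * (j * x * j⁻¹)⁻¹ * j * x⁻¹ := by rw [hj]; group
        _ = (x ^ 3)⁻¹ * x := by group
        _ = x := by rw [e4]; group
    refine (h.cl.mem_V hx).2 ⟨?_, p.exp d hd.1.1⟩
    exact e3 ▸ ((show Commute d j from e1).inv_right.mul_right e2).eq
  have h3 := BG.card_le_of_le h2
  have h4 := BG.card_le_of_le (sup_le (inf_le_left (b := 𝒞[j])) ((cjk (a := j) xH).le.trans inf_le_left) :
    _ ⊔ cj x (Q ⊓ 𝒞[j]) ≤ Q)
  have h5 := Lagrange (inf_le_left : Q ⊓ 𝒞[j] ≤ Q)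
  have h6 := cardG_pos (Q ⊓ 𝒞[j])
  rw [(cases p h h64 xH hx).2.1] at h3
  rw [card_cj] at h1
  generalize Nat.card ↥(Q ⊓ 𝒞[j]) = c at *
  generalize (Q ⊓ 𝒞[j]).relIndex Q = r at *
  by_contra! hh
  have h7 : r ≤ 3 := by nlinarith
  have h8 : c * c ≤ c * 12 := by nlinarith [Nat.mul_le_mul h4 h3]
  nlinarith [Nat.le_of_mul_le_mul_left h8 h6]

theorem Off.main (o : Off H Q A) (ha : a ∈ A) (aQ : a ∉ Q) :
    Q ⊓ A = Q ⊓ 𝒞[a] ∧ Q.relIndex A = 4 := by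
  have h1 : Q ⊓ A ≤ Q ⊓ 𝒞[a] := fun b hb => ⟨hb.1, mem_cent1.2 (o.comm hb.2 ha)⟩
  have h2 := BG.card_le_of_le h1
  have h3 := LagrangeI Q A
  have h4 := Nat.le_of_dvd (by norm_num) (p.dvd_four o.le fun b hb => o.sq b hb ▸ one_mem Q)
  have h5 := (b1 p h h64 (o.le ha) aQ (o.sq a ha ▸ one_mem Q)).2
  have h6 := o.card
  have h7 := cardG_pos (Q ⊓ A)
  exact ⟨eq_of_le_card h1 (by nlinarith), by nlinarith⟩

theorem Off.four (o : Off H Q A) : Four H Q (Q ⊔ A) := by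
  obtain ⟨a, ha, aQ⟩ := SetLike.not_le_iff_exists.1 o.ne
  refine ⟨le_sup_left, sup_le p.le o.le,
    (relIndex_sup_norm (o.le.trans (HN p))).trans (o.main p h h64 ha aQ).2, fun b hb => ?_⟩
  obtain ⟨q, hq, c, hc, rfl⟩ := (mem_sup_norm_l (o.le.trans (HN p))).1 hb
  rw [show q * c * (q * c) = q * (c * q * c⁻¹) * (c * c) by group, o.sq c hc, mul_one]
  exact mul_mem hq (p.conj_mem (o.le hc) hq)

theorem Off.le_of (o : Off H Q A) (o' : Off H Q A') (e : A' ≤ Q ⊔ A) : A' ≤ A := by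
  have k : ∀ c ∈ A', c ∉ Q → c ∈ A := fun c hc cQ => by
    obtain ⟨q, hq, a, ha, rfl⟩ := (mem_sup_norm_l (o.le.trans (HN p))).1 (e hc)
    exact mul_mem ((o.main p h h64 ha fun e => cQ (mul_mem hq e)).1.ge ⟨hq, mem_cent1.2
      (comm_of_sq (p.exp q hq) (o.sq a ha) (o'.sq _ hc))⟩).2 ha
  obtain ⟨a, ha, aQ⟩ := SetLike.not_le_iff_exists.1 o'.ne
  intro c hc
  by_contra hn
  have cQ : c ∈ Q := by_contra fun e => hn (k c hc e)
  exact hn ((mul_mem_cancel_right (k a ha aQ)).1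
    (k _ (mul_mem hc ha) fun e => aQ ((mul_mem_cancel_left cQ).1 e)))

theorem Off.eq (o : Off H Q A) (o' : Off H Q A') (hT : IsPGroup 2 T) (QT : Q ≤ T) (TH : T ≤ H)
    (h1 : A ≤ T) (h2 : A' ≤ T) : A = A' := by
  have f := o.four p h h64
  have f' := o'.four p h h64
  by_cases e : Q ⊔ A = Q ⊔ A'
  · exact le_antisymm (o'.le_of p h h64 o (le_sup_right.trans e.le))
      (o.le_of p h h64 o' (le_sup_right.trans e.ge))
  exfalso
  obtain ⟨z, ⟨z1, z2⟩, zQ⟩ : ∃ z ∈ (Q ⊔ A) ⊓ (Q ⊔ A'), z ∉ Q := by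
    by_contra! hh
    have e1 := relIndex_dvd_of_le_left (Q ⊔ A') (hh : _ ≤ Q)
    have e2 := relIndex_le_of_le_right (H := Q ⊔ A) (sup_le QT h2) (relIndex_pos _ _).ne'
    have e3 := relIndex_mul_relIndex Q (Q ⊔ A) T le_sup_left (sup_le QT h1)
    have e4 := Nat.le_of_dvd (by norm_num) (p.dvd_eight TH hT)
    rw [f'.idx, inf_relIndex_right] at e1
    have e5 := Nat.le_of_dvd (relIndex_pos _ _) e1
    rw [f.idx] at e3
    omega
  have k : ∀ {B}, Off H Q B → z ∈ Q ⊔ B → Q ⊓ 𝒞[z] = Q ⊓ B ∧ H ⊓ 𝒩(Q ⊔ B) ≤ 𝒩(Q ⊓ 𝒞[z]) := by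
    intro B oB hz
    obtain ⟨q, hq, a, ha, rfl⟩ := (mem_sup_norm_l (oB.le.trans (HN p))).1 hz
    have e1 := (cent_mul p hq).trans (oB.main p h h64 ha fun e => zQ (mul_mem hq e)).1.symm
    refine ⟨e1, ?_⟩
    have e2 : Q ⊓ 𝒞[q * a] = Q ⊓ 𝒞(Q ⊔ B) := le_antisymm (le_inf inf_le_left (e1.le.trans (centsY
      (inf_le_left.trans (QC p)) (cents_iff.2 fun u hu v hv => oB.comm hu.2 hv))))
      (inf_le_inf_left _ (cent_le_cent1 hz))
    rw [e2]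
    exact normsI (inf_le_left.trans (HN p)) (norms_cent inf_le_right)
  have hN := subcent_normal ((p.four_gen f f' e).trans (sup_le (k o z1).2 (k o' z2).2))
  have QN : Q ≤ H ⊓ 𝒞(Q ⊓ 𝒞[z]) := le_inf p.le (centsS inf_le_left (QC p))
  obtain ⟨x, xH, hx⟩ := p.exists_three
  rcases p.normal hN with e1 | e1
  · exact o.ne ((le_inf o.le (by
      rw [(k o z1).1]; exact cents_iff.2 fun u hu v hv => o.comm hu hv.2)).trans e1)
  · rw [sup_eq_left.2 QN] at e1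
    have e2 : Q ⊓ 𝒞[z] ≤ ⊥ := (cases p h h64 xH hx).2.2 ▸
      le_inf (inf_le_left.trans p.le) (centsC.1 (e1.ge.trans inf_le_right))
    have e3 := (b1 p h h64 (f.le z1) zQ (f.sq z z1)).1
    rw [le_bot_iff.1 e2, card_bot] at e3
    omega

theorem Off.norm (o : Off H Q A) : 𝒩(Q ⊔ A) ≤ H := fun g hg => by
  have f := o.four p h h64
  have pF : IsPGroup 2 ↥(Q ⊔ A) := pgroupY (.inr (o.le.trans (HN p))) p.pgroup o.pg
  obtain ⟨x, xH, hx, xF⟩ := p.four_three f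
  have k : ∀ m ∈ H ⊓ 𝒩(Q ⊔ A), cj m A = A := fun m hm => Off.eq p h h64
    ⟨cj_le_of_mem hm.1 o.le, fun a ha => by
      obtain ⟨b, hb, rfl⟩ := mem_cj'.1 ha
      rw [conj_mul, o.sq b hb, mul_one, mul_inv_cancel], o.card.trans (card_cj m A).ge,
      fun e => o.ne ((cj_le_iff_of_mem_norm (HN p hm.1)).1 e)⟩ o pF le_sup_left f.le
    (cj_le_of_mem_norm hm.2 le_sup_right) le_sup_right
  suffices hh : g ∈ 𝒩(H ⊓ 𝒩(Q ⊔ A)) by
    obtain ⟨n, hn, m, rfl, e⟩ := h.cl.frattini3 hx (⟨xH, xF⟩ : x ∈ H ⊓ 𝒩(Q ⊔ A)) hh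
    exact mul_mem hn.1 (b0 p h h64 xH hx e)
  refine mem_norm_of_cj_le (cj_le_iff.2 fun m hm =>
    ⟨?_, (𝒩(Q ⊔ A)).mul_mem (mul_mem hg hm.2) (inv_mem hg)⟩)
  by_cases gH : g ∈ H
  · exact H.mul_mem (mul_mem gH hm.1) (inv_mem gH)
  have e1 := cj_le_of_mem_norm (inv_mem hg) (le_sup_left : Q ≤ Q ⊔ A)
  have e2 := Off.eq p h h64 (off_cj p (e1.trans f.le) fun e => gH (inv_mem_iff.1 e)) o pF
    le_sup_left f.le e1 le_sup_right
  refine p.norm.le (mem_norm_iff.2 ?_)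
  rw [cj_mul, cj_mul, e2, k m hm, ← e2, cj_cj_inv]

theorem norm_le (hT : IsPGroup 2 T) (QT : Q ≤ T) (TH : T ≤ H) : 𝒩(T) ≤ H := fun g hg => by
  by_contra gH
  have e1 := cj_le_of_mem_norm hg QT
  have o := off_cj p (e1.trans TH) gH
  have e2 := cj_le_of_mem_norm (mul_mem hg hg) QT
  by_cases h2 : g * g ∈ H
  · refine gH (o.norm p h h64 (mem_norm_iff.2 ?_))
    rw [cj_sup, cj_cj, cj_eq_of_mem_norm (HN p h2), sup_comm]
  · have := o.eq p h h64 (off_cj p (e2.trans TH) h2) hT QT TH e1 e2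
    rw [cj_mul, cj_inj] at this
    exact o.ne this.ge

theorem w1 (hT : IsPGroup 2 T) (QT : Q ≤ T) : T ≤ H := by
  by_contra hn
  obtain ⟨s, hs, hs'⟩ := SetLike.exists_of_lt (nilpotent_proper_norm (pgroup_nil Nat.prime_two hT)
    (lt_of_le_of_ne (inf_le_left : T ⊓ H ≤ T) fun e => hn (e.ge.trans inf_le_right)))
  exact hs' ⟨hs.1, norm_le p h h64 hT.to_inf_left (le_inf QT p.le) inf_le_right hs.2⟩

theorem w2 (e : cj g Q ≤ H) : g ∈ H := by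
  obtain ⟨T, hT, h1⟩ := Sylow_superset (H := ⊤) Nat.prime_two le_top ((pigroup_singleton Nat.prime_two).2
    (pgroupY (.inr (e.trans (HN p))) p.pgroup (isPGroup_cj.2 p.pgroup)))
  have pT := Sylow_isPGroup hT
  have h2 := w1 p h h64 pT (le_sup_left.trans h1)
  have h3 := w1 p h h64 (isPGroup_cj (g := g⁻¹).2 pT) (cj_le_iff_le_cj_inv.1 (le_sup_right.trans h1))
  obtain ⟨c, hc, h4⟩ := Sylow_trans Nat.prime_two (pHall_subl h2 le_top hT)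
    (pHall_subl h3 le_top (pHall_cj_top.2 hT))
  have h5 : g * c ∈ 𝒩(T) := mem_norm_iff.2 (by rw [cj_mul, ← h4, cj_cj_inv])
  exact (mul_mem_cancel_right hc).1 (norm_le p h h64 pT (le_sup_left.trans h1) h2 h5)

theorem b3 (h2 : IsCharacteristicTwoType G) (hq : q ∈ Q) (q1 : q ≠ 1) : 𝒞[q] ≤ H := by
  haveI : Fact (Nat.Prime 2) := ⟨Nat.prime_two⟩
  have o2 : orderOf q = 2 := orderOf_eq_prime (by rw [pow_two, p.exp q hq]) q1
  have c2 := char2_inv h2 o2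
  have ns := par_of_inv h h2 o2
  have QY : Q ≤ 𝒞[q] := (QC p).trans (cent_le_cent1 hq)
  generalize 𝒞[q] = Y at *
  have pU := (pigroup_singleton Nat.prime_two).1 (pcore_pgroup {2} Y)
  have YU : Y ≤ 𝒩(opOf 2 Y) := pcore_norm _ Y
  have UH : opOf 2 Y ≤ H := le_sup_left.trans
    (w1 p h h64 (pgroupY (.inr (QY.trans YU)) pU p.pgroup) le_sup_right)
  by_cases QU : Q ≤ opOf 2 Y
  · exact fun y hy => w2 p h h64 ((cj_le_of_mem_norm (YU hy) QU).trans UH)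
  exfalso
  have star : ∀ b ∈ Q, ∀ y ∈ Y, ∀ r : ℕ, r.Prime → r ≠ 2 → orderOf y = r → b * y * b⁻¹ = y⁻¹ →
      r = 3 := fun b hb y hy r hr r2 o e => by
    refine (inv_small (U0 := Q ⊓ opOf 2 Y) pU (p.exp b hb) (YU (QY hb)) (YU hy)
      (fun c => r2 (pgroup_prime_eq Nat.prime_two hr pU (o ▸ order_dvdG (c2 ⟨hy, c⟩)))) hr r2 o e
      (le_inf inf_le_right (inf_le_left.trans ((QC p).trans (cent_le_cent1 hb)))) ?_).resolve_right
      fun e => h.cl.h5 (e ▸ o ▸ orderOf_dvd_natCard y)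
    have e1 := relIndex_mul_relIndex (Q ⊓ opOf 2 Y) (Q ⊓ opOf 2 Y ⊔ frattiniOf (opOf 2 Y)) (opOf 2 Y)
      le_sup_left (sup_le inf_le_right (map_subtype_le _))
    rw [inf_relIndex_right] at e1
    have e2 := relIndex_pos (Q ⊓ opOf 2 Y) (Q ⊓ opOf 2 Y ⊔ frattiniOf (opOf 2 Y))
    by_cases hs : ∀ u ∈ opOf 2 Y, u * u ∈ Q
    · have := Nat.le_of_dvd (by norm_num) (p.dvd_four UH hs)
      nlinarith
    push Not at hs
    obtain ⟨u, hu, hs⟩ := hs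
    have e3 : (Q ⊓ opOf 2 Y).relIndex (Q ⊓ opOf 2 Y ⊔ frattiniOf (opOf 2 Y)) ≠ 1 := fun e =>
      hs (relIndex_eq_one.1 e (mem_sup_right (pow_two u ▸ CfsgLib.Core.pow_mem_map_frattini pU hu))).1
    have := Nat.le_of_dvd (by norm_num) (p.dvd_eight UH pU)
    have e4 : 2 ≤ (Q ⊓ opOf 2 Y).relIndex (Q ⊓ opOf 2 Y ⊔ frattiniOf (opOf 2 Y)) := by omega
    nlinarith
  by_cases hs : Group.IsSolvable Y
  swap
  · obtain ⟨π', p', c16⟩ := ns hs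
    have e1 := Nat.le_of_dvd (by norm_num) (p'.dvd_four QY fun a ha => p.exp a ha ▸ one_mem _)
    have e2 := LagrangeI (opOf 2 Y) Q
    have e3 := eq_of_le_card (inf_le_left : opOf 2 Y ⊓ Q ≤ _) (by nlinarith)
    exact QU (p'.cent ▸ centsS (e3.ge.trans inf_le_right) (QC p))
  have k1 : oppOf 3 Y ⊓ Q ≤ opOf 2 Y ⊓ Q := fun b hb => ⟨by_contra fun hn => by
    obtain ⟨y, hy, r, hr, r2, o, e⟩ := bs hb.1 (p.exp b hb.2)
      fun e => hn (pcore_le_of_normal _ (pcore_normal _ Y) e)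
    obtain rfl := star b hb.2 y (pcore_sub _ Y hy) r hr r2 o e
    exact (isPiNat_compl_singleton hr).1 (pcore_pgroup {3}ᶜ Y) (o.symm.dvd.trans (order_dvdG hy)), hb.2⟩
  have k2 : (oppOf 3 Y).relIndex Q ≤ 2 := by
    obtain ⟨k, hk⟩ := pgroup_card Nat.prime_two p.pgroup
    exact Nat.le_of_dvd (by norm_num) (Nat.Coprime.dvd_of_dvd_mul_right (m := 2) (n := 3)
      (Nat.Coprime.coprime_dvd_left (hk ▸ relIndex_dvd_card _ Q) (Nat.Coprime.pow_left k (by norm_num)))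
      ((relIndex_dvd_of_norm (pcore_norm _ Y) QY).trans (h.sol hs)))
  obtain ⟨b, hb, bU⟩ := SetLike.not_le_iff_exists.1 QU
  obtain ⟨y, hy, r, hr, r2, o, e⟩ := bs (QY hb) (p.exp b hb) bU
  obtain rfl := star b hb y hy r hr r2 o e
  have sq : ∀ a ∈ cj y (opOf 2 Y ⊓ Q), a * a = 1 := fun a ha => by
    obtain ⟨b, hb, rfl⟩ := mem_cj'.1 ha
    rw [conj_mul, p.exp b hb.2, mul_one, mul_inv_cancel]
  have e1 := Nat.le_of_dvd (by norm_num) (p.dvd_four ((cj_le_of_mem_norm (YU hy) inf_le_left).trans UH)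
    fun a ha => sq a ha ▸ one_mem Q)
  have e2 := LagrangeI Q (cj y (opOf 2 Y ⊓ Q))
  have e3 := LagrangeI (oppOf 3 Y) Q
  have e4 := BG.card_le_of_le k1
  have e5 : Q ⊓ cj y (opOf 2 Y ⊓ Q) ≤ V y := fun d hd => by
    have c1 : Commute d b := p.comm hd.1 hb
    have c2 : Commute d (y * b * y⁻¹) := by
      obtain ⟨c, hc, rfl⟩ := mem_cj'.1 hd.2
      show _ = _
      rw [conj_mul, conj_mul, p.comm hc.2 hb]
    have e6 : y ^ 3 = 1 := o ▸ pow_orderOf_eq_one y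
    have e7 : b * (y * b * y⁻¹) = y := by
      calc b * (y * b * y⁻¹) = b * y * b⁻¹ * (b * b) * y⁻¹ := by group
        _ = (y ^ 3)⁻¹ * y := by rw [e, p.exp b hb]; group
        _ = y := by rw [e6]; group
    exact (h.cl.mem_V o).2 ⟨e7 ▸ (c1.mul_right c2).eq, p.exp d hd.1⟩
  have e6 := (BG.card_le_of_le e5).trans (Nat.le_of_dvd (by norm_num) (h.cl.card_V o))
  rw [card_cj] at e2
  nlinarith [Nat.mul_le_mul e6 e1, Nat.mul_le_mul e4 k2]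

end Big

theorem not_big (h : Min G) (h2 : IsCharacteristicTwoType G) (p : Par H Q π) :
    ¬ 64 ≤ Nat.card Q := fun h64 => by
  haveI : Fact (Nat.Prime 2) := ⟨Nat.prime_two⟩
  haveI := h.simple
  obtain ⟨x, xH, hx⟩ := p.exists_three
  obtain ⟨q, hq, q1⟩ := exists_ne_one_of_ne_bot (cardG_gt1.1 (by omega : 1 < Nat.card Q))
  obtain ⟨g, e⟩ := inverts h.cl h.ncomm hx (orderOf_eq_prime (by rw [pow_two, p.exp q hq]) q1)
  have aH := Big.b0 p h h64 xH hx (.inr e)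
  have aQ := p.inv_notMem xH hx e
  obtain ⟨π', p'⟩ := p.conj g
  have e1 := (Big.b1 p h h64 aH aQ (by
    rw [conj_mul, p.exp q hq, mul_one, mul_inv_cancel]; exact one_mem Q)).1
  have e2 := Nat.le_of_dvd (by norm_num) (p'.dvd_four (A := Q ⊓ 𝒞[g * q * g⁻¹])
    (inf_le_right.trans (cj_cent1 g q ▸ cj_mono g (Big.b3 p h h64 h2 hq q1)))
    fun a ha => p.exp a ha.1 ▸ one_mem _)
  have e3 := LagrangeI (cj g Q) (Q ⊓ 𝒞[g * q * g⁻¹])
  obtain ⟨d, hd, d1⟩ := exists_ne_one_of_ne_bot (cardG_gt1.1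
    (by nlinarith : 1 < Nat.card ↥(cj g Q ⊓ (Q ⊓ 𝒞[g * q * g⁻¹]))))
  exact aQ (p.conj_mem (Big.w2 p h h64 (((Big.QC p').trans (cent_le_cent1 hd.1)).trans
    (Big.b3 p h h64 h2 hd.2.1 d1))) hq)

end CfsgLib.C3
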