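import Cfsg.Agent.Lib.C3.Basic
import Cfsg.Agent.Lib.Transfer.Cocycle
import Cfsg.Agent.Lib.Sect.Tools
import Cfsg.Agent.Lib.ClassSz.Isaacs
import Cfsg.Agent.Lib.Frob.Complement

/-! Package CA: `C(t) = 2² × L₂(7)`.  See `plans/C3.md`. -/

set_option autoImplicit false

namespace CfsgLib.C3

open Cfsg CfsgLib.BG Subgroup
open scoped MatrixGroups

universe u

variable {G : Type*} [Group G] [Finite G] {t x : G} {L : Subgroup G}

omit [Finite G] in
theorem ca_card {A B : Subgroup G} (h : B ≤ 𝒞(A)) (h1 : A ⊓ B = ⊥) :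
    Nat.card ↥(A ⊔ B) = Nat.card A * Nat.card B := by
  have := Core.card_sup_mul_card_inf_of_le_normalizer (cents_norm (cents_symm h))
  rwa [h1, card_bot, mul_one] at this

theorem CD.ca_dih (d : CD t x L) : ∃ (D : Subgroup G) (r s : G), D ≤ L ∧ DihSyl.IsDih D 4 r s := by
  have := d.simple
  obtain ⟨r, s, e⟩ := PSL2Rec.O168.isDih d.card (default : Sylow 2 L)
  refine ⟨_, r, s, map_subtype_le ((default : Sylow 2 L) : Subgroup L),
    (orderOf_coe r).trans e.ord, congrArg Subtype.val e.ss, congrArg Subtype.val e.conj,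
    fun ⟨i, hi⟩ => e.notMem ⟨i, Subtype.ext hi⟩, fun g => ⟨?_, ?_⟩⟩
  · rintro ⟨g, hg, rfl⟩
    exact ((e.mem g).1 hg).imp fun i hi => hi.imp (congrArg Subtype.val) (congrArg Subtype.val)
  · rintro ⟨i, rfl | rfl⟩
    exacts [⟨_, e.rpow_mem i, rfl⟩, ⟨_, e.rpows_mem i, rfl⟩]

theorem CD.ca_inf (d : CD t x L) (h : Min G) (hc : V x ≤ 𝒞(L)) : L ⊓ V x = ⊥ := by
  have := d.simple
  refine eq_bot_iff.2 fun v hv => by_contra fun v1 => ?_
  have h8 := PSL2Rec.O168.c2 d.card (x := ⟨v, hv.1⟩) (fun e => v1 (congrArg Subtype.val e))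
    (orderOf_dvd_of_pow_eq_one (Subtype.ext (by
      change v ^ (2 * 4) = 1
      rw [pow_mul, pow_two, ((h.cl.mem_V d.x3).1 hv.2).2, one_pow])))
  rw [show DefectOne.CC (⟨v, hv.1⟩ : L) = ⊤ from eq_top_iff.2 fun l _ =>
    mem_cent1.2 (Subtype.ext (hc hv.2 l l.2)), card_top, d.card] at h8
  omega

theorem CD.ca_64 (d : CD t x L) (h : Min G) (hc : V x ≤ 𝒞(L)) {v : G} (hv : v ∈ V x) (v1 : v ≠ 1) :
    ¬ 64 ∣ Nat.card 𝒞[v] := by
  have t1 : t ≠ 1 := fun e => by have := d.t2; rw [e, orderOf_one] at this; omega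
  have hVc : ∀ a ∈ V x, V x ≤ 𝒞[a] := fun a ha b hb =>
    mem_cent1.2 (h.cl.comm x d.x3 b (V_le x hb) a (V_le x ha))
  have hC : 𝒞[t] = L ⊔ V x := le_antisymm (fun g hg => by
    obtain ⟨l, hl, w, hw, rfl⟩ := d.gen g hg
    exact mul_mem_sup hl hw) (sup_le d.nrm.le (hVc t d.tV))
  by_cases e : t = v
  · rw [← e, hC, ca_card hc (d.ca_inf h hc), d.card, d.V4]
    norm_num
  refine h.ll d.x3 hv d.tV v1 t1 e fun h8 => ?_
  have hL : L ≤ 𝒞[v] ⊓ 𝒞[t] := le_inf (sub_cent1.2 (hc hv)) d.nrm.le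
  have hK := pcore_normal {3}ᶜ (𝒞[v] ⊓ 𝒞[t])
  have h3 : ¬ 3 ∣ Nat.card ↥(oppOf 3 (𝒞[v] ⊓ 𝒞[t])) := fun e =>
    pcore_pgroup {3}ᶜ _ 3 Nat.prime_three e rfl
  have h1 : oppOf 3 (𝒞[v] ⊓ 𝒞[t]) ⊓ L = ⊥ := by
    rcases d.simple.eq_bot_or_eq_top_of_normal _ (normal_subgroupOf_of_le_normalizer
      (hL.trans hK.norm)) with e | e
    · exact disjoint_iff.1 (subgroupOf_eq_bot.1 e)
    · exact absurd (d.x3.symm.dvd.trans (orderOf_dvd_natCard _ (subgroupOf_eq_top.1 e d.xL))) h3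
  have h2 := (cents_of_norm_of_disjoint ((hK.le.trans inf_le_right).trans d.nrm.norm)
    (hL.trans hK.norm) h1).trans (cent_le_cent1 d.xL)
  have := h8.trans (card_dvd_of_le (h.cl.le_V d.x3 h3 h2))
  rw [d.V4] at this
  omega

theorem CD.not_a (d : CD t x L) (h : Min G) (hc : V x ≤ 𝒞(L)) : False := by
  have := Fact.mk Nat.prime_two
  obtain ⟨D, r, s, hDL, e⟩ := d.ca_dih
  have h64 := fun v hv v1 => d.ca_64 h hc (v := v) hv v1
  have hLV := d.ca_inf h hc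
  have hV4 := d.V4
  have tV := d.tV
  have hVV : V x ≤ 𝒞(V x) := fun a ha b hb => h.cl.comm x d.x3 b (V_le x hb) a (V_le x ha)
  have hV2 : ∀ v ∈ V x, v * v = 1 := fun v hv => ((h.cl.mem_V d.x3).1 hv).2
  generalize V x = W at *
  have t1 : t ≠ 1 := fun e => by have := d.t2; rw [e, orderOf_one] at this; omega
  have one : ∀ a ∈ D, a ∈ W → a = 1 := fun a ha hw => mem_bot.1 (hLV ▸ ⟨hDL ha, hw⟩)
  have hdis : ∀ A ≤ D, A ⊓ W = ⊥ := fun A hA => eq_bot_iff.2 fun a ha => one a (hA ha.1) ha.2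
  have hWD := centsS hDL hc
  have mem : ∀ A ≤ D, ∀ {a}, a ∈ A ⊔ W → ∃ b ∈ A, ∃ w ∈ W, b * w = a := fun A hA _ ha =>
    (mem_sup_norm_l (cents_norm (centsS hA hWD))).1 ha
  have sq : ∀ b ∈ D, ∀ w ∈ W, b * w * (b * w) = b * b := fun b hb w hw => by
    rw [mul_assoc, ← mul_assoc w, ← hWD hw b hb, mul_assoc, hV2 w hw, mul_one]
  obtain ⟨z2, z1⟩ := e.half (m := 2) rfl (by norm_num)
  set z := r ^ ((2 : ℕ) : ℤ) with hz
  have zr : z ∈ zpowers r := zpow_mem_zpowers _ _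
  have zz : r * r = z := by rw [hz, zpow_natCast, pow_two]
  have hzD : zpowers z ≤ D := zpowers_le.2 (e.zpowers_le zr)
  have cT : Nat.card ↥(D ⊔ W) = 32 := by rw [ca_card hWD (hdis D le_rfl), e.card, hV4]
  have cA : Nat.card ↥(zpowers r ⊔ W) = 16 := by
    rw [ca_card (centsS e.zpowers_le hWD) (hdis _ e.zpowers_le), Nat.card_zpowers, e.ord, hV4]
  have cZ : Nat.card ↥(zpowers z ⊔ W) = 8 := by
    rw [ca_card (centsS hzD hWD) (hdis _ hzD), Nat.card_zpowers,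
      orderOf_eq_prime (p := 2) (by rw [pow_two, z2]) z1, hV4]
  have hT : IsPGroup 2 ↥(D ⊔ W) := IsPGroup.of_card (n := 5) cT
  have hWT : W ≤ 𝒞(D ⊔ W) := centsY hWD hVV
  have hz' : ∀ a ∈ zpowers r, a * a = 1 → a ∈ zpowers z := fun a ha a2 => by
    by_cases a1 : a = 1
    · exact a1 ▸ one_mem _
    · exact e.eq_of_sq ha zr a2 z2 a1 z1 ▸ mem_zpowers z
  have hZ : zpowers z ⊔ W = (D ⊔ W) ⊓ 𝒞(D ⊔ W) := by
    refine le_antisymm (le_inf (sup_le_sup_right hzD W) (sup_le (centsY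
      (zpowers_le.2 fun g hg => e.commute_of_sq zr z2 hg) (cents_symm (centsS hzD hWD))) hWT)) ?_
    rintro a ⟨ha, hac⟩
    obtain ⟨b, hb, w, hw, rfl⟩ := mem D le_rfl ha
    have hbc : ∀ g ∈ D, g * b = b * g := fun g hg =>
      (mul_mem_cancel_right (hWT hw)).1 hac g (mem_sup_left hg)
    refine mul_mem_sup (hz' b (by_contra fun hn => ?_) ?_) hw
    · obtain ⟨i, rfl | rfl⟩ := (e.mem b).1 hb
      · exact hn (zpow_mem_zpowers _ _)
      · have h1 := hbc _ (e.rpow_mem 1)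
        rw [e.rpows_mul_rpow, ← mul_assoc, ← zpow_add, mul_left_inj, e.eq_iff] at h1
        omega
    · obtain ⟨a, ar, a2, rfl | rfl⟩ := e.of_commute_rpows hb (hbc _ (e.rpows_mem 0)).symm
      · exact a2
      · by_contra hn
        exact e.rpows_notMem 0 ((mul_mem_cancel_left ar).1 (e.mem_zpowers_of_sq_ne_one hb hn))
  have nZ : 𝒩(D ⊔ W) ≤ 𝒩(zpowers z ⊔ W) := hZ ▸ normsI le_rfl (norms_cent le_rfl)
  have hS : ¬ 2 ∣ (D ⊔ W).index := by
    obtain ⟨S, hS⟩ := hT.exists_le_sylow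
    by_cases hle : (S : Subgroup G) ≤ D ⊔ W
    · exact le_antisymm hle hS ▸ S.not_dvd_index
    exfalso
    obtain ⟨n, hn, hnT, n2, hnn⟩ := Sect.exists_norm_sq S.isPGroup' hS hle
    have nN : n ∈ 𝒩(D ⊔ W) := mem_norm_of_cj_le (cj_le_iff.2 hnn)
    have h1 : W ⊓ cj n W ≠ ⊥ := fun e => by
      have h2 : cj n W ≤ zpowers z ⊔ W := cj_le_of_mem_norm (nZ nN) le_sup_right
      have := Nat.le_of_dvd Nat.card_pos (card_dvd_of_le (sup_le le_sup_right h2))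
      rw [ca_card (centsS le_sup_right ((h2.trans hZ.le).trans inf_le_right)) e, card_cj, hV4,
        cZ] at this
      omega
    obtain ⟨⟨v, hv, hvn⟩, v1⟩ := ne_bot_iff_exists_ne_one.1 (Core.inf_centralizer_ne_bot_of_isPGroup
      (hT.to_le (inf_le_left.trans le_sup_right)) (S.isPGroup'.to_le (zpowers_le.2 hn))
      (zpowers_le.2 (mem_norm_iff.2 (by
        rw [cj_inf, cj_cj, cj_eq_of_mem_cent (cents_symm hWT n2), inf_comm]))) h1)
    have h2 : (D ⊔ W) ⊔ zpowers n ≤ 𝒞[v] :=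
      sup_le (sub_cent1.2 (hWT hv.1)) (sub_cent1.2 hvn)
    refine h64 v hv.1 (fun e => v1 (Subtype.ext e)) (Dvd.dvd.trans ?_ (card_dvd_of_le h2))
    obtain ⟨k, hk⟩ := IsPGroup.iff_card.1 (S.isPGroup'.to_le (sup_le hS (zpowers_le.2 hn)))
    have h3 := Core.card_lt_of_lt (lt_of_le_not_ge (le_sup_left (b := zpowers n))
      fun e => hnT (e (mem_sup_right (mem_zpowers n))))
    rw [hk, cT, show 32 = 2 ^ 5 from rfl, Nat.pow_lt_pow_iff_right (by norm_num)] at h3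
    exact hk ▸ Nat.pow_dvd_pow 2 (show 6 ≤ k from h3)
  have h3 : ¬ 3 ∣ Nat.card 𝒩(D ⊔ W) := fun h3 => by
    obtain ⟨y, hy, y3⟩ := Core.exists_mem_orderOf_eq_of_dvd_card Nat.prime_three h3
    have nA : y ∈ 𝒩(zpowers r ⊔ W) := mem_norm_of_cj_le (by
      rw [cj_sup, cj_zpowers]
      refine sup_le (zpowers_le.2 ?_) ((cj_le_of_mem_norm (nZ hy) le_sup_right).trans
        (sup_le_sup_right (zpowers_le.2 zr) W))
      obtain ⟨b, hb, w, hw, e'⟩ := mem D le_rfl (conj_mem_of_mem_norm hy (mem_sup_left e.r_mem))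
      refine e' ▸ mul_mem_sup (e.mem_zpowers_of_sq_ne_one hb fun b2 => z1 ?_) hw
      rwa [← sq b hb w hw, e', conj_mul, conj_eq_one_iff, zz] at b2)
    have h1 := h.cl.card_mod y3 nA
    have h2 := h.cl.card_mod y3 (nZ hy)
    have h4 : (zpowers r ⊔ W) ⊓ 𝒞[y] = (zpowers z ⊔ W) ⊓ 𝒞[y] := by
      refine le_antisymm (fun a ha => ⟨?_, ha.2⟩)
        (inf_le_inf_right _ (sup_le_sup_right (zpowers_le.2 zr) W))
      have a2 := ((h.cl.mem_V y3).1 (h.cl.mem_V_of y3 (fun e => by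
        have := e.trans (orderOf_dvd_natCard _ ha.1)
        rw [cA] at this
        omega) (mem_cent1.1 ha.2))).2
      obtain ⟨b, hb, w, hw, rfl⟩ := mem _ e.zpowers_le ha.1
      exact mul_mem_sup (hz' b hb (sq b (e.zpowers_le hb) w hw ▸ a2)) hw
    rw [h4, cA] at h1
    exact absurd (h1.trans (cZ ▸ h2).symm) (by decide)
  have hN : 𝒩(D ⊔ W) ≤ 𝒞[t] := by
    have h1 := ClassSz.relIndex_cent_eq_ncard 𝒩(D ⊔ W) t
    have h2 : {a | ∃ g ∈ 𝒩(D ⊔ W), g * t * g⁻¹ = a} ⊆ (↑(zpowers z ⊔ W) : Set G) \ {1, z} := by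
      rintro _ ⟨g, hg, rfl⟩
      refine ⟨conj_mem_of_mem_norm (nZ hg) (mem_sup_right tV), ?_⟩
      rintro (e' | e')
      · exact t1 (conj_eq_one_iff.1 e')
      · obtain ⟨b, hb, w, hw, e1⟩ := mem D le_rfl (conj_mem_of_mem_norm' hg (mem_sup_left e.r_mem))
        have : t = b * b := by
          rw [← sq b hb w hw, e1]
          calc t = g⁻¹ * (g * t * g⁻¹) * g := by group
            _ = _ := by rw [show g * t * g⁻¹ = z from e', ← zz]; group
        exact t1 (one t (this ▸ mul_mem hb hb) tV)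
    have h4 := Set.ncard_le_ncard h2 (Set.toFinite _)
    rw [Set.ncard_sdiff (Set.pair_subset (one_mem _) (mem_sup_left (mem_zpowers z))) (Set.toFinite _),
      Set.ncard_pair z1.symm, ← h1, show (↑(zpowers z ⊔ W) : Set G).ncard = 8 from cZ] at h4
    have h5 : ¬ 2 ∣ (𝒞[t]).relIndex 𝒩(D ⊔ W) := fun e => hS ((e.trans (relIndex_dvd_of_le_left _
      (sub_cent1.2 (hWT tV)))).trans (relIndex_dvd_index_of_le le_normalizer))
    have h6 : ¬ 3 ∣ (𝒞[t]).relIndex 𝒩(D ⊔ W) := fun e => h3 (e.trans (relIndex_dvd_card _ _))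
    have h7 : ¬ 5 ∣ (𝒞[t]).relIndex 𝒩(D ⊔ W) := fun e =>
      h.cl.h5 ((e.trans (relIndex_dvd_card _ _)).trans (card_subgroup_dvd_card _))
    refine relIndex_eq_one.1 ?_
    generalize (𝒞[t]).relIndex 𝒩(D ⊔ W) = k at h4 h5 h6 h7
    have h8 : k ≤ 6 := h4
    interval_cases k <;> omega
  obtain ⟨v, hv, hvt⟩ := SetLike.not_le_iff_exists.1 fun e : W ≤ zpowers t => by
    have := card_dvd_of_le e
    rw [hV4, Nat.card_zpowers, d.t2] at this
    omega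
  have hvW : zpowers v ≤ W := zpowers_le.2 hv
  have v2 : orderOf v = 2 := orderOf_eq_prime (by rw [pow_two, hV2 v hv]) fun e => hvt (e ▸ one_mem _)
  have hi : (D ⊔ zpowers v).relIndex (D ⊔ W) = 2 := by
    have := Core.card_mul_relIndex_of_le (sup_le_sup_left hvW D)
    rw [ca_card (hvW.trans hWD) (le_bot_iff.1 (hdis D le_rfl ▸ inf_le_inf_left D hvW)), e.card,
      Nat.card_zpowers, v2, cT] at this
    omega
  obtain ⟨g, hg, hgT⟩ := Transfer.thompson_transfer_extremal h.no_index_two hS hi (hV2 t tV) hT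
    (sub_cent1.2 (hWT tV))
  have h1 : g⁻¹ * t * g = t := by
    rw [mem_cent1.1 (hN (mem_norm_of_cj_le (g := g⁻¹) (cj_le_iff.2 (by simpa using hgT)))),
      inv_mul_cancel_right]
  obtain ⟨b, hb, w, hw, e'⟩ := (mem_sup_norm_l (cents_norm (hvW.trans hWD))).1 (h1 ▸ hg)
  rw [one b hb (by rw [← mul_inv_cancel_right b w, e']; exact mul_mem tV (inv_mem (hvW hw))),
    one_mul] at e'
  exact hvt (CfsgLib.Frob.mem_zpowers_of_mem_of_prime (v2 ▸ Nat.prime_two) (e' ▸ hw) t1)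

end CfsgLib.C3
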