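import Cfsg.Agent.Lib.C3.PGL
import Cfsg.Agent.Lib.Transfer.Cocycle
import Cfsg.Agent.S0221
import Cfsg.Agent.Lib.C3.CbA

/-! Package CB: `C(t) = 2 × PGL₂(7)`.  See `plans/C3.md`. -/

set_option autoImplicit false
set_option linter.unusedSectionVars false

namespace CfsgLib.C3

open Cfsg CfsgLib.BG Subgroup
open scoped MatrixGroups

universe u

variable {G : Type*} [Group G] [Finite G] {t x : G} {L : Subgroup G}

namespace CbB

open CfsgLib.DihSyl CfsgLib.PSL2Rec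

variable (d : CD t x L) (h : Min G) {u : G}
include d h

theorem c3 : Nat.card 𝒞[(⟨x, d.xL⟩ : L)] = 3 :=
  have := d.simple
  O168.c3 d.card (by rw [← d.x3, ← orderOf_coe])

theorem one_of {a : G} (ha : a ∈ V x) (aL : a ∈ L) : a = 1 := by
  obtain ⟨e1, e2⟩ := (h.cl.mem_V d.x3).1 ha
  have h1 : (⟨a, aL⟩ : L) ∈ 𝒞[(⟨x, d.xL⟩ : L)] := mem_cent1.2 (Subtype.ext e1)
  have h2 := order_dvdG h1
  rw [c3 d h, ← orderOf_coe, orderOf_dvd_iff_pow_eq_one, pow_three, e2, mul_one] at h2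
  exact h2

theorem one_of' {a : G} (ha : a ∈ 𝒞(L)) (aL : a ∈ L) : a = 1 := by
  have := d.simple
  rcases (inferInstance : (center L).Normal).eq_bot_or_eq_top with e | e
  · have : (⟨a, aL⟩ : L) ∈ center L := mem_center_iff.2 fun b => Subtype.ext (ha b b.2)
    rw [e] at this
    exact congrArg Subtype.val (mem_bot.1 this)
  · have := cardSg (center_le_centralizer {(⟨x, d.xL⟩ : L)})
    rw [e, card_top, d.card, c3 d h] at this
    norm_num at this

theorem t1 : t ≠ 1 := fun e => by have := d.t2; rw [e, orderOf_one] at this; omega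

theorem VC : V x ≤ 𝒞[t] := fun _ ha => mem_cent1.2 (h.cl.V_comm d.x3 ha d.tV)

theorem tL : t ∈ 𝒞(L) := sub_cent1.1 d.nrm.le

theorem four : IsKleinFour (V x) := by
  have : Nontrivial (V x) := Finite.one_lt_card_iff_nontrivial.1 (by rw [d.V4]; norm_num)
  exact ⟨d.V4, (Monoid.exponent_eq_prime_iff Nat.prime_two).2 fun g hg =>
    orderOf_eq_prime (Subtype.ext (by
      rw [pow_two]; exact ((h.cl.mem_V d.x3).1 g.2).2)) hg⟩

theorem sup_eq : L ⊔ V x = 𝒞[t] := le_antisymm (sup_le d.nrm.le (VC d h)) fun g hg => by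
  obtain ⟨l, hl, w, hw, rfl⟩ := d.gen g hg
  exact mul_mem_sup hl hw

theorem cardC : Nat.card 𝒞[t] = 672 := by
  rw [← sup_eq d h, TI_cardMg (Or.inr ((VC d h).trans d.nrm.norm))
    (eq_bot_iff.2 fun a ha => one_of d h (mem_inf.1 ha).2 (mem_inf.1 ha).1), d.card, d.V4]

variable (hu : u ∈ V x) (uL : u ∉ 𝒞(L))
include hu uL

theorem memP {g : G} : g ∈ L ⊔ zpowers u ↔ g ∈ L ∨ ∃ c ∈ L, g = c * u :=
  TwoGrp.mem_sup_zpowers_iff (d.nrm.norm (VC d h hu))
    (by rw [((h.cl.mem_V d.x3).1 hu).2]; exact one_mem _)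

theorem notMem : u ∉ L := fun e => uL (by rw [one_of d h hu e]; exact one_mem _)

theorem idx : L.relIndex (L ⊔ zpowers u) = 2 :=
  TwoGrp.relIndex_eq_two_of_mem_iff (notMem d h hu uL) fun _ => memP d h hu uL

theorem tP : t ∉ L ⊔ zpowers u := fun e => by
  rcases (memP d h hu uL).1 e with e | ⟨c, hc, e⟩
  · exact t1 d h (one_of d h d.tV e)
  · have := one_of d h ((mul_mem_cancel_right hu).1 (e ▸ d.tV)) hc
    rw [this, one_mul] at e
    exact uL (e ▸ tL d h)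

theorem PC : L ⊔ zpowers u ≤ 𝒞[t] := sup_le d.nrm.le (zpowers_le.2 (VC d h hu))

theorem cP : 𝒞(L.subgroupOf (L ⊔ zpowers u)) = ⊥ := by
  refine eq_bot_iff.2 fun c hc => Subtype.ext ?_
  have h1 : (c : G) ∈ 𝒞(L) := fun l hl =>
    congrArg Subtype.val (hc ⟨l, mem_sup_left hl⟩ hl)
  rcases (memP d h hu uL).1 c.2 with e | ⟨l, hl, e⟩
  · exact one_of' d h h1 e
  · have h2 : (c : G) ∈ V x := (h.cl.mem_V d.x3).2 ⟨(h1 x d.xL).symm,
      one_of' d h (mul_mem h1 h1) (mul_self_mem_of_index_two (idx d h hu uL) c)⟩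
    have := one_of d h ((mul_mem_cancel_right hu).1 (e ▸ h2)) hl
    rw [this, one_mul] at e
    exact absurd (e ▸ h1) uL

theorem outer {y : G} (hy : y ∈ L ⊔ zpowers u) (yL : y ∉ L) (h2 : y * y = 1) :
    Nat.card ↥(L ⊓ 𝒞[y]) = 6 := by
  have := d.simple
  obtain ⟨e⟩ := O168.iso d.card
  have := normal_subgroupOf_of_norm ((PC d h hu uL).trans d.nrm.norm)
  rw [← pgl7_outer (L.subgroupOf (L ⊔ zpowers u)) (cP d h hu uL)
    ((subgroupOfEquivOfLe le_sup_left).trans e) (y := ⟨y, hy⟩) yL (Subtype.ext h2),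
    ← Nat.card_congr (subgroupOfEquivOfLe (inf_le_left.trans le_sup_left :
      L ⊓ 𝒞[y] ≤ L ⊔ zpowers u)).toEquiv]
  congr 2
  ext a
  simp only [mem_subgroupOf, mem_inf, mem_cent1, Subtype.ext_iff, coe_mul]

theorem not64 {v : G} (hv : v ∈ V x) (v1 : v ≠ 1) (vt : v ≠ t) : ¬ 64 ∣ Nat.card 𝒞[v] := by
  have vL : v ∉ 𝒞(L) := fun e => uL (by
    rcases (TwoGrp.mem_iff_of_isKleinFour (four d h) hv d.tV v1 (t1 d h) vt u).1 hu
      with rfl | rfl | rfl | rfl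
    exacts [one_mem _, e, tL d h, mul_mem e (tL d h)])
  have h6 := outer d h hv vL (mem_sup_right (mem_zpowers v)) (notMem d h hv vL)
    ((h.cl.mem_V d.x3).1 hv).2
  refine h.ll d.x3 hv d.tV v1 (t1 d h) vt.symm fun h8 => ?_
  have hK : oppOf 3 (𝒞[v] ⊓ 𝒞[t]) ≤ 𝒞[v] ⊓ 𝒞[t] := pcore_sub _ _
  have h3 : ¬ 3 ∣ Nat.card ↥(L ⊓ oppOf 3 (𝒞[v] ⊓ 𝒞[t])) := fun e =>
    not3_K _ (e.trans (cardSg inf_le_right))
  have h1 := h.cl.card_mod d.x3 (R := L ⊓ oppOf 3 (𝒞[v] ⊓ 𝒞[t]))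
    (normsI (A := zpowers x) (zpowers_le.2 (normG L d.xL))
      (zpowers_le.2 (pcore_norm _ _ (mem_inf.2 ⟨cent1C.1 (V_le x hv), d.nrm.le d.xL⟩)))
      (mem_zpowers x))
  rw [show L ⊓ oppOf 3 (𝒞[v] ⊓ 𝒞[t]) ⊓ 𝒞[x] = ⊥ from eq_bot_iff.2 fun a ha => one_of d h
    (h.cl.le_V d.x3 (fun e => h3 (e.trans (cardSg inf_le_left))) inf_le_right ha)
    (mem_inf.1 (mem_inf.1 ha).1).1, card_bot] at h1
  have h2 := cardSg (inf_le_inf_left L (hK.trans inf_le_left))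
  rw [h6] at h2
  have h4 : Nat.card ↥(L ⊓ oppOf 3 (𝒞[v] ⊓ 𝒞[t])) = 1 := by
    have := Nat.le_of_dvd (by norm_num) h2
    unfold Nat.ModEq at h1
    interval_cases Nat.card ↥(L ⊓ oppOf 3 (𝒞[v] ⊓ 𝒞[t])) <;> simp_all
  have h5 := relIndex_dvd_of_norm d.nrm.norm (hK.trans inf_le_right)
  have h7 := Lagrange d.nrm.le
  rw [d.card, cardC d h] at h7
  rw [← LagrangeI L, h4, one_mul] at h8
  have := h8.trans h5
  omega

end CbB

open CbB CfsgLib.DihSyl CfsgLib.PSL2Rec in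
theorem CD.not_b (d : CD t x L) (h : Min G) (hc : ¬ V x ≤ 𝒞(L)) : False := by
  obtain ⟨u, hu, uL⟩ := SetLike.not_le_iff_exists.1 hc
  have := d.simple
  obtain ⟨e⟩ := O168.iso d.card
  have PC := PC d h hu uL
  have := normal_subgroupOf_of_norm (PC.trans d.nrm.norm)
  obtain ⟨z, zL, z2⟩ := Cauchy (H := L) Nat.prime_two (by rw [d.card]; norm_num)
  obtain ⟨r, s, D, rL, sL, rz⟩ := pgl7_dih (L.subgroupOf (L ⊔ zpowers u)) (cP d h hu uL)
    ((subgroupOfEquivOfLe le_sup_left).trans e)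
    (fun e => notMem d h hu uL (subgroupOf_eq_top.1 e (mem_sup_right (mem_zpowers u))))
    (z := ⟨z, mem_sup_left zL⟩) zL (by rw [← z2, ← orderOf_coe])
  have D' := GW.isDih_map_of_injOn D (L ⊔ zpowers u).subtype fun _ _ e => Subtype.ext e
  have rz' : (r : G) ^ 4 = z := congrArg Subtype.val rz
  have mD : ∀ g, g ∈ 𝒞[(⟨z, mem_sup_left zL⟩ : ↥(L ⊔ zpowers u))].map (L ⊔ zpowers u).subtype ↔
      g ∈ L ⊔ zpowers u ∧ g ∈ 𝒞[z] := fun g =>
    ⟨by rintro ⟨a, ha, rfl⟩; exact ⟨a.2, mem_cent1.2 (congrArg Subtype.val (mem_cent1.1 ha))⟩,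
      fun ⟨h1, h2⟩ => ⟨⟨g, h1⟩, mem_cent1.2 (Subtype.ext (mem_cent1.1 h2)), rfl⟩⟩
  have tt := sq_of_two d.t2
  have tz : t ∈ 𝒞[z] := cent1C.1 (d.nrm.le zL)
  have tP := tP d h hu uL
  have st : CbA.St t (r : G) s _ := ⟨h.no_index_two, tt, cardC d h, D', fun g => by
    simp only [mD, rz', mem_inf]
    constructor
    · rintro ⟨h1, h2⟩
      obtain ⟨l, hl, w, hw, rfl⟩ := d.gen g h1
      have uP : u ∈ L ⊔ zpowers u := mem_sup_right (mem_zpowers u)
      rcases (TwoGrp.mem_iff_of_isKleinFour (four d h) hu d.tV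
        (fun e => uL (e ▸ one_mem _)) (t1 d h) (fun e => tP (e ▸ uP)) w).1 hw
        with rfl | rfl | rfl | rfl
      · exact Or.inl ⟨mul_mem_sup hl (one_mem _), h2⟩
      · exact Or.inl ⟨mul_mem (mem_sup_left hl) uP, h2⟩
      · exact Or.inr ⟨l, ⟨mem_sup_left hl, (mul_mem_cancel_right tz).1 h2⟩, rfl⟩
      · exact Or.inr ⟨l * u, ⟨mul_mem (mem_sup_left hl) uP,
          (mul_mem_cancel_right tz).1 (by rwa [mul_assoc])⟩, (mul_assoc _ _ _).symm⟩
    · rintro (⟨h1, h2⟩ | ⟨c, ⟨h1, h2⟩, rfl⟩)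
      · exact ⟨PC h1, h2⟩
      · exact ⟨mul_mem (PC h1) (cent1id t), mul_mem h2 tz⟩, fun e => tP ((mD t).1 e).1⟩
  obtain ⟨F4, -, -⟩ := st.four
  have FL : zpowers ((r : G) ^ 4) ⊔ zpowers (s : G) ≤ L :=
    sup_le (zpowers_le.2 (rz' ▸ zL)) (zpowers_le.2 sL)
  have h24 := O168.card_norm d.card (U := (zpowers ((r : G) ^ 4) ⊔ zpowers (s : G)).subgroupOf L)
    ⟨(Nat.card_congr (subgroupOfEquivOfLe FL).toEquiv).trans F4.card_four,
      (Monoid.exponent_eq_of_mulEquiv (subgroupOfEquivOfLe FL)).trans F4.exponent_two⟩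
  have h8 := O168.c2 d.card (x := ⟨z, zL⟩) (fun e => st.z1 (rz'.trans (congrArg Subtype.val e)))
    (by rw [← orderOf_coe, z2]; norm_num)
  obtain ⟨k, kF, kz⟩ := SetLike.not_le_iff_exists.1 fun e =>
    absurd (h24 ▸ (cardSg e).trans h8) (by norm_num)
  refine st.false (fun i e hi he => ?_) (k := k)
    (by rw [mem_cent1.1 (d.nrm.le k.2), mul_inv_cancel_right])
    (mem_norm_of_cj_le (cj_le_iff.2 fun a ha => (mem_normalizer_iff.1 kF ⟨a, FL ha⟩).1 ha))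
    fun e => kz (mem_cent1.2 (Subtype.ext (by rw [rz'] at e; exact mul_inv_eq_iff_eq_mul.1 e)))
  have yP : (r : G) ^ i * s ∈ L ⊔ zpowers u := mul_mem (zpow_mem r.2 i) s.2
  have yL : (r : G) ^ i * s ∉ L := fun e => rL (by
    obtain ⟨j, rfl⟩ := hi
    have h1 : (r : G) * r ∈ L := mul_self_mem_of_index_two (idx d h hu uL) r
    rw [mul_mem_cancel_right (show (s : G) ∈ L from sL), zpow_add_one, zpow_mul, zpow_two,
      mul_mem_cancel_left (zpow_mem h1 j)] at e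
    exact e)
  obtain ⟨x', hx', h3⟩ := Cauchy (H := L ⊓ 𝒞[(r : G) ^ i * s]) Nat.prime_three
    (by rw [outer d h hu uL yP yL (D'.rpows_sq i)]; norm_num)
  obtain ⟨xL, xy⟩ := mem_inf.1 hx'
  obtain ⟨m, mL, hm⟩ := h.cl.conj3 h3 d.x3 xL d.xL
  have he' : e ∈ zpowers t := by rcases he with rfl | rfl; exacts [one_mem _, mem_zpowers _]
  have eC : ∀ a ∈ 𝒞[t], a * e = e * a := fun a ha =>
    mem_cent1.1 (cent1_le_cent1_of_mem_zpowers he' ha)
  have hv : m * ((r : G) ^ i * s * e) * m⁻¹ ∈ V x := by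
    have : (r : G) ^ i * s * e ∈ V x' := (h.cl.mem_V h3).2 ⟨by
      rw [mul_assoc, ← eC x' (d.nrm.le xL), ← mul_assoc, ← mem_cent1.1 xy, mul_assoc], by
      rw [mul_assoc, ← mul_assoc e, ← eC _ (PC yP), mul_assoc _ e, ← mul_assoc, st.dih.rpows_sq]
      rcases he with rfl | rfl
      exacts [by simp, by rw [tt, mul_one]]⟩
    have := conj_mem_cj (g := m).2 this
    rw [cj_V] at this
    rcases hm with e | e <;> rw [e] at this
    · exact this
    · rwa [V_inv] at this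
  have key : ∀ f, f = 1 ∨ f = t → m * ((r : G) ^ i * s * e) * m⁻¹ ≠ f := fun f hf e1 => by
    have e2 : (r : G) ^ i * s * e = f := by
      rw [mul_inv_eq_iff_eq_mul] at e1
      rcases hf with rfl | rfl
      · simpa using e1
      · rw [← mem_cent1.1 (d.nrm.le mL)] at e1
        exact mul_left_cancel e1
    rcases he with rfl | rfl <;> rcases hf with rfl | rfl
    · exact yL (by rw [mul_one] at e2; rw [e2]; exact one_mem _)
    · exact tP (by rw [mul_one] at e2; exact e2 ▸ yP)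
    · exact tP (by rw [eq_inv_of_mul_eq_one_left e2] at yP; exact inv_mem_iff.1 yP)
    · exact yL (by rw [mul_eq_right.1 e2]; exact one_mem _)
  rw [← CbA.card_cent_conj m]
  exact not64 d h hu uL hv (key 1 (Or.inl rfl)) (key t (Or.inr rfl))

end CfsgLib.C3
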