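import Cfsg.Agent.Lib.C3.CompA
import Cfsg.Agent.Lib.BG.S3_10

/-! Package COMP: the component type case, reduction.  See `plans/C3.md`. -/

set_option autoImplicit false

namespace CfsgLib.C3

open Cfsg CfsgLib.BG Subgroup
open scoped MatrixGroups

universe u

section loc

variable {X B A : Type*} [Group X] [Finite X] [Group B] [Finite B] [Group A] {L : Subgroup B}
  {π : L →* A} {φ : X →* B}

omit [Finite B] in
theorem inf_ker_eq_bot (ho : Odd (Nat.card φ.ker)) {T : Subgroup X} (hT : IsPGroup 2 T) :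
    T ⊓ φ.ker = ⊥ :=
  coprime_TIg (pgroup_coprime Nat.prime_two hT ((p'group_iff Nat.prime_two).2 ho.not_two_dvd_nat))

theorem Loc.caseQ (h : Loc L π) (hX : Cl X) (hs : Function.Surjective φ)
    (ho : Odd (Nat.card φ.ker)) (hne : L ⊓ 𝒞(L) ≠ ⊥) :
    ∃ (x ζ : X) (T : Sylow 2 X), orderOf x = 3 ∧ ζ ∈ V x ∧ ζ ≠ 1 ∧ (∃ a ∈ (T : Subgroup X), a * a = ζ) ∧
      (∀ a ∈ (T : Subgroup X), a * a * (a * a) = 1 → a * a = 1 ∨ a * a = ζ) ∧
      (∀ E ≤ (T : Subgroup X), (∀ e ∈ E, e * e = 1) → Nat.card E ≤ 4) ∧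
      (∀ N : Subgroup X, 𝒞[ζ] ≤ 𝒩(N) → ¬ 3 ∣ Nat.card N → ¬ 8 ∣ Nat.card N) ∧
      ∀ t ∈ V x, t ≠ 1 → t ≠ ζ → 32 ∣ Nat.card (T : Subgroup X) := by
  have := Fact.mk Nat.prime_two
  have := h.nrm
  obtain ⟨_, xL, hx'⟩ := h.exists_three
  obtain ⟨x, hx, rfl⟩ := hX.lift3 φ hs hx'
  obtain ⟨_, ζ1, ζV, ζc, hu, ⟨a, ha⟩, hL, hi⟩ := h.quat hx' xL hne
  have ζ2 := ((h.cl.mem_V hx').1 ζV).2
  rw [← hX.map_V φ hs hx (three_ne_one hx')] at ζV
  obtain ⟨ζ, ζV, rfl⟩ := ζV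
  obtain ⟨T, hT⟩ := (hX.V_pgroup hx).exists_le_sylow
  have hTk := inf_ker_eq_bot ho T.isPGroup'
  have inj : ∀ a ∈ (T : Subgroup X), ∀ b ∈ (T : Subgroup X), φ a = φ b → a = b := fun a ha b hb e =>
    inv_mul_eq_one.1 (mem_bot.1 (hTk ▸ mem_inf.2 ⟨mul_mem (inv_mem ha) hb, by
      change φ _ = 1; rw [map_mul, map_inv, e, inv_mul_cancel]⟩))
  have sqL : ∀ b, b * b ∈ L := fun b => by
    obtain ⟨l, hl, v, hv, rfl⟩ := h.gen hx' xL b
    rw [show l * v * (l * v) = l * (v * l * v⁻¹) * (v * v) by group, ((h.cl.mem_V hx').1 hv).2, mul_one]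
    exact mul_mem hl (this.conj_mem _ hl _)
  have o2 : orderOf (φ ζ) = 2 := orderOf_eq_prime (by rw [sq, ζ2]) ζ1
  refine ⟨x, ζ, T, hx, ζV, fun e => ζ1 (by rw [e, map_one]), ?_, fun b hb e => ?_, fun E hE he => ?_,
    fun N hN h3 h8 => ?_, fun t ht t1 tζ => ?_⟩
  · obtain ⟨g, -, hg⟩ := Sylow_Jsub Nat.prime_two (isSylowOf_top Nat.prime_two (T.mapSurjective hs))
      (Q := zpowers a) le_top (pgp_of_card_pow (n := 2) (by
        rw [Nat.card_zpowers]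
        exact orderOf_eq_prime_pow (by rwa [pow_one, sq, ha])
          (by rw [show 2 ^ (1 + 1) = 2 * 2 from rfl, pow_mul, sq, sq, ha, ζ2])) Nat.prime_two)
    obtain ⟨b, hb, e⟩ := hg (conj_mem_cj.2 (mem_zpowers a))
    refine ⟨b, hb, inj _ (mul_mem hb hb) _ (hT ζV) ?_⟩
    rw [map_mul, e, show g * a * g⁻¹ * (g * a * g⁻¹) = g * (a * a) * g⁻¹ by group, ha, ζc,
      mul_inv_cancel_right]
  · rcases hu _ (sqL (φ b)) (by rw [← map_mul, ← map_mul, e, map_one]) with e | e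
    · exact Or.inl (inj _ (mul_mem hb hb) _ (one_mem _) (by rw [map_mul, e, map_one]))
    · exact Or.inr (inj _ (mul_mem hb hb) _ (hT ζV) (by rw [map_mul, e]))
  · have h1 := Core.card_map_mul_card_inf_ker φ E
    rw [eq_bot_iff.2 ((inf_le_inf_right _ hE).trans hTk.le), card_bot, mul_one] at h1
    have h2 : L ⊓ E.map φ ≤ zpowers (φ ζ) := by
      rintro _ ⟨hl, e, he', rfl⟩
      rcases hu _ hl (by rw [← map_mul, he e he', map_one]) with e | e <;> rw [e]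
      exacts [one_mem _, mem_zpowers _]
    have h3 := BG.card_le_of_le h2
    rw [Nat.card_zpowers, o2] at h3
    rw [← h1, ← LagrangeI L]
    exact Nat.mul_le_mul h3 (Nat.le_of_dvd two_pos ((relIndex_dvd_index_of_normal _ _).trans hi))
  · have h1 := coprime_sup_cent (N := φ.ker) (K := ⊤) (A := zpowers ζ) le_top (commutator_le.2 (by
      rintro g - _ ⟨i, rfl⟩
      change φ _ = 1
      rw [map_commutatorElement, map_zpow, commutatorElement_eq_one_iff_commute]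
      exact Commute.zpow_right (ζc _) i)) (by
        refine (pgroup_coprime Nat.prime_two ((hX.V_pgroup hx).to_le (zpowers_le.2 ζV))
          ((p'group_iff Nat.prime_two).2 ho.not_two_dvd_nat)).symm) (Or.inl inferInstance)
    rw [top_inf_eq, cent_zpowers] at h1
    have h2 : (N.map φ).Normal := ⟨by
      rintro _ ⟨n, hn, rfl⟩ g
      obtain ⟨g, rfl⟩ := hs g
      obtain ⟨o, ho, d, hd, rfl⟩ := (mem_sup_norm_l le_normalizer_of_normal).1 (h1.ge (mem_top g))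
      refine ⟨_, conj_mem_of_mem_norm (hN hd) hn, ?_⟩
      simp only [map_mul, map_inv, show φ o = 1 from ho, one_mul]⟩
    have h4 := Core.card_map_mul_card_inf_ker φ N
    have h5 := (cardSg ((h.le_cent (N.map φ) fun e => notMem_of_not3 hx'
      (fun e => h3 (e.trans (card_map_dvd _ _))) (e xL)).trans (h.cent_le hx' xL))).trans
      (h.cl.card_V hx')
    have h6 : Odd (Nat.card ↥(N ⊓ φ.ker)) := oddSg inf_le_right ho
    rw [← h4] at h8
    have h7 := (Nat.Coprime.dvd_of_dvd_mul_right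
      (Nat.Coprime.pow_left 3 (Nat.coprime_two_left.2 h6)) h8).trans h5
    norm_num at h7
  · have h1 : φ t ∉ L := fun e => by
      rcases hu _ e (by rw [← map_mul, ((hX.mem_V hx).1 ht).2, map_one]) with e | e
      · exact t1 (inj _ (hT ht) _ (one_mem _) (by rw [e, map_one]))
      · exact tζ (inj _ (hT ht) _ (hT ζV) e)
    have h2 : L.index = 2 := ((Nat.dvd_prime Nat.prime_two).1 hi).resolve_left fun e =>
      h1 (index_eq_one.1 e ▸ mem_top _)
    refine T.pow_dvd_card_of_pow_dvd_card (n := 5) (Dvd.dvd.trans ?_ (card_dvd_of_surjective φ hs))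
    rw [← L.card_mul_index, hL, h2]
    norm_num

theorem Loc.ker_bot (h : Loc L π) (hX : Cl X) (hs : Function.Surjective φ)
    (ho : Odd (Nat.card φ.ker)) (h3 : ¬ 3 ∣ Nat.card φ.ker) (hsol : Group.IsSolvable φ.ker)
    (hZ : L ⊓ 𝒞(L) = ⊥) [IsSimpleGroup L] (hL : Nat.card L = 168) : φ.ker = ⊥ := by
  have := Fact.mk Nat.prime_two
  obtain ⟨_, xL, hx'⟩ := h.exists_three
  obtain ⟨x, hx, rfl⟩ := hX.lift3 φ hs hx'
  have hx3 : orderOf (⟨φ x, xL⟩ : L) = 3 := (orderOf_mk _ xL).trans hx'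
  obtain ⟨U, hU, hxU⟩ := PSL2Rec.O168.le_norm_three hL (M := zpowers ⟨φ x, xL⟩)
    (Or.inl (by rw [Nat.card_zpowers, hx3]))
  have hc : Nat.card (zpowers x) = 3 := by rw [Nat.card_zpowers, hx]
  have h1 := Core.card_map_mul_card_inf_ker φ ((U.map L.subtype).comap φ)
  rw [map_comap_eq_self_of_surjective hs, inf_eq_right.2 (ker_le_comap _ _), card_subtype,
    hU.card_four] at h1
  have xU : x ∈ 𝒩((U.map L.subtype).comap φ) := mem_norm_of_cj_le (cj_le_iff.2 (by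
    rintro u ⟨w, hw, e⟩
    exact ⟨_, conj_mem_of_mem_norm (hxU (mem_zpowers _)) hw, by
      simp only [map_mul, map_inv, e]; rfl⟩))
  obtain ⟨F, hF, xF⟩ := coprime_Sylow_exists Nat.prime_two (zpowers_le.2 xU) (by
    rw [hc, ← h1]
    exact Nat.Coprime.mul_left (by norm_num) (Nat.prime_three.coprime_iff_not_dvd.2 h3).symm)
    (Or.inl inferInstance)
  have hFp := Sylow_isPGroup hF
  have hFk := inf_ker_eq_bot ho hFp
  have F1 : F ≠ ⊥ := Sylow_ne_bot Nat.prime_two hF (by rw [← h1]; exact Dvd.dvd.mul_right (by norm_num) _)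
  have FL : F.map φ ≤ L := by
    rintro _ ⟨f, hf, rfl⟩
    obtain ⟨w, -, e⟩ := hF.1 hf
    exact e ▸ w.2
  obtain ⟨k, hk⟩ := pgroup_card Nat.prime_two hFp
  have hd : F ⊓ zpowers x = ⊥ := coprime_TIg (by rw [hc, hk]; exact Nat.Coprime.pow_left _ (by norm_num))
  have hfr := prime_Frobenius (sdprodY xF hd) F1 (hc ▸ Nat.prime_three) (eq_bot_iff.2 fun f hf => by
    have h2 : orderOf (⟨φ f, FL (mem_map_of_mem _ hf.1)⟩ : L) ∣ 3 := by
      rw [← PSL2Rec.O168.c3 hL hx3]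
      refine order_dvdG (mem_cent1.2 (Subtype.ext ?_))
      change φ f * φ x = φ x * φ f
      rw [← map_mul, ← hf.2 x (mem_zpowers x), map_mul]
    rw [orderOf_mk] at h2
    have h4 : orderOf (φ f) ∣ 2 ^ k := (orderOf_map_dvd _ _).trans (hk ▸ order_dvdG hf.1)
    exact hFk.le ⟨hf.1, orderOf_eq_one_iff.1 (Nat.eq_one_of_dvd_coprimes
      (Nat.Coprime.pow_right k (by norm_num)) h2 h4)⟩)
  have hO : φ.ker ⊓ 𝒞(zpowers x) = ⊥ := eq_bot_iff.2 fun o ho' => by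
    have h2 := hX.mem_V_of hx (fun e => h3 (e.trans (order_dvdG ho'.1))) (ho'.2 x (mem_zpowers x)).symm
    exact (inf_ker_eq_bot ho (hX.V_pgroup hx)).le ⟨h2, ho'.1⟩
  have hw := (Frobenius_Wielandt_fixpoint hfr le_normalizer_of_normal (by
    rw [TI_cardMg (Or.inr xF) hd, hc, hk]
    exact Nat.Coprime.mul_right (Nat.Coprime.pow_right _ (Nat.coprime_two_right.2 ho))
      (Nat.prime_three.coprime_iff_not_dvd.2 h3).symm) hsol).2.1 hO
  have := (normal_centralizer (H := φ.ker)).map φ hs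
  have h2 : L ≤ 𝒞(φ.ker).map φ := by
    by_contra hh
    have h4 : F.map φ = ⊥ := eq_bot_iff.2 (hZ ▸ le_inf FL ((map_mono hw).trans (h.le_cent _ hh)))
    exact F1 (eq_bot_iff.2 (hFk ▸ le_inf le_rfl ((Subgroup.map_eq_bot_iff _).1 h4)))
  obtain ⟨c, hc', e⟩ := h2 xL
  have h4 : c⁻¹ * x ∈ φ.ker := by
    change φ _ = 1
    rw [map_mul, map_inv, e, inv_mul_cancel]
  have h5 : c⁻¹ * x = 1 := mem_bot.1 (hO ▸ mem_inf.2 ⟨h4, by
    rw [cent_zpowers, mem_cent1]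
    have := hc' _ h4
    calc c⁻¹ * x * x = c⁻¹ * x * c * (c⁻¹ * x) := by group
      _ = x * (c⁻¹ * x) := by rw [this]; group⟩)
  rw [inv_mul_eq_one.1 h5] at hc'
  rw [← hO, eq_comm, inf_eq_left]
  exact cents_symm (zpowers_le.2 hc')

end loc

variable {G : Type*} [Group G] [Finite G]

theorem Cl.coe_V (h : Cl G) {H : Subgroup G} {x v : H} (hx : orderOf x = 3) (hv : v ∈ V x) :
    (v : G) ∈ V (x : G) :=
  (h.mem_V ((orderOf_coe _).trans hx)).2 ⟨congrArg Subtype.val (((h.sub H).mem_V hx).1 hv).1,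
    congrArg Subtype.val (((h.sub H).mem_V hx).1 hv).2⟩

theorem Cl.self_V (h : Cl G) {t : G} (t2 : orderOf t = 2) {x : 𝒞[t]} (hx : orderOf x = 3) :
    (⟨t, cent1id t⟩ : 𝒞[t]) ∈ V x :=
  ((h.sub _).mem_V hx).2 ⟨Subtype.ext (mem_cent1.1 x.2).symm, Subtype.ext (sq_of_two t2)⟩

section

variable {t : G} {B A : Type*} [Group B] [Finite B] [Group A] {L : Subgroup B} {π : L →* A}
  {φ : 𝒞[t] →* B}

theorem rank_of_quat (h : Min G) (t2 : orderOf t = 2) (hL : Loc L π) (hs : Function.Surjective φ)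
    (ho : Odd (Nat.card φ.ker)) (hZ : L ⊓ 𝒞(L) ≠ ⊥) : PRankLE 2 2 G := by
  have := Fact.mk Nat.prime_two
  have t1 : t ≠ 1 := fun e => by simp [e] at t2
  have hX := h.cl.sub 𝒞[t]
  obtain ⟨x, ζ, T, hx, ζV, ζ1, ⟨a, aT, ha⟩, hsq, hE, hN, h32⟩ := hL.caseQ hX hs ho hZ
  have hT := isSylowOf_map Nat.prime_two T
  have ζ2 := ((hX.mem_V hx).1 ζV).2
  have hn : 𝒩((T : Subgroup 𝒞[t]).map 𝒞[t].subtype) ≤ 𝒞[(ζ : G)] := fun g hg => by
    obtain ⟨b, hb, e⟩ := conj_mem_of_mem_norm hg (mem_map_of_mem _ aT)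
    have e2 : ((b * b : 𝒞[t]) : G) = g * ζ * g⁻¹ := by
      rw [← ha]
      change 𝒞[t].subtype b * 𝒞[t].subtype b = g * (𝒞[t].subtype a * 𝒞[t].subtype a) * g⁻¹
      rw [e]; group
    rcases hsq b hb (Subtype.ext (by
      rw [coe_mul, e2, show g * ζ * g⁻¹ * (g * ζ * g⁻¹) = g * ((ζ * ζ : 𝒞[t]) : G) * g⁻¹ by
        rw [coe_mul]; group, ζ2]
      simp)) with e3 | e3 <;> rw [e3] at e2
    · exact absurd (Subtype.ext (by simpa using e2.symm)) ζ1
    · exact mem_cent1.2 (mul_inv_eq_iff_eq_mul.1 e2.symm)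
  have hS : IsSylowOf 2 ((T : Subgroup 𝒞[t]).map 𝒞[t].subtype) 𝒞[(ζ : G)] := by
    by_cases e : t = ζ
    · exact e ▸ hT
    have h64 := h.ll ((orderOf_coe _).trans hx) (h.cl.coe_V hx ζV) (h.cl.coe_V hx (h.cl.self_V t2 hx))
      (fun e => ζ1 (Subtype.ext e)) t1 e (by
        have h1 : oppOf 3 (𝒞[(ζ : G)] ⊓ 𝒞[t]) ≤ 𝒞[t] := (pcore_sub _ _).trans inf_le_right
        have h2 := Nat.card_congr (subgroupOfEquivOfLe h1).toEquiv
        rw [← h2]
        refine hN _ (fun g hg => mem_norm_of_cj_le (cj_le_iff.2 fun n hn => ?_)) (h2 ▸ not3_K _)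
        exact mem_subgroupOf.2 (conj_mem_of_mem_norm (g := (g : G)) (pcore_norm _ _ (mem_inf.2
          ⟨mem_cent1.2 (congrArg Subtype.val (mem_cent1.1 hg)), g.2⟩)) (mem_subgroupOf.1 hn)))
    have h1 := (normG _).trans hn
    refine Sylow_intro h1 hT.2.1 fun e2 => h64 ?_
    rw [← Lagrange h1, card_subtype]
    exact Nat.mul_dvd_mul (h32 _ (h.cl.self_V t2 hx) (fun e => t1 (congrArg Subtype.val e))
      fun e' => e (congrArg Subtype.val e')) e2
  have hS' := Sylow_of_norm_le Nat.prime_two hS le_top (inf_le_right.trans hn)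
  intro E _ hE2
  obtain ⟨g, -, hg⟩ := Sylow_Jsub Nat.prime_two hS' (Q := E) le_top
    ((pigroup_singleton Nat.prime_two).2 fun e => ⟨1, Subtype.ext (by simpa using hE2 e e.2)⟩)
  rw [← card_cj g, ← Nat.card_congr (subgroupOfEquivOfLe (hg.trans hT.1)).toEquiv]
  refine hE _ (fun e he => ?_) fun e he => Subtype.ext ?_
  · obtain ⟨e', he', e2⟩ := hg he
    exact Subtype.ext e2 ▸ he'
  · obtain ⟨y, hy, e2⟩ := mem_cj'.1 (mem_subgroupOf.1 he)
    rw [coe_mul, e2, show g * y * g⁻¹ * (g * y * g⁻¹) = g * y ^ 2 * g⁻¹ by rw [sq]; group, hE2 y hy]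
    simp

theorem cd_or (h : Min G) (t2 : orderOf t = 2) (hL : Loc L π) (hs : Function.Surjective φ)
    (ho : Odd (Nat.card φ.ker)) (h3 : ¬ 3 ∣ Nat.card φ.ker) (hsol : Group.IsSolvable φ.ker)
    (hZ : L ⊓ 𝒞(L) = ⊥) : (∃ (x : G) (L : Subgroup G), CD t x L) ∨
      ∃ (q : ℕ) (_ : Fact q.Prime), 4 ≤ q ∧
        Nonempty (↥(closure {b : B | ∃ k : ℕ, orderOf b = 2 ^ k}) ≃*
          (Multiplicative (ZMod 2) × PSL(2, ZMod q))) := by
  have := Fact.mk Nat.prime_two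
  have t1 : t ≠ 1 := fun e => by simp [e] at t2
  have hX := h.cl.sub 𝒞[t]
  obtain ⟨_, xL, hx'⟩ := hL.exists_three
  obtain ⟨x, hx, rfl⟩ := hX.lift3 φ hs hx'
  have tV := h.cl.self_V t2 hx
  have s2 : orderOf (φ ⟨t, cent1id t⟩) = 2 := by
    refine orderOf_eq_prime ?_ fun e => t1 (congrArg Subtype.val (mem_bot.1
      ((inf_ker_eq_bot ho (hX.V_pgroup hx)).le (mem_inf.2 ⟨tV, e⟩))))
    rw [sq, ← map_mul, ((hX.mem_V hx).1 tV).2, map_one]
  refine (hL.prod hx' xL hZ s2 (fun g => by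
    obtain ⟨g, rfl⟩ := hs g
    rw [← map_mul, ← map_mul]
    exact congrArg φ (Subtype.ext (mem_cent1.1 g.2)))).imp_left fun ⟨h4, h5⟩ => ?_
  have hinj : Function.Injective π := (injective_iff_map_eq_one π).2 fun l hl =>
    Subtype.ext (mem_bot.1 (hZ ▸ mem_inf.2 ⟨l.2, (hL.ker l).1 hl⟩))
  have e := MulEquiv.ofBijective π ⟨hinj, hL.surj⟩
  have := (hL.sm.of_equiv e).simple
  have h168 : Nat.card L = 168 := by
    rw [Nat.card_congr e.toEquiv, hL.card_A hx' xL (h5.le.trans bot_le)]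
  have hi := (MonoidHom.ker_eq_bot_iff φ).1 (hL.ker_bot hX hs ho h3 hsol hZ h168)
  have e1 : (L.comap φ).map 𝒞[t].subtype ≃* L :=
    (equivMapOfInjective _ _ (subtype_injective _)).symm.trans
      (MulEquiv.ofBijective (φ.subgroupComap L) ⟨fun a b e =>
        Subtype.ext (hi (congrArg Subtype.val e)),
        MonoidHom.subgroupComap_surjective_of_surjective _ _ hs⟩)
  have := hL.nrm
  refine ⟨x, (L.comap φ).map 𝒞[t].subtype, t2, (orderOf_coe _).trans hx, ⟨x, xL, rfl⟩,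
    h.cl.coe_V hx tV, ?_, e1.isSimpleGroup, by rw [Nat.card_congr e1.toEquiv, h168],
    normalIn_map_subtype _, fun g hg => ?_⟩
  · refine Nat.dvd_antisymm (h.cl.card_V ((orderOf_coe _).trans hx)) ?_
    rw [← h4, ← hX.map_V φ hs hx (three_ne_one hx')]
    refine (card_map_dvd _ _).trans ?_
    rw [← card_subtype]
    refine cardSg ?_
    rintro _ ⟨v, hv, rfl⟩
    exact h.cl.coe_V hx hv
  · obtain ⟨l, hl, v, hv, e⟩ := hL.gen hx' xL (φ ⟨g, hg⟩)
    rw [← hX.map_V φ hs hx (three_ne_one hx')] at hv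
    obtain ⟨v, hv, rfl⟩ := hv
    obtain ⟨l, rfl⟩ := hs l
    exact ⟨l, ⟨l, hl, rfl⟩, v, h.cl.coe_V hx hv,
      congrArg Subtype.val (hi (e.trans (map_mul _ _ _).symm))⟩

end

theorem comp_cases (h : Min G) (hc : IsComponentType G) (hJ : JTW G) :
    PRankLE 2 2 G ∨ (∃ S : Sylow 2 G, IsMulCommutative (S : Subgroup G)) ∨
      ∃ (t x : G) (L : Subgroup G), CD t x L := by
  have := Fact.mk Nat.prime_two
  obtain ⟨t, t2, hc⟩ := hc
  have t1 : t ≠ 1 := fun e => by simp [e] at t2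
  obtain ⟨hOK, hK, L, A, _, π, hL⟩ := exists_loc (h.cl.sub 𝒞[t]) (h.st _ (h.cent_ne_top t1)) hc
  have hs := QuotientGroup.mk'_surjective (oddCore 𝒞[t])
  have hk := QuotientGroup.ker_mk' (oddCore 𝒞[t])
  have ho : Odd (Nat.card (QuotientGroup.mk' (oddCore 𝒞[t])).ker) := by
    rw [hk]; exact Nat.coprime_two_right.1 (Core.coprime_card_pPrimeCore 2 _)
  by_cases hZ : L ⊓ 𝒞(L) = ⊥
  swap
  · exact Or.inl (rank_of_quat h t2 hL hs ho hZ)
  rcases cd_or h t2 hL hs ho (fun e => (Nat.Prime.coprime_iff_not_dvd Nat.prime_three).1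
      (Core.coprime_card_pPrimeCore 3 _).symm (e.trans (cardSg (hk.le.trans hOK))))
    (Group.isSolvable_of_isSolvable_injective (inclusion_injective (hk.le.trans hOK))) hZ with
    ⟨x, L, hd⟩ | ⟨q, _, h4, e⟩
  · exact Or.inr (Or.inr ⟨t, x, L, hd⟩)
  obtain ⟨S⟩ : Nonempty (Sylow 2 G) := inferInstance
  have h5 := (hJ t t2 (ZMod q) (by rw [ZMod.card]; omega) e S).2
  refine Or.inr (Or.inl ⟨S, abelian_iff.2 (cents_iff.2 fun a ha b hb => ?_)⟩)
  have i : ∀ c ∈ (S : Subgroup G), c⁻¹ = c := fun c hc =>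
    inv_eq_of_mul_eq_one_right (by rw [← sq, h5 c hc])
  rw [← i _ (mul_mem ha hb), mul_inv_rev, i a ha, i b hb]

end CfsgLib.C3
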