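import Cfsg.Agent.Lib.C3.PGL
import Cfsg.Agent.Lib.Comp.Component
import Cfsg.Agent.Lib.Transfer.Focal
import Cfsg.Agent.Lib.Fusion.RankTwo

/-! Package COMP: the structure of `C(t) / O(C(t))`.  See `plans/C3.md`. -/

set_option autoImplicit false
set_option linter.unusedSectionVars false

namespace CfsgLib.C3

open Cfsg CfsgLib.BG Subgroup CfsgLib.Comp
open scoped MatrixGroups commutatorElement

universe u

theorem comm_zpowers_le {G : Type*} [Group G] {N : Subgroup G} {a b : G} (ha : a ∈ 𝒩(N))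
    (hb : b ∈ 𝒩(N)) (h : ⁅a, b⁆ ∈ N) : ⁅zpowers a, zpowers b⁆ ≤ N := by
  have := normal_subgroupOf_of_norm (le_refl 𝒩(N))
  let f := QuotientGroup.mk' (N.subgroupOf 𝒩(N))
  have hc : Commute (f ⟨a, ha⟩) (f ⟨b, hb⟩) := commutatorElement_eq_one_iff_commute.1 (by
    rw [← map_commutatorElement]; exact (QuotientGroup.eq_one_iff _).2 h)
  refine commutator_le.2 ?_
  rintro _ ⟨i, rfl⟩ _ ⟨j, rfl⟩
  have h1 := commutatorElement_eq_one_iff_commute.2 (hc.zpow_zpow i j)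
  rw [← map_zpow, ← map_zpow, ← map_commutatorElement] at h1
  exact mem_subgroupOf.1 ((QuotientGroup.eq_one_iff _).1 h1)

theorem inv_norm {G : Type*} [Group G] [Finite G] {a c : G} (h : a * c * a⁻¹ = c⁻¹) :
    a ∈ 𝒩(zpowers (c * c)) := by
  refine mem_norm_of_cj_le ?_
  rw [cj_zpowers, zpowers_le, show a * (c * c) * a⁻¹ = (a * c * a⁻¹) * (a * c * a⁻¹) by group, h,
    ← mul_inv_rev]
  exact inv_mem (mem_zpowers _)

/-- A perfect central extension of `L₂(7)` or `L₂(13)` by an elementary 2-group. -/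
theorem quat {M A : Type*} [Group M] [Finite M] [Group A] (hA : Sm A) (π : M →* A)
    (hs : Function.Surjective π) (hp : _root_.commutator M = ⊤)
    (hc : ∀ z, π z = 1 → ∀ g, g * z = z * g) (h2 : ∀ z, π z = 1 → z * z = 1)
    (hne : ∃ z, z ≠ 1 ∧ π z = 1) :
    ∃ ζ, ζ ≠ 1 ∧ (∀ z, π z = 1 ↔ z = 1 ∨ z = ζ) ∧ (∀ m, m * m = 1 → m = 1 ∨ m = ζ) ∧
      ∃ a, a * a = ζ := by
  have := Fact.mk Nat.prime_two
  have := Finite.of_surjective π hs
  obtain ⟨T⟩ : Nonempty (Sylow 2 A) := inferInstance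
  obtain ⟨a', b', ha, hb, hab, hT⟩ := sylow_sm hA T
  obtain ⟨a, rfl⟩ := hs a'
  obtain ⟨b, rfl⟩ := hs b'
  have hζ : π (a * a) = 1 := by rw [map_mul, sq_of_two ha]
  have key : ∀ m, orderOf (π m) = 2 → m * m = a * a := fun m hm => by
    obtain ⟨k', hk⟩ := isConj_iff.1 (conj2_sm hA ha hm)
    obtain ⟨k, rfl⟩ := hs k'
    have hz : π ((k * a * k⁻¹)⁻¹ * m) = 1 := by
      rw [map_mul, map_inv, map_mul, map_mul, map_inv, hk, inv_mul_cancel]
    obtain ⟨z, hz', rfl⟩ : ∃ z, π z = 1 ∧ m = k * a * k⁻¹ * z := ⟨_, hz, by group⟩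
    calc k * a * k⁻¹ * z * (k * a * k⁻¹ * z) = k * a * k⁻¹ * (z * (k * a * k⁻¹)) * z := by group
      _ = k * (a * a) * k⁻¹ * (z * z) := by rw [← hc z hz']; group
      _ = a * a := by rw [h2 z hz', mul_one, hc _ hζ, mul_inv_cancel_right]
  have hbb := key b hb
  have ai : a⁻¹ = a * (a * a) := by
    rw [inv_eq_iff_mul_eq_one, ← mul_assoc, h2 _ hζ]
  have bi : b⁻¹ = b * (a * a) := by
    rw [inv_eq_iff_mul_eq_one, ← mul_assoc, hbb, h2 _ hζ]
  have hba : (a * b)⁻¹ = b * a := by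
    rw [mul_inv_rev, ai, bi, mul_assoc b, ← mul_assoc (a * a), ← hc _ hζ a, mul_assoc a (a * a),
      h2 _ hζ, mul_one]
  have na : a ∈ 𝒩(zpowers (a * b * (a * b))) := inv_norm (by
    rw [hba, ← mul_assoc, ← hc _ hζ b]; group)
  have nb : b ∈ 𝒩(zpowers (a * b * (a * b))) := inv_norm (by rw [hba]; group)
  have hab' : ⁅a, b⁆ = a * b * (a * b) := by
    rw [commutatorElement_def, mul_assoc (a * b), ← mul_inv_rev, ← hba, inv_inv]
  have hker : IsPGroup 2 π.ker := fun z => ⟨1, Subtype.ext (by simpa [sq] using h2 z z.2)⟩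
  have hP : IsPGroup 2 ((T : Subgroup A).comap π) := T.isPGroup'.comap_of_ker_isPGroup π hker
  have h1 := Transfer.inf_commutator_inf_center_le_of_hall (H := (T : Subgroup A).comap π) (by
    obtain ⟨k, hk⟩ := hP.exists_card_eq
    rw [hk, index_comap_of_surjective _ hs]
    exact Nat.Coprime.pow_left _ ((Nat.Prime.coprime_iff_not_dvd Nat.prime_two).2 T.not_dvd_index))
  have hPe : (T : Subgroup A).comap π = (zpowers a ⊔ zpowers b) ⊔ π.ker := by
    rw [← comap_map_eq, Subgroup.map_sup, MonoidHom.map_zpowers, MonoidHom.map_zpowers, hT,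
      zpowers_eq_closure, zpowers_eq_closure, ← Subgroup.closure_union]
    rfl
  rw [hp, hPe, commutator_sup_of_le_centralizer (fun z hz g _ => hc z hz g)] at h1
  have h3 : ⁅zpowers a ⊔ zpowers b, zpowers a ⊔ zpowers b⁆ ≤ zpowers (a * b * (a * b)) :=
    der1_sup_le (zpowers_le.2 na) (zpowers_le.2 nb) (comm_zpowers_le na na (by simp))
      (comm_zpowers_le na nb (hab' ▸ mem_zpowers _)) (comm_zpowers_le nb nb (by simp))
  have h4 : ∀ z, π z = 1 → z ∈ zpowers (a * a) := fun z hz => by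
    obtain ⟨i, hi⟩ := h3 (h1 ⟨⟨mem_sup_right hz, trivial⟩, mem_center_iff.2 (hc z hz)⟩)
    rw [← map_mul] at hab
    rcases hab with e | e
    · exact ⟨i, by rw [← hi, key _ e]⟩
    · have e2 : orderOf (π (a * b * (a * b))) = 2 := by
        rw [map_mul π (a * b), ← sq, orderOf_pow' _ two_ne_zero, e]; rfl
      have h5 : π (a * b * (a * b)) ^ i = 1 := by rw [← map_zpow]; exact (congrArg π hi).trans hz
      rw [← orderOf_dvd_iff_zpow_eq_one, e2] at h5
      obtain ⟨j, rfl⟩ := h5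
      exact ⟨j, by simp only at hi ⊢; rw [← hi, zpow_mul, ← key _ e2]; norm_cast; rw [sq]⟩
  have h5 : ∀ z, π z = 1 → z = 1 ∨ z = a * a := fun z hz => by
    obtain ⟨n, hn⟩ := mem_powers_iff_mem_zpowers.2 (h4 z hz)
    simp only at hn
    rw [← Nat.div_add_mod n 2, pow_add, pow_mul, sq, h2 _ hζ, one_pow, one_mul] at hn
    rcases Nat.mod_two_eq_zero_or_one n with e | e <;> rw [e] at hn
    · exact Or.inl (by simpa using hn.symm)
    · exact Or.inr (by simpa using hn.symm)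
  have hζ1 : a * a ≠ 1 := by
    obtain ⟨z, z1, hz⟩ := hne
    exact fun e => z1 ((h5 z hz).elim id fun h => h.trans e)
  refine ⟨a * a, hζ1, fun z => ⟨h5 z, ?_⟩, fun m hm => ?_, a, rfl⟩
  · rintro (rfl | rfl)
    exacts [map_one _, hζ]
  · by_cases e : π m = 1
    · exact h5 m e
    · exact absurd ((key m (orderOf_eq_prime (by rw [sq, ← map_mul, hm, map_one]) e)).symm.trans hm) hζ1

/-- The structure of `C(t) / O(C(t))`. -/
structure Loc {B : Type*} [Group B] (L : Subgroup B) {A : Type*} [Group A] (π : L →* A) : Prop where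
  cl : Cl B
  comp : IsComponent L
  nrm : L.Normal
  sm : Sm A
  surj : Function.Surjective π
  ker : ∀ l : L, π l = 1 ↔ (l : B) ∈ 𝒞(L)
  n3 : ¬ 3 ∣ Nat.card 𝒞(L)

theorem exists_loc {X : Type u} [Group X] [Finite X] (hX : Cl X) (hst : ST X)
    (hc : HasComponent (X ⧸ oddCore X)) :
    oddCore X ≤ pPrimeCore 3 X ∧ Group.IsSolvable (pPrimeCore 3 X) ∧
      ∃ (L : Subgroup (X ⧸ oddCore X)) (A : Type u) (_ : Group A) (π : L →* A), Loc L π := by
  obtain ⟨L, hL⟩ := hc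
  change IsComponent L at hL
  obtain ⟨hK, ⟨hs, -⟩ | ⟨Y, hn, hsm, hC⟩⟩ := hst
  · exact (comp_not_le_solvable hL (H := ⊤) inferInstance le_top).elim
  have := hsm.simple
  have hY : IsComponent Y := comp_of_normal_qs (qs_of_isSimpleGroup hsm.not_comm)
  let ρ := QuotientGroup.mk' (pPrimeCore 3 X)
  have hρ : Function.Surjective ρ := QuotientGroup.mk'_surjective _
  have hOK : oddCore X ≤ pPrimeCore 3 X := by
    have := (pPrimeCore_normal 2 X).map ρ hρ
    rcases comp_le_or_commutator_of_normal (N := (oddCore X).map ρ) hY with h | h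
    · have h1 := (Core.coprime_card_pPrimeCore 2 X).coprime_dvd_left
        ((cardSg h).trans (card_map_dvd _ ρ))
      rcases hsm.card with e | e <;> rw [e] at h1 <;> exact absurd h1 (by norm_num)
    · rw [commG1', hC, le_bot_iff, Subgroup.map_eq_bot_iff, QuotientGroup.ker_mk'] at h
      exact h
  let φ := QuotientGroup.mk' (oddCore X)
  have hφ : Function.Surjective φ := QuotientGroup.mk'_surjective _
  let σ : X ⧸ oddCore X →* X ⧸ pPrimeCore 3 X := QuotientGroup.map _ _ (MonoidHom.id X) hOK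
  have hσ : Function.Surjective σ := fun y => by
    obtain ⟨x, rfl⟩ := hρ y
    exact ⟨φ x, rfl⟩
  have hk : σ.ker = (pPrimeCore 3 X).map φ := by
    exact QuotientGroup.ker_map _ _ _ _
  have hks : Group.IsSolvable σ.ker := by
    rw [hk]
    exact Group.isSolvable_of_surjective (φ.subgroupMap_surjective _)
  have him : ∀ L' : Subgroup (X ⧸ oddCore X), IsComponent L' → L'.map σ = Y := fun L' h' => by
    have h1 : L'.map σ ≠ ⊥ := fun e => comp_not_le_solvable h' hks ((Subgroup.map_eq_bot_iff _).1 e)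
    refine comp_eq_of_commutator_ne_bot (comp_map_of_surjective h' σ hσ h1) hY fun e => h1 ?_
    rwa [commG1, hC, le_bot_iff] at e
  have hCk : 𝒞(L) = σ.ker := by
    refine le_antisymm (fun c hc => ?_) (commG1'.1 (comp_commutator_solvable hL hks
      le_normalizer_of_normal))
    have : σ c ∈ 𝒞(Y) := by
      rw [← him L hL, mem_cent_iff]
      rintro _ ⟨l, hl, rfl⟩
      rw [← map_mul, hc l hl, map_mul]
    rwa [hC] at this
  refine ⟨hOK, hK, L, Y, inferInstance, (σ.comp L.subtype).codRestrict Y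
    (fun l => him L hL ▸ mem_map_of_mem _ l.2), hX.of_surj φ hφ, hL, ?_, hsm, ?_, ?_, ?_⟩
  · refine normalIn_top.1 ⟨le_top, fun g _ => mem_norm_iff.2 ?_⟩
    by_contra e
    have h1 := congrArg (Subgroup.map σ) (comp_commutator_eq_bot_of_ne (comp_map_conj hL g) hL e)
    rw [map_commutator, him _ (comp_map_conj hL g), him L hL, Subgroup.map_bot] at h1
    exact comp_commutator_ne_bot hY h1
  · rintro ⟨y, hy⟩
    rw [← him L hL] at hy
    obtain ⟨l, hl, rfl⟩ := hy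
    exact ⟨⟨l, hl⟩, rfl⟩
  · intro l
    rw [hCk, ← Subtype.coe_inj]
    rfl
  · rw [hCk, hk]
    exact fun e => (Nat.Prime.coprime_iff_not_dvd Nat.prime_three).1
      (Core.coprime_card_pPrimeCore 3 X).symm (e.trans (card_map_dvd _ φ))

namespace Loc

variable {B A : Type*} [Group B] [Finite B] [Group A] {L : Subgroup B} {π : L →* A} {x : B}
  (h : Loc L π)
include h

theorem card_dvd : Nat.card A ∣ Nat.card L := card_dvd_of_surjective π h.surj

theorem exists_three : ∃ x ∈ L, orderOf x = 3 :=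
  Cauchy Nat.prime_three (Dvd.dvd.trans (by rcases h.sm.card with e | e <;> rw [e] <;> norm_num)
    h.card_dvd)

theorem cent_le (hx : orderOf x = 3) (xL : x ∈ L) : 𝒞(L) ≤ V x :=
  h.cl.le_V hx h.n3 (cent_le_cent1 xL)

theorem pi_ne (hx : orderOf x = 3) (xL : x ∈ L) : π ⟨x, xL⟩ ≠ 1 := fun e =>
  notMem_of_not3 hx h.n3 ((h.ker _).1 e)

theorem pi_three (hx : orderOf x = 3) (xL : x ∈ L) : orderOf (π ⟨x, xL⟩) = 3 := by
  have := Finite.of_surjective π h.surj
  refine orderOf_three ?_ (h.pi_ne hx xL)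
  rw [← map_pow, show (⟨x, xL⟩ : L) ^ 3 = 1 from Subtype.ext (cube hx), map_one]

theorem gen (hx : orderOf x = 3) (xL : x ∈ L) (b : B) : ∃ l ∈ L, ∃ v ∈ V x, b = l * v := by
  have := h.nrm
  have key : ∀ m, m * x * m⁻¹ = x → ∃ l ∈ L, ∃ v ∈ V x, m = l * v := fun m hm => by
    obtain ⟨i, v, hv, rfl⟩ := h.cl.mem_cent hx (mul_inv_eq_iff_eq_mul.1 hm)
    exact ⟨_, pow_mem xL i, v, hv, rfl⟩
  obtain ⟨n, hn, m, rfl, hm | hm⟩ := h.cl.frattini3 hx xL (le_normalizer_of_normal (mem_top b))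
  · obtain ⟨l, hl, v, hv, rfl⟩ := key m hm
    exact ⟨_, mul_mem hn hl, v, hv, by group⟩
  · obtain ⟨j', hj'⟩ := h.sm.exists_inverter (h.pi_three hx xL)
    obtain ⟨j, hj⟩ := lift_inv (h.cl.sub L).h9 π h.surj (x := ⟨x, xL⟩)
      ((orderOf_mk x xL).trans hx) (h.pi_ne hx xL) hj'
    have hj2 : (j : B) * x * (j : B)⁻¹ = x⁻¹ := congrArg Subtype.val hj
    obtain ⟨l, hl, v, hv, e⟩ := key ((j : B)⁻¹ * m) (by
      rw [show (j : B)⁻¹ * m * x * ((j : B)⁻¹ * m)⁻¹ = (j : B)⁻¹ * (m * x * m⁻¹) * j by group, hm,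
        ← hj2]
      group)
    exact ⟨_, mul_mem hn (mul_mem j.2 hl), v, hv, by rw [mul_assoc, mul_assoc, ← e]; group⟩

theorem le_cent (N : Subgroup B) [N.Normal] (hN : ¬ L ≤ N) : N ≤ 𝒞(L) :=
  commG1'.1 ((comp_le_or_commutator_of_normal h.comp).resolve_left hN)

theorem card_A (hx : orderOf x = 3) (xL : x ∈ L) (hV : L ⊓ V x ≤ 𝒞(L)) : Nat.card A = 168 := by
  have := Finite.of_surjective π h.surj
  rcases h.sm with ⟨⟨e⟩⟩ | ⟨⟨e⟩⟩
  · rw [Nat.card_congr e.toEquiv, card_L7]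
  have hL := h.cl.sub L
  have h3 : orderOf (⟨x, xL⟩ : L) = 3 := (orderOf_mk _ _).trans hx
  have hs : Function.Surjective (e.toMonoidHom.comp π) := e.surjective.comp h.surj
  have h1 : (e.toMonoidHom.comp π) ⟨x, xL⟩ ≠ 1 := fun e' => h.pi_ne hx xL (e.map_eq_one_iff.1 e')
  have h4 : orderOf ((e.toMonoidHom.comp π) ⟨x, xL⟩) = 3 :=
    (e.orderOf_eq _).trans (h.pi_three hx xL)
  have h5 := (hL.of_surj _ hs).card_cent h4
  rw [cent3_L13 h4, ← hL.map_V _ hs h3 h1, (Subgroup.map_eq_bot_iff _).2 fun v hv => ?_] at h5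
  · simp at h5
  · obtain ⟨h6, h7⟩ := (hL.mem_V h3).1 hv
    exact e.map_eq_one_iff.2 ((h.ker v).2 (hV ⟨v.2, (h.cl.mem_V hx).2
      ⟨congrArg Subtype.val h6, congrArg Subtype.val h7⟩⟩))

theorem quat (hx : orderOf x = 3) (xL : x ∈ L) (hne : L ⊓ 𝒞(L) ≠ ⊥) :
    ∃ ζ, ζ ≠ 1 ∧ ζ ∈ V x ∧ (∀ g, g * ζ = ζ * g) ∧ (∀ m ∈ L, m * m = 1 → m = 1 ∨ m = ζ) ∧
      (∃ a, a * a = ζ) ∧ Nat.card L = 336 ∧ L.index ∣ 2 := by
  have := h.nrm
  obtain ⟨ζ, ζ1, hk, hu, a, ha⟩ := C3.quat h.sm π h.surj (qs_perfect h.comp.2).commutator_eq_top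
    (fun z hz g => Subtype.ext ((h.ker z).1 hz g g.2))
    (fun z hz => Subtype.ext ((h.cl.mem_V hx).1 (h.cent_le hx xL ((h.ker z).1 hz))).2) (by
      obtain ⟨⟨z, hz⟩, z1⟩ := ne_bot_iff_exists_ne_one.1 hne
      exact ⟨⟨z, hz.1⟩, fun e => z1 (Subtype.ext (congrArg Subtype.val e :)), (h.ker _).2 hz.2⟩)
  have ζC : (ζ : B) ∈ 𝒞(L) := (h.ker ζ).1 ((hk ζ).2 (Or.inr rfl))
  have ζV := h.cent_le hx xL ζC
  have ζ1' : (ζ : B) ≠ 1 := fun e => ζ1 (Subtype.ext e)
  have ζ2 := ((h.cl.mem_V hx).1 ζV).2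
  have hu' : ∀ m ∈ L, m * m = 1 → m = 1 ∨ m = ζ := fun m hm e =>
    (hu ⟨m, hm⟩ (Subtype.ext e)).imp (congrArg Subtype.val) (congrArg Subtype.val)
  refine ⟨ζ, ζ1', ζV, fun g => ?_, hu', ⟨a, congrArg Subtype.val ha⟩, ?_, ?_⟩
  · rcases hu' _ (this.conj_mem _ ζ.2 g) (by
      rw [show g * ζ * g⁻¹ * (g * ζ * g⁻¹) = g * ((ζ : B) * ζ) * g⁻¹ by group, ζ2]; group) with e | e
    · exact absurd (by simpa using e) ζ1'
    · exact mul_inv_eq_iff_eq_mul.1 e
  · have h1 := h.card_A hx xL fun v hv => by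
      rcases hu' v hv.1 ((h.cl.mem_V hx).1 hv.2).2 with rfl | rfl
      exacts [one_mem _, ζC]
    have h2 : π.ker = zpowers ζ := by
      refine le_antisymm (fun z hz => ?_) (zpowers_le.2 ((hk ζ).2 (Or.inr rfl)))
      rcases (hk z).1 hz with rfl | rfl
      exacts [one_mem _, mem_zpowers _]
    have := Fact.mk Nat.prime_two
    rw [← π.ker.card_mul_index, index_ker, MonoidHom.range_eq_top.2 h.surj, card_top, h1, h2,
      Nat.card_zpowers, orderOf_eq_prime (p := 2) (Subtype.ext (by simpa [sq] using ζ2)) ζ1]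
  · have h1 : V x ⊔ L = ⊤ := eq_top_iff.2 fun b _ => by
      obtain ⟨l, hl, v, hv, rfl⟩ := h.gen hx xL b
      exact mul_mem (mem_sup_right hl) (mem_sup_left hv)
    have h2 := LagrangeI L (V x)
    rw [← relIndex_sup_right, h1, relIndex_top_right] at h2
    have h3 : 1 < Nat.card ↥(L ⊓ V x) :=
      cardG_gt1.2 (ne_bot_iff_exists_ne_one.2 ⟨⟨ζ, ζ.2, ζV⟩, fun e => ζ1' (congrArg Subtype.val e)⟩)
    have h4 := h.cl.card_V hx
    rw [← h2] at h4
    have h5 := Nat.le_of_dvd (by norm_num) h4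
    have h6 := L.index_ne_zero_of_finite
    have h7 : L.index ≤ 2 := by nlinarith
    interval_cases L.index <;> simp_all

/-- The case `C(t) / O(C(t)) = 2 × L`. -/
theorem prod (hx : orderOf x = 3) (xL : x ∈ L) (hZ : L ⊓ 𝒞(L) = ⊥) {s : B} (s2 : orderOf s = 2)
    (hs : ∀ g, g * s = s * g) :
    (Nat.card (V x) = 4 ∧ L ⊓ V x = ⊥) ∨ ∃ (q : ℕ) (_ : Fact q.Prime), 4 ≤ q ∧
      Nonempty (↥(closure {b : B | ∃ k : ℕ, orderOf b = 2 ^ k}) ≃*
        (Multiplicative (ZMod 2) × PSL(2, ZMod q))) := by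
  have := h.nrm
  have hc : Nat.card (zpowers s) = 2 := by rw [Nat.card_zpowers, s2]
  have s1 : s ≠ 1 := fun e => by simp [e] at s2
  have sL : s ∉ L := fun e => s1 (mem_bot.1 (hZ ▸ ⟨e, fun g _ => hs g⟩))
  have hd : zpowers s ⊓ L = ⊥ := prime_TIg (hc ▸ Nat.prime_two) fun e => sL (zpowers_le.1 e)
  have sV : s ∈ V x := h.cent_le hx xL fun g _ => hs g
  by_cases hV : V x ≤ zpowers s ⊔ L
  · right
    have hinj : Function.Injective π := (injective_iff_map_eq_one π).2 fun l hl =>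
      Subtype.ext (mem_bot.1 (hZ ▸ ⟨l.2, (h.ker l).1 hl⟩))
    obtain ⟨q, _, -, h4, ⟨e⟩⟩ := exists_psl h.sm
    obtain ⟨e1⟩ := Fusion.nonempty_equiv_prod (H := zpowers s) (K := L)
      (fun a ha k _ => (mem_center_iff.1 (zpowers_le.2 (mem_center_iff.2 hs) ha) k).symm) hd
      (eq_top_iff.2 fun b _ => by
        obtain ⟨l, hl, v, hv, rfl⟩ := h.gen hx xL b
        exact mul_mem (mem_sup_right hl) (hV hv))
    obtain ⟨e2⟩ := Fusion.nonempty_zpowers_equiv s2
    have hn : (closure {b : B | ∃ k : ℕ, orderOf b = 2 ^ k}).Normal :=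
      normalIn_top.1 ⟨le_top, le_norm_of_cj_le fun g _ => by
        rw [cj_closure]
        refine closure_mono ?_
        rintro _ ⟨b, ⟨k, hk⟩, rfl⟩
        exact ⟨k, (MulAut.conj g).orderOf_eq b |>.trans hk⟩⟩
    have htop : closure {b : B | ∃ k : ℕ, orderOf b = 2 ^ k} = ⊤ := by
      have h1 : L ≤ closure {b : B | ∃ k : ℕ, orderOf b = 2 ^ k} := by
        by_contra hh
        obtain ⟨a, aL, a2⟩ := Cauchy (H := L) Nat.prime_two (Dvd.dvd.trans
          (by rcases h.sm.card with e | e <;> rw [e] <;> norm_num) h.card_dvd)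
        have : a ∈ L ⊓ 𝒞(L) := ⟨aL, h.le_cent _ hh (subset_closure ⟨1, a2⟩)⟩
        rw [hZ, mem_bot] at this
        simp [this] at a2
      refine eq_top_iff.2 fun b _ => ?_
      obtain ⟨l, hl, v, hv, rfl⟩ := h.gen hx xL b
      refine mul_mem (h1 hl) (sup_le (zpowers_le.2 ?_) h1 (hV hv))
      exact Subgroup.subset_closure ⟨1, s2⟩
    exact ⟨q, inferInstance, h4, ⟨((MulEquiv.subgroupCongr htop).trans topEquiv).trans (e1.trans
      (e2.prodCongr ((MulEquiv.ofBijective π ⟨hinj, h.surj⟩).trans e)))⟩⟩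
  · left
    have h1 : (zpowers s ⊔ L) ⊓ V x < V x := inf_lt_right.2 hV
    have h2 : zpowers s ≤ (zpowers s ⊔ L) ⊓ V x := le_inf le_sup_left (zpowers_le.2 sV)
    have h3 := proper_card h1
    have h4 := cardSg h2
    have h5 := h.cl.card_V hx
    have h6 := Nat.le_of_dvd (by norm_num) h5
    have h7 := cardG_pos ((zpowers s ⊔ L) ⊓ V x)
    rw [hc] at h4
    refine ⟨by interval_cases Nat.card (V x) <;> omega, eq_bot_iff.2 ?_⟩
    rw [← hd, eq_of_le_card h2 (by omega)]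
    exact le_inf (inf_le_inf_right _ le_sup_right) inf_le_left

end Loc

end CfsgLib.C3
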