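import Cfsg.Agent.Lib.C3.Basic
import Cfsg.Agent.Lib.BG.Quo

/-! The parabolic `Q.L₃(2)`: facts lifted from `L₃(2)` (helper48).  See `plans/C3.md`. -/

set_option autoImplicit false
set_option linter.unusedSectionVars false
set_option linter.unusedVariables false

namespace CfsgLib.C3

open Cfsg CfsgLib.BG Subgroup CfsgLib.PSL2Rec
open scoped MatrixGroups

universe u

section simple

variable {A : Type*} [Group A] [Finite A] [IsSimpleGroup A] (h : Nat.card A = 168)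
  {x y a b j : A} {U W M : Subgroup A}
include h

theorem s168_cent3 (hx : orderOf x = 3) (ha : a * x = x * a) : a ∈ zpowers x := by
  have e : zpowers x = 𝒞[x] := eq_of_le_card (zpowers_le_cent1 x)
    (by rw [Nat.card_zpowers, hx]; exact (O168.c3 h hx).le)
  rw [e]; exact mem_cent1.2 ha

theorem s168_two (hx : orderOf x = 3) (ha : a * x = x * a) {n : ℕ} (h2 : a ^ 2 ^ n = 1) : a = 1 := by
  have h3 := order_dvdG (s168_cent3 h hx ha)
  rw [Nat.card_zpowers, hx] at h3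
  exact orderOf_eq_one_iff.1 (Nat.eq_one_of_dvd_coprimes
    (Nat.Coprime.pow_right n (by norm_num : Nat.Coprime 3 2)) h3 (orderOf_dvd_of_pow_eq_one h2))

theorem s168_trans (hU : IsKleinFour U) (hx : orderOf x = 3) (xU : x ∈ 𝒩(U)) (ha : a ∈ U)
    (a1 : a ≠ 1) (hb : b ∈ U) (b1 : b ≠ 1) : ∃ i : ℕ, x ^ i * a * (x ^ i)⁻¹ = b := by
  have key : ∀ c ∈ U, c ≠ 1 → x * c * x⁻¹ ≠ c := fun c hc c1 e =>
    c1 (s168_two h hx (mul_inv_eq_iff_eq_mul.1 e).symm (n := 1) (by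
      rw [pow_one, pow_two]; exact congrArg Subtype.val (IsKleinFour.mul_self (⟨c, hc⟩ : U))))
  have h1 := conj_mem_of_mem_norm xU ha
  have n1 : x * a * x⁻¹ ≠ 1 := by simpa using a1
  have h2 := conj_mem_of_mem_norm xU h1
  rcases Dickson.klein_cases hU ha h1 a1 n1 (key a ha a1).symm hb with e | e | e | e
  · exact absurd e b1
  · exact ⟨0, by simp [e]⟩
  · exact ⟨1, by simp [e]⟩
  · refine ⟨2, ?_⟩
    have e2 : x ^ 2 * a * (x ^ 2)⁻¹ = x * (x * a * x⁻¹) * x⁻¹ := by rw [pow_two]; group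
    rw [e2, e]
    rcases Dickson.klein_cases hU ha h1 a1 n1 (key a ha a1).symm h2 with f | f | f | f
    · exact absurd f (by simpa using a1)
    · refine absurd ?_ (key a ha a1)
      calc _ = x * (x * (x * a * x⁻¹) * x⁻¹) * x⁻¹ := by rw [f]
        _ = x ^ 3 * a * (x ^ 3)⁻¹ := by rw [pow_three]; group
        _ = a := by rw [cube hx]; simp
    · exact absurd f (key _ h1 n1)
    · exact f

theorem s168_gen (hU : IsKleinFour U) (hW : IsKleinFour W) (hne : U ≠ W) : 𝒩(U) ⊔ 𝒩(W) = ⊤ := by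
  have h1 := O168.coatom h (O168.card_norm h hU)
  refine h1.2 _ (left_lt_sup.2 fun e => hne (O168.norm_inj h hU hW ?_))
  exact (eq_of_le_card e (by rw [O168.card_norm h hU, O168.card_norm h hW])).symm

theorem s168_unique (hU : IsKleinFour U) (hW : IsKleinFour W) (hx : orderOf x = 3) (xU : x ∈ 𝒩(U))
    (xW : x ∈ 𝒩(W)) (hne : M ≠ ⊤) (xM : x ∈ M) (UM : U ≤ M) (WM : W ≤ M) : U = W := by
  have hc : Nat.card (zpowers x) = 3 := by rw [Nat.card_zpowers, hx]
  have h12 : Nat.card ↥(W ⊔ zpowers x) = 12 := by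
    rw [TI_cardMg (Or.inr (zpowers_le.2 xW))
      (coprime_TIg (by rw [hc, hW.card_four]; norm_num)), hc, hW.card_four]
  have h1 := O168.le24 h hne
  have h2 := Lagrange (sup_le WM (zpowers_le.2 xM))
  have h3 := relIndex_le_of_le_right (H := W ⊔ zpowers x) UM (relIndex_pos _ _).ne'
  have h4 := LagrangeI (W ⊔ zpowers x) U
  rw [hU.card_four] at h4
  rw [h12] at h2
  obtain ⟨a, ha, a1⟩ := exists_ne_one_of_ne_bot (H := (W ⊔ zpowers x) ⊓ U) fun e => by
    rw [e, card_bot] at h4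
    omega
  have h5 : U ≤ W ⊔ zpowers x := fun b hb => by
    by_cases b1 : b = 1
    · rw [b1]; exact one_mem _
    · obtain ⟨i, rfl⟩ := s168_trans h hU hx xU ha.2 a1 hb b1
      have := mem_sup_right (S := W) (npow_mem_zpowers x i)
      exact mul_mem (mul_mem this ha.1) (inv_mem this)
  have two : ∀ {V : Subgroup A}, IsKleinFour V → IsPiSubgroup {2} V := fun hV =>
    pgp_of_card_pow (n := 2) hV.card_four Nat.prime_two
  refine eq_of_le_card (sub_normal_Hall (Sylow_intro le_sup_left (two hW) ?_)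
    (sup_le (normG W) (zpowers_le.2 xW)) h5 (two hU)) (by rw [hU.card_four, hW.card_four])
  have h6 := Lagrange (le_sup_left : W ≤ W ⊔ zpowers x)
  rw [h12, hW.card_four] at h6
  omega

theorem s168_top (hx : orderOf x = 3) (hy : orderOf y = 7) (hj : j * x * j⁻¹ = x⁻¹) (xM : x ∈ M)
    (yM : y ∈ M) (jM : j ∈ M) : M = ⊤ := by
  by_contra hne
  have h1 := O168.le24 h hne
  have h3 := hx ▸ order_dvdG xM
  have h7 := hy ▸ order_dvdG yM
  have h0 := cardG_pos M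
  have h21 : j ^ 21 = 1 := by
    rw [← orderOf_dvd_iff_pow_eq_one, show 21 = Nat.card M by omega]; exact order_dvdG jM
  have e : ∀ n : ℕ, j ^ (2 * n) * x = x * j ^ (2 * n) := fun n => by
    rw [pow_mul]
    refine (Commute.pow_left (show Commute (j ^ 2) x from ?_) n).eq
    rw [Commute, SemiconjBy, ← mul_inv_eq_iff_eq_mul]
    calc _ = j * (j * x * j⁻¹) * j⁻¹ := by rw [pow_two]; group
      _ = x := by rw [hj, ← conj_inv, hj, inv_inv]
  have := e 11
  rw [show 2 * 11 = 21 + 1 by rfl, pow_succ, h21, one_mul] at this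
  rw [this, mul_inv_cancel_right] at hj
  exact three_inv_ne hx hj.symm

theorem s168_seven (hx : orderOf x = 3) : ∃ y : A, orderOf y = 7 ∧ x ∈ 𝒩(zpowers y) := by
  obtain ⟨y, -, hy⟩ := Cauchy (H := (⊤ : Subgroup A)) (by norm_num : Nat.Prime 7)
    (by rw [card_top, h]; norm_num)
  obtain ⟨z, hz, z3⟩ := Cauchy (H := 𝒩(zpowers y)) Nat.prime_three
    (by rw [show Nat.card 𝒩(zpowers y) = 21 from O168.n7 h hy]; norm_num)
  obtain ⟨g, rfl⟩ := isConj_iff.1 (O168.conj3 h z x z3 hx)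
  refine ⟨g * y * g⁻¹, (orderOf_conj g y).trans hy, ?_⟩
  rw [← cj_zpowers, ← cj_norm]
  exact conj_mem_cj.2 hz

end simple

variable {G : Type*} [Group G] [Finite G] {x y g a b j : G} {H Q A B M N T : Subgroup G}
  {π : H →* L7}

/-- `A / Q` is a four-subgroup of `H / Q` -/
structure Four (H Q A : Subgroup G) : Prop where
  ge : Q ≤ A
  le : A ≤ H
  idx : Q.relIndex A = 4
  sq : ∀ a ∈ A, a * a ∈ Q

namespace Par

variable (p : Par H Q π)
include p

theorem comm (ha : a ∈ Q) (hb : b ∈ Q) : a * b = b * a := (p.cent.ge hb) a ha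

theorem le : Q ≤ H := p.norm ▸ normG Q

theorem conj_mem (hg : g ∈ H) (ha : a ∈ Q) : g * a * g⁻¹ ∈ Q :=
  conj_mem_of_mem_norm (p.norm.ge hg) ha

theorem pgroup : IsPGroup 2 Q := fun a => ⟨1, Subtype.ext (by simpa [pow_two] using p.exp a a.2)⟩

theorem mker_eq : mker π = Q := by
  ext a
  rw [mem_mker]
  exact ⟨fun ⟨h1, h2⟩ => (p.ker ⟨a, h1⟩).1 (by rwa [pf_of_mem π h1] at h2),
    fun h => ⟨p.le h, by rw [pf_of_mem π (p.le h)]; exact (p.ker _).2 h⟩⟩

theorem pf_one (ha : a ∈ H) : pf π a = 1 ↔ a ∈ Q := by rw [pf_eq_one_iff π ha, p.mker_eq]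

theorem mim_top : mim π H = ⊤ := by rw [mim_dom, MonoidHom.range_eq_top.2 p.surj]

theorem exists_pf (c : L7) : ∃ a ∈ H, pf π a = c :=
  (mem_mim_of_le π le_rfl).1 (p.mim_top ▸ mem_top c)

theorem pf_eq (ha : a ∈ H) (hb : b ∈ H) : pf π a = pf π b ↔ a * b⁻¹ ∈ Q := by
  rw [← p.pf_one (mul_mem ha (inv_mem hb)), pf_mul π ha (inv_mem hb), pf_inv, mul_inv_eq_one]

theorem card_mim (hA : A ≤ H) : Nat.card (mim π A) = Q.relIndex A := by
  rw [BG.card_mim π hA, p.mker_eq]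

theorem mim_le (hA : A ≤ H) (hB : B ≤ H) (hQ : Q ≤ B) : mim π A ≤ mim π B ↔ A ≤ B :=
  mim_le_mim_iff_of_ker_le π hA hB (p.mker_eq ▸ hQ)

theorem mim_ne_top (hQ : Q ≤ M) (hM : M ≤ H) (hne : M ≠ H) : mim π M ≠ ⊤ := fun e =>
  hne (le_antisymm hM ((p.mim_le le_rfl hM hQ).1 (e ▸ le_top)))

theorem relIndex : Q.relIndex H = 168 := by rw [← p.card_mim le_rfl, p.mim_top, card_top, card_L7]

theorem card_H : Nat.card H = 168 * Nat.card Q := by rw [← Lagrange p.le, p.relIndex, mul_comm]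

theorem not_solvable : ¬ Group.IsSolvable H := fun _ =>
  Sm.not_solvable (Or.inl ⟨MulEquiv.refl L7⟩) (Group.isSolvable_of_surjective p.surj)

theorem normal (hN : N ⊲ H) : N ≤ Q ∨ N ⊔ Q = H := by
  have := simple_L7
  have hn : (mim π N).Normal := normalizer_eq_top_iff.1 (top_le_iff.1 (p.mim_top ▸ mim_norm π hN.norm))
  refine hn.eq_bot_or_eq_top.imp (fun e => ?_) fun e => ?_
  · rw [← p.mker_eq]; exact (mim_eq_bot_iff π hN.le).1 e
  · rw [← p.mker_eq, ← mpre_mim π hN.le, e, mpre_top]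

theorem opOf_eq : opOf 2 H = Q := by
  have h1 : Q ≤ opOf 2 H :=
    pcore_max ⟨p.le, p.norm.ge⟩ ((pigroup_singleton Nat.prime_two).2 p.pgroup)
  refine le_antisymm ((p.normal (pcore_normal _ H)).resolve_right fun e => p.not_solvable ?_) h1
  rw [← e, sup_eq_left.2 h1]
  exact pgp_sol (pcore_pgroup _ H)

theorem conj (g : G) : ∃ π', Par (cj g H) (cj g Q) π' := by
  refine ⟨π.comp (cjEquiv g H).symm.toMonoidHom, by rw [← cj_norm, p.norm], by rw [← cj_cent, p.cent],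
    fun a ha => ?_, p.surj.comp (cjEquiv g H).symm.surjective, fun a => ?_⟩
  · obtain ⟨b, hb, rfl⟩ := mem_cj'.1 ha
    rw [conj_mul, p.exp b hb]; simp
  · obtain ⟨b, rfl⟩ := (cjEquiv g H).surjective a
    change π ((cjEquiv g H).symm _) = 1 ↔ g * (b : G) * g⁻¹ ∈ _
    rw [MulEquiv.symm_apply_apply, p.ker, conj_mem_cj]

theorem index_ge (hQ : Q ≤ M) (hM : M ≤ H) (hne : M ≠ H) : 7 ≤ M.relIndex H := by
  have := simple_L7
  have h1 := O168.le24 card_L7 (p.mim_ne_top hQ hM hne)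
  have h2 := relIndex_mul_relIndex Q M H hQ hM
  rw [p.card_mim hM] at h1
  rw [p.relIndex] at h2
  nlinarith

theorem exists_three : ∃ x ∈ H, orderOf x = 3 :=
  Cauchy Nat.prime_three (by rw [p.card_H]; exact Dvd.dvd.mul_right (by norm_num) _)

theorem dvd_eight (hA : A ≤ H) (h2 : IsPGroup 2 A) : Q.relIndex A ∣ 8 := by
  obtain ⟨S, hS⟩ := (mim_isPGroup π h2).exists_le_sylow
  rw [← p.card_mim hA, ← O168.card_two card_L7 S]
  exact cardSg hS

theorem mim_sq (hA : A ≤ H) (h2 : ∀ a ∈ A, a * a ∈ Q) : ∀ c ∈ mim π A, c * c = 1 := fun c hc => by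
  obtain ⟨a, ha, rfl⟩ := (mem_mim_of_le π hA).1 hc
  rw [← pf_mul π (hA ha) (hA ha), p.pf_one (p.le (h2 a ha))]
  exact h2 a ha

theorem dvd_four (hA : A ≤ H) (h2 : ∀ a ∈ A, a * a ∈ Q) : Q.relIndex A ∣ 4 := by
  have := simple_L7
  have h1 := p.mim_sq hA h2
  obtain ⟨S, hS⟩ := IsPGroup.exists_le_sylow (p := 2) (P := mim π A) fun c =>
    ⟨1, Subtype.ext (by simpa [pow_two] using h1 c c.2)⟩
  have h3 := cardSg hS
  have h4 : Nat.card (mim π A) ≠ 8 := fun e => by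
    obtain ⟨r, hr, r4⟩ := O168.ex4' card_L7 S
    rw [← eq_of_le_card hS (by rw [e, O168.card_two card_L7])] at hr
    have := orderOf_dvd_of_pow_eq_one ((pow_two r).trans (h1 r hr))
    rw [r4] at this
    omega
  rw [O168.card_two card_L7] at h3
  rw [← p.card_mim hA]
  exact (by decide : ∀ n ∈ Nat.divisors 8, n ≠ 8 → n ∣ 4) _
    (Nat.mem_divisors.2 ⟨h3, by norm_num⟩) h4

/-- `T / Q` is dihedral of order eight -/
theorem sylow (hT : IsSylowOf 2 T H) : Q ≤ T ∧ Q.relIndex T = 8 ∧ ∃ a ∈ T, ∃ b ∈ T,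
    a * a ∈ Q ∧ b * b ∈ Q ∧ (a * b) ^ 2 ∉ Q ∧ (a * b) ^ 4 ∈ Q ∧ T = Q ⊔ closure {a, b} := by
  have := simple_L7
  have hQ : Q ≤ T := p.opOf_eq ▸ pcore_sub_Hall hT
  have h8 : Q.relIndex T = 8 := by
    have h1 := p.dvd_eight hT.1 (Sylow_isPGroup hT)
    have h2 := relIndex_mul_relIndex Q T H hQ hT.1
    have h3 := Sylow_index Nat.prime_two hT
    rw [p.relIndex] at h2
    have h4 := Nat.le_of_dvd (by norm_num) h1
    generalize Q.relIndex T = n at *
    interval_cases n <;> omega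
  obtain ⟨S, hS⟩ := (mim_isPGroup π (Sylow_isPGroup hT)).exists_le_sylow
  have e := eq_of_le_card hS (by rw [p.card_mim hT.1, h8, O168.card_two card_L7])
  obtain ⟨r, s, d⟩ := O168.isDih card_L7 S
  rw [← e] at d
  obtain ⟨a, ha, ea⟩ := (mem_mim_of_le π hT.1).1 ((d.mem (r * s)).2 ⟨1, Or.inr (by simp)⟩)
  obtain ⟨b, hb, eb⟩ := (mem_mim_of_le π hT.1).1 ((d.mem s).2 ⟨0, Or.inr (by simp)⟩)
  have aH := hT.1 ha
  have bH := hT.1 hb
  have abH := mul_mem aH bH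
  have er : pf π (a * b) = r := by rw [pf_mul π aH bH, ea, eb, mul_assoc, d.ss, mul_one]
  have hle : closure {a, b} ≤ T := (closure_le _).2 (by rintro _ (rfl | rfl) <;> assumption)
  have ma : a ∈ closure {a, b} := subset_closure (by simp)
  have mb : b ∈ closure {a, b} := subset_closure (by simp)
  refine ⟨hQ, h8, a, ha, b, hb, ?_, ?_, ?_, ?_, le_antisymm ?_ (sup_le hQ hle)⟩
  · rw [← p.pf_one (mul_mem aH aH), pf_mul π aH aH, ea]
    calc _ = r * (s * r * s⁻¹) * (s * s) := by group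
      _ = 1 := by rw [d.conj, d.ss]; simp
  · rw [← p.pf_one (mul_mem bH bH), pf_mul π bH bH, eb, d.ss]
  · rw [← p.pf_one (pow_mem abH 2), pf_pow π abH, er, ← orderOf_dvd_iff_pow_eq_one, d.ord]
    norm_num
  · rw [← p.pf_one (pow_mem abH 4), pf_pow π abH, er, ← d.ord, pow_orderOf_eq_one]
  · refine (p.mim_le hT.1 ((sup_le hQ hle).trans hT.1) le_sup_left).1 fun c hc => ?_
    have h1 : r ∈ mim π (Q ⊔ closure {a, b}) := er ▸ pf_mem_mim π (mem_sup_right (mul_mem ma mb))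
    have h2 : s ∈ mim π (Q ⊔ closure {a, b}) := eb ▸ pf_mem_mim π (mem_sup_right mb)
    obtain ⟨i, rfl | rfl⟩ := (d.mem c).1 hc
    exacts [zpow_mem h1 i, mul_mem (zpow_mem h1 i) h2]

theorem orderOf_pf {q : ℕ} (hq : q.Prime) (aH : a ∈ H) (aQ : a ∉ Q) (h : a ^ q ∈ Q) :
    orderOf (pf π a) = q :=
  have := Fact.mk hq
  orderOf_eq_prime (by rwa [← pf_pow π aH, p.pf_one (pow_mem aH q)]) (mt (p.pf_one aH).1 aQ)

theorem three_notMem (hx : orderOf x = 3) : x ∉ Q := notMem_of_not3 hx fun e =>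
  absurd (pgroup_prime_eq Nat.prime_two Nat.prime_three p.pgroup e) (by norm_num)

theorem pf_three (xH : x ∈ H) (hx : orderOf x = 3) : orderOf (pf π x) = 3 :=
  p.orderOf_pf Nat.prime_three xH (p.three_notMem hx) (by rw [cube hx]; exact one_mem _)

/-- one class of involutions in `H / Q` -/
theorem conj2 (aH : a ∈ H) (aQ : a ∉ Q) (a2 : a * a ∈ Q) (bH : b ∈ H) (bQ : b ∉ Q)
    (b2 : b * b ∈ Q) : ∃ k ∈ H, k * a * k⁻¹ * b⁻¹ ∈ Q := by
  have := simple_L7
  obtain ⟨c, hc⟩ := isConj_iff.1 ((O168.cnt card_L7).2.1 _ _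
    (p.orderOf_pf Nat.prime_two aH aQ (by rwa [pow_two]))
    (p.orderOf_pf Nat.prime_two bH bQ (by rwa [pow_two])))
  obtain ⟨k, hk, rfl⟩ := p.exists_pf c
  refine ⟨k, hk, (p.pf_eq (mul_mem (mul_mem hk aH) (inv_mem hk)) bH).1 ?_⟩
  rwa [pf_conj π hk aH]

theorem pf_comm (xH : x ∈ H) (aH : a ∈ H) (hc : x * a * x⁻¹ * a⁻¹ ∈ Q) :
    pf π a * pf π x = pf π x * pf π a := by
  have := (p.pf_eq (mul_mem (mul_mem xH aH) (inv_mem xH)) aH).2 hc
  rw [pf_conj π xH aH] at this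
  exact (mul_inv_eq_iff_eq_mul.1 this).symm

/-- elements of order three are self-centralizing in `H / Q` -/
theorem cent3 (xH : x ∈ H) (hx : orderOf x = 3) (aH : a ∈ H) (hc : x * a * x⁻¹ * a⁻¹ ∈ Q) :
    ∃ i : ℕ, a * (x ^ i)⁻¹ ∈ Q := by
  have := simple_L7
  obtain ⟨i, hi⟩ := mem_powers_iff_mem_zpowers.2
    (s168_cent3 card_L7 (p.pf_three xH hx) (p.pf_comm xH aH hc))
  exact ⟨i, (p.pf_eq aH (pow_mem xH i)).1 (by rw [pf_pow π xH]; exact hi.symm)⟩

/-- a `2`-element of `H` centralizing `x` modulo `Q` lies in `Q` -/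
theorem mem_of_cent3 (xH : x ∈ H) (hx : orderOf x = 3) (aH : a ∈ H)
    (hc : x * a * x⁻¹ * a⁻¹ ∈ Q) {n : ℕ} (h2 : a ^ 2 ^ n ∈ Q) : a ∈ Q := by
  have := simple_L7
  refine (p.pf_one aH).1 (s168_two card_L7 (p.pf_three xH hx) (p.pf_comm xH aH hc) (n := n) ?_)
  rwa [← pf_pow π aH, p.pf_one (pow_mem aH _)]

theorem inv_notMem (xH : x ∈ H) (hx : orderOf x = 3) (hj : j * x * j⁻¹ = x⁻¹) : j ∉ Q := fun e => by
  have := pf_conj π (p.le e) xH
  rw [hj, pf_inv, (p.pf_one (p.le e)).2 e, one_mul, inv_one, mul_one] at this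
  exact three_inv_ne (p.pf_three xH hx) this

theorem not_nine : ¬ 9 ∣ Nat.card H := fun e => by
  obtain ⟨k, hk⟩ := pgroup_card Nat.prime_two p.pgroup
  rw [p.card_H, hk] at e
  exact absurd ((Nat.Coprime.pow_right k (by norm_num : Nat.Coprime 9 2)).dvd_of_dvd_mul_right e)
    (by norm_num)

theorem exists_inv (h : Cl G) (xH : x ∈ H) (hx : orderOf x = 3) :
    ∃ j ∈ H, j * x * j⁻¹ = x⁻¹ ∧ j * j ∈ Q := by
  have h3 := p.pf_three xH hx
  rw [pf_of_mem π xH] at h3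
  obtain ⟨c, hc⟩ := Sm.exists_inverter (Or.inl ⟨MulEquiv.refl L7⟩) h3
  obtain ⟨j, hj⟩ := lift_inv p.not_nine π p.surj (x := ⟨x, xH⟩) (by rw [← hx, ← orderOf_coe])
    (three_ne_one h3) hc
  have e : (j : G) * x * (j : G)⁻¹ = x⁻¹ := congrArg Subtype.val hj
  have e2 : Commute ((j : G) ^ 2) x := by
    rw [Commute, SemiconjBy, ← mul_inv_eq_iff_eq_mul]
    calc _ = (j : G) * (j * x * (j : G)⁻¹) * (j : G)⁻¹ := by rw [pow_two]; group
      _ = x := by rw [e, ← conj_inv, e, inv_inv]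
  refine ⟨(j : G) ^ 3, pow_mem j.2 3, ?_, ?_⟩
  · rw [pow_succ', mul_assoc (j : G), e2.eq, ← e]; group
  · refine p.mem_of_cent3 xH hx (mul_mem (pow_mem j.2 3) (pow_mem j.2 3)) ?_ (n := 1) ?_
    · rw [← pow_add, show 3 + 3 = 2 * 3 by rfl, pow_mul, ← (e2.pow_left 3).eq]
      simp
    · rw [← pow_add, ← pow_mul, show (3 + 3) * 2 ^ 1 = 2 * 6 by rfl, pow_mul,
        h.exp x hx _ (mem_cent1.2 e2.eq)]
      exact one_mem _

theorem exists_seven (h : Cl G) (xH : x ∈ H) (hx : orderOf x = 3) :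
    ∃ y ∈ H, orderOf y = 7 ∧ x ∈ 𝒩(zpowers y) ∧
      ∀ j ∈ H, j * x * j⁻¹ = x⁻¹ → H ≤ Q ⊔ closure {x, y, j} := by
  have := simple_L7
  have h7 : Nat.Prime 7 := by norm_num
  obtain ⟨c, hc, xc⟩ := s168_seven card_L7 (p.pf_three xH hx)
  obtain ⟨k, hk⟩ := pgroup_card Nat.prime_two p.pgroup
  have h1 : Nat.card (mpre π (zpowers c)) = 7 * 2 ^ k := by
    rw [card_mpre π (p.mim_top ▸ le_top), p.mker_eq, hk, Nat.card_zpowers, hc]
  obtain ⟨P, hP, xP⟩ := coprime_Sylow_exists (M := mpre π (zpowers c)) (A := zpowers x) h7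
    (norm_mpre_of_mim_norm π (zpowers_le.2 xH) (by rw [mim_zpowers π xH]; exact zpowers_le.2 xc))
    (by rw [h1, Nat.card_zpowers, hx]
        exact Nat.Coprime.mul_left (by norm_num) (Nat.Coprime.pow_left k (by norm_num)))
    (Or.inl inferInstance)
  have h2 : Nat.card P = 7 := by
    obtain ⟨n, hn⟩ := pgp_card h7 hP.2.1
    have h3 := cardSg hP.1
    have h4 := (prime_dvd_pHall hP h7 rfl).2 (h1 ▸ dvd_mul_right _ _)
    rw [h1, hn] at h3
    exact Nat.dvd_antisymm (hn ▸ (Nat.Coprime.pow k n (by norm_num)).symm.dvd_of_dvd_mul_right h3) h4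
  obtain ⟨y, hy, y7⟩ := Cauchy h7 h2.symm.dvd
  have yH := mpre_le_dom π _ (hP.1 hy)
  have e : zpowers y = P := eq_of_le_card (zpowers_le.2 hy) (by rw [Nat.card_zpowers, y7, h2])
  refine ⟨y, yH, y7, e ▸ zpowers_le.1 xP, fun j jH hj => ?_⟩
  have hle : Q ⊔ closure {x, y, j} ≤ H :=
    sup_le p.le ((closure_le _).2 (by rintro _ (rfl | rfl | rfl) <;> assumption))
  by_contra hcon
  refine p.mim_ne_top le_sup_left hle (fun e => hcon e.ge) (s168_top card_L7 (p.pf_three xH hx)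
    (p.orderOf_pf h7 yH (fun e => ?_) (by rw [← y7, pow_orderOf_eq_one]; exact one_mem _))
    (j := pf π j) (by rw [← pf_conj π jH xH, hj, pf_inv])
    (pf_mem_mim π (mem_sup_right (subset_closure (by simp))))
    (pf_mem_mim π (mem_sup_right (subset_closure (by simp))))
    (pf_mem_mim π (mem_sup_right (subset_closure (by simp)))))
  exact absurd (pgroup_prime_eq Nat.prime_two h7 p.pgroup (y7 ▸ order_dvdG e)) (by norm_num)

theorem klein (hA : Four H Q A) : IsKleinFour (mim π A) := by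
  have h4 : Nat.card (mim π A) = 4 := (p.card_mim hA.le).trans hA.idx
  have : Nontrivial (mim π A) := Finite.one_lt_card_iff_nontrivial.1 (by omega)
  have := Fact.mk Nat.prime_two
  refine ⟨h4, (Monoid.exponent_eq_prime_iff Nat.prime_two).2 fun c hc => orderOf_eq_prime ?_ hc⟩
  exact Subtype.ext (by simpa [pow_two] using p.mim_sq hA.le hA.sq c c.2)

/-- a four-group is normalized by an element of order three, which is transitive on it -/
theorem four_three (hA : Four H Q A) : ∃ x ∈ H, orderOf x = 3 ∧ x ∈ 𝒩(A) := by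
  have := simple_L7
  obtain ⟨c, hc, c3⟩ := Cauchy (H := 𝒩(mim π A)) Nat.prime_three
    (by rw [O168.card_norm card_L7 (p.klein hA)]; norm_num)
  obtain ⟨x, hx, rfl⟩ := lift3' p.not_nine π p.surj c3
  refine ⟨x, x.2, by rw [orderOf_coe, hx], zpowers_le.1 (norm_of_mim_norm π (zpowers_le.2 x.2)
    hA.le (p.mker_eq ▸ hA.ge) ?_)⟩
  rw [mim_zpowers π x.2, pf_coe]
  exact zpowers_le.2 hc

theorem four_trans (hA : Four H Q A) (xH : x ∈ H) (hx : orderOf x = 3) (xA : x ∈ 𝒩(A))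
    (ha : a ∈ A) (aQ : a ∉ Q) (hb : b ∈ A) (bQ : b ∉ Q) :
    ∃ i : ℕ, x ^ i * a * (x ^ i)⁻¹ * b⁻¹ ∈ Q := by
  have := simple_L7
  obtain ⟨i, hi⟩ := s168_trans card_L7 (p.klein hA) (p.pf_three xH hx) (pf_mem_normalizer π xA)
    (pf_mem_mim π ha) (mt (p.pf_one (hA.le ha)).1 aQ) (pf_mem_mim π hb)
    (mt (p.pf_one (hA.le hb)).1 bQ)
  have h1 := pow_mem xH i
  refine ⟨i, (p.pf_eq (mul_mem (mul_mem h1 (hA.le ha)) (inv_mem h1)) (hA.le hb)).1 ?_⟩
  rw [pf_conj π h1 (hA.le ha), pf_pow π xH, hi]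

theorem four_inj (hA : Four H Q A) (hB : Four H Q B) (e : mim π A = mim π B) : A = B :=
  mim_inj π hA.le hB.le (p.mker_eq ▸ hA.ge) (p.mker_eq ▸ hB.ge) e

theorem four_gen (hA : Four H Q A) (hB : Four H Q B) (hne : A ≠ B) :
    H ≤ (H ⊓ 𝒩(A)) ⊔ (H ⊓ 𝒩(B)) := by
  have := simple_L7
  refine (p.mim_le le_rfl (sup_le inf_le_left inf_le_left)
    (le_sup_of_le_left (le_inf p.le (norm_of_le hA.ge)))).1 ?_
  rw [mim_sup π inf_le_left inf_le_left, mim_subnorm π hA.le (p.mker_eq ▸ hA.ge),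
    mim_subnorm π hB.le (p.mker_eq ▸ hB.ge), p.mim_top, top_inf_eq, top_inf_eq,
    s168_gen card_L7 (p.klein hA) (p.klein hB) (mt (p.four_inj hA hB) hne)]

/-- a proper subgroup containing `x` contains at most one `x`-invariant four-group -/
theorem four_unique (hA : Four H Q A) (hB : Four H Q B) (hx : orderOf x = 3) (xA : x ∈ 𝒩(A))
    (xB : x ∈ 𝒩(B)) (hM : M ≤ H) (hne : M ≠ H) (xM : x ∈ M) (AM : A ≤ M) (BM : B ≤ M) :
    A = B := by
  have := simple_L7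
  exact p.four_inj hA hB (s168_unique card_L7 (p.klein hA) (p.klein hB) (p.pf_three (hM xM) hx)
    (pf_mem_normalizer π xA) (pf_mem_normalizer π xB) (p.mim_ne_top (hA.ge.trans AM) hM hne)
    (pf_mem_mim π xM) (mim_mono π AM) (mim_mono π BM))

end Par

end CfsgLib.C3
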