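import Cfsg.Agent.Lib.C3.Frame
import Cfsg.Agent.Lib.C3.Kq
import Cfsg.Agent.Lib.C3.Cf
import Cfsg.Agent.Lib.C3.LowA
import Cfsg.Agent.Lib.Transfer.Cocycle
import Cfsg.Agent.Lib.Ambiv.Basic
import Cfsg.Agent.Lib.Mathieu.Stab
import Cfsg.Agent.Lib.PGroup.Extraspecial
import Cfsg.Agent.S3344

/-! Package LOW.  See `plans/C3.md`. -/

set_option autoImplicit false
set_option linter.unusedSectionVars false
set_option Elab.async false

namespace CfsgLib.C3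

open Cfsg CfsgLib.BG Subgroup
open scoped MatrixGroups commutatorElement

universe u

variable {G : Type*} [Group G] [Finite G] {H Q : Subgroup G} {π : H →* L7}

namespace Low

open CfsgLib.Sect (index_le exists_of_index two_cases exists_ne_one cover_of_le exists_notMem)

variable {x z j v e : G} {U : Subgroup G}

theorem notMem_two (hU : IsPGroup 2 U) (hx : orderOf x = 3) : x ∉ U := fun e => by
  obtain ⟨k, hk⟩ := pgroup_card Nat.prime_two hU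
  have := order_dvdG e
  rw [hx, hk] at this
  exact absurd (Nat.Prime.dvd_of_dvd_pow Nat.prime_three this) (by decide)

theorem mem_of_inv {Y : Subgroup G} (hx : orderOf x = 3) (hj : j * x * j⁻¹ = x⁻¹) (xU : x ∈ 𝒩(U)) (jU : j ∈ U) :
    x ∈ U := by
  have h1 := mul_mem jU (conj_mem_of_mem_norm xU (inv_mem jU))
  have h2 : x ^ 3 = 1 := hx ▸ pow_orderOf_eq_one x
  rwa [← mul_assoc, ← mul_assoc, hj, show x⁻¹ * x⁻¹ = x by
    rw [← mul_inv_rev, inv_eq_iff_mul_eq_one, mul_assoc, ← pow_three, h2]] at h1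

theorem card_cent_conj {a b : G} (h : IsConj a b) : Nat.card 𝒞[a] = Nat.card 𝒞[b] := by
  obtain ⟨c, rfl⟩ := isConj_iff.1 h
  rw [← cj_cent1, card_cj]

/-- the data around the involution `z` -/
structure St (H Q : Subgroup G) (x z j : G) : Prop where
  x3 : orderOf x = 3
  cf : Cf x z Q (opOf 2 𝒞[z] ⊓ H) (opOf 2 𝒞[z])
  jY : j ∈ 𝒞[z]
  jx : j * x * j⁻¹ = x⁻¹
  jj : j * j ∈ Q
  K : oppOf 3 𝒞[z] = opOf 2 𝒞[z]
  six : (opOf 2 𝒞[z]).relIndex 𝒞[z] = 6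
  c192 : Nat.card ↥(𝒞[z] ⊓ H) = 192
  cover : ∀ y ∈ 𝒞[z], ∃ k ∈ 𝒞[z] ⊓ H, k⁻¹ * y ∈ opOf 2 𝒞[z]
  tr : ∀ a ∈ Q, a ≠ 1 → IsConj z a

variable (h : Min G) (h2 : IsCharacteristicTwoType G)
  (h8 : ∀ (H Q : Subgroup G) (π : H →* L7), Par H Q π → Nat.card Q = 8)
include h h2 h8

theorem solv {t : G} (ht : orderOf t = 2) : Group.IsSolvable 𝒞[t] := by
  by_contra e
  obtain ⟨π, p, hp⟩ := par_of_inv h h2 ht e
  exact absurd (hp.symm.trans (h8 _ _ _ p)) (by decide)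

theorem exists_st (p : Par H Q π) : ∃ x z j, St H Q x z j := by
  have Q8 := h8 _ _ _ p
  obtain ⟨x, xH, hx⟩ := p.exists_three
  obtain ⟨c2, c0⟩ : Nat.card ↥(Q ⊓ 𝒞[x]) = 2 ∧ H ⊓ 𝒞(H) = ⊥ := by
    rcases p.cases h.cl xH hx with c | c | c
    · exact c.2
    · omega
    · omega
  obtain ⟨z, hz, z1⟩ := exists_ne_one (K := Q ⊓ 𝒞[x]) (by omega)
  have two : ∀ a ∈ Q, a * x = x * a → a = 1 ∨ a = z := fun a ha e => two_cases c2.le hz z1 ⟨ha, mem_cent1.2 e⟩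
  have zz := p.exp z hz.1
  have z2 : orderOf z = 2 := orderOf_eq_prime (by rw [pow_two, zz]) z1
  obtain ⟨j, jH, jx, jj⟩ := p.exists_inv h.cl xH hx
  have xY : x ∈ 𝒞[z] := cent1C.1 hz.2
  have jY : j ∈ 𝒞[z] := by
    refine mem_cent1.2 (mul_inv_eq_iff_eq_mul.1 ((two _ (p.conj_mem jH hz.1) ?_).resolve_left (by simpa using z1)))
    have e : j * z * j⁻¹ * x⁻¹ = x⁻¹ * (j * z * j⁻¹) := by
      rw [← jx, conj_mul, conj_mul, mem_cent1.1 hz.2]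
    exact (Commute.inv_right_iff.1 e).eq
  have QY : Q ≤ 𝒞[z] := fun a ha => mem_cent1.2 (p.comm ha hz.1)
  have c7 : Nat.card ((Q : Set G) \ {1} : Set G) = 7 := by
    rw [Nat.card_coe_set_eq, Set.ncard_diff_singleton_of_mem (one_mem Q), ← Nat.card_coe_set_eq]
    exact congrArg (· - 1) Q8
  have f1 : ∀ a ∈ H, a * z * a⁻¹ ∈ ((Q : Set G) \ {1} : Set G) := fun a ha =>
    ⟨p.conj_mem ha hz.1, by simpa using z1⟩
  have f2 : ∀ a ∈ H, ∀ b ∈ H, a * z * a⁻¹ = b * z * b⁻¹ → a⁻¹ * b ∈ 𝒞[z] := fun a _ b _ e => mem_cent1.2 (by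
    calc a⁻¹ * b * z = a⁻¹ * (b * z * b⁻¹) * b := by group
      _ = _ := by rw [← e]; group)
  have i7 : 𝒞[z].relIndex H = 7 := by
    refine le_antisymm (c7 ▸ index_le H _ _ _ f1 f2) ?_
    rw [← inf_relIndex_right]
    exact p.index_ge (le_inf QY p.le) inf_le_right fun e =>
      z1 (c0.le ⟨p.le hz.1, sub_cent1.1 (e.ge.trans inf_le_left)⟩)
  have c192 : Nat.card ↥(𝒞[z] ⊓ H) = 192 := by
    have := LagrangeI 𝒞[z] H
    rw [i7, p.card_H, Q8] at this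
    omega
  have hs := solv h h2 h8 z2
  have K := kq h (h.cent_ne_top z1) (char2_inv h2 z2) hx xY jY jx (.inr (.inl ⟨z, cent1id z, z2, le_rfl⟩))
  have nU := pcore_norm {2} 𝒞[z]
  have UY := pcore_sub {2} 𝒞[z]
  have pU := pgp_isPGroup (pcore_pgroup {2} 𝒞[z])
  have xQ : x ∈ 𝒩(Q) := p.norm ▸ xH
  have QU : Q ≤ opOf 2 𝒞[z] := K ▸ h.xinv hs hx xY QY (by rw [Q8]; decide) xQ
  have six : ∀ R ≤ 𝒞[z], x ∈ R → j ∈ R → (opOf 2 𝒞[z]).relIndex R = 6 := fun R hR xR jR => by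
    have d := (relIndex_dvd_of_norm nU hR).trans (K ▸ h.sol hs)
    haveI := normal_subgroupOf_of_norm (hR.trans nU)
    have e1 : x ^ (opOf 2 𝒞[z]).relIndex R ∈ opOf 2 𝒞[z] := pow_index_mem ((opOf 2 𝒞[z]).subgroupOf R) ⟨x, xR⟩
    have e2 : j ^ (opOf 2 𝒞[z]).relIndex R ∈ opOf 2 𝒞[z] := pow_index_mem ((opOf 2 𝒞[z]).subgroupOf R) ⟨j, jR⟩
    have x3 : x ^ 3 = 1 := hx ▸ pow_orderOf_eq_one x
    have := Nat.le_of_dvd (by norm_num) d
    generalize (opOf 2 𝒞[z]).relIndex R = n at *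
    interval_cases n <;> try simp at d ⊢
    · exact notMem_two pU hx (by simpa using e1)
    · refine notMem_two pU hx ?_
      rwa [← inv_mem_iff, show (x ^ 2)⁻¹ = x by rw [inv_eq_iff_mul_eq_one, ← pow_succ, x3]] at e1
    · rw [pow_three, mul_mem_cancel_right (QU jj)] at e2
      exact notMem_two pU hx (mem_of_inv (Y := ⊤) hx jx (nU xY) e2)
  have s1 := six _ le_rfl xY jY
  have s2 := six _ inf_le_left ⟨xY, xH⟩ ⟨jY, jH⟩
  refine ⟨x, z, j, hx, ⟨hx ▸ pow_orderOf_eq_one x, pU, inf_le_left, le_inf QU p.le, hz.1, z1, p.exp, Q8, ?_,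
    p.cent.le, fun g hg => by rw [p.norm]; exact ⟨fun e => ⟨hg, e⟩, fun e => e.2⟩, UY, xY, xQ,
    mem_norm_of_cj_le (by rw [cj_inf, cj_eq_of_mem_norm (nU xY), cj_eq_of_mem xH]), nU xY, fun e he c => ?_,
    fun R => h.cl.card_mod hx⟩, jY, jx, jj, K, s1, c192,
    fun y => cover_of_le inf_le_left (by rw [s1, s2]), fun a ha a1 => ?_⟩
  · have := LagrangeI (opOf 2 𝒞[z]) (𝒞[z] ⊓ H)
    rw [s2, c192, ← inf_assoc, inf_of_le_left UY] at this
    exact Nat.eq_of_mul_eq_mul_right (by norm_num : 0 < 6) this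
  · obtain ⟨k, hk⟩ := pU ⟨e, he.1⟩
    have := two e (p.mem_of_cent3 xH hx he.2 (by rw [← c]; simp) (n := k)
      (by rw [show e ^ 2 ^ k = 1 from congrArg Subtype.val hk]; exact one_mem _)) c
    exact (Sect.mem_zpowers_two zz).2 this
  · obtain ⟨g, -, e⟩ := exists_of_index H _ _ _ f1 f2 (by rw [c7, i7]) (t := a) ⟨ha, a1⟩
    exact isConj_iff.2 ⟨g, e⟩

omit h2 h8 in
theorem St.not_le (s : St H Q x z j) : ¬ opOf 2 𝒞[z] ≤ opOf 2 𝒞[z] ⊓ H := fun hU => by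
  have c := s.cf
  have e : opOf 2 𝒞[z] ⊓ H = opOf 2 𝒞[z] := le_antisymm inf_le_left hU
  rw [e] at c
  haveI := h.simple
  haveI : Fact (Nat.Prime 2) := ⟨Nat.prime_two⟩
  have z2 : orderOf z = 2 := orderOf_eq_prime (by rw [pow_two, c.zz]) c.z1
  have nU := pcore_norm {2} 𝒞[z]
  have hZ : (center (opOf 2 𝒞[z])).map (opOf 2 𝒞[z]).subtype = zpowers z := by
    rw [← centerOf_eq_map]
    exact le_antisymm (fun a ha => c.ZE ha.1 ha.2) (zpowers_le.2 ⟨c.zE, sub_cent1.1 c.Ez⟩)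
  have hex : IsExtraspecial 2 (opOf 2 𝒞[z]) := by
    refine PGroup.isExtraspecial_of_commutator_le_center c.two ?_ (commutator_le.2 fun a _ b _ => ?_) fun e => ?_
    · exact (card_map_of_injective (subtype_injective _)).symm.trans (hZ ▸ c.z2)
    · obtain ⟨u, hu, e⟩ := hZ.ge (c.cmE b.2 a.2)
      exact (Subtype.ext e : u = ⁅a, b⁆) ▸ hu
    · exact c.not_EW (((abelian_cents e).trans (centS c.WE)).trans c.cW)
  have jU : j ∉ opOf 2 𝒞[z] := fun e => notMem_two c.two s.x3 (mem_of_inv (Y := ⊤) s.x3 s.jx c.xU e)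
  have hq : ∀ a : 𝒞[z], (a : 𝒞[z] ⧸ pCore 2 𝒞[z]) = 1 ↔ (a : G) ∈ opOf 2 𝒞[z] := fun a => by
    rw [QuotientGroup.eq_one_iff, ← opOf_subgroupOf Nat.prime_two, mem_subgroupOf]
  have j2 : ((⟨j, s.jY⟩ : 𝒞[z]) : 𝒞[z] ⧸ pCore 2 𝒞[z]) * (⟨j, s.jY⟩ : 𝒞[z]) = 1 := (hq (_ * _)).2 (c.WE s.jj)
  have j1 : ((⟨j, s.jY⟩ : 𝒞[z]) : 𝒞[z] ⧸ pCore 2 𝒞[z]) ≠ 1 := fun e => jU ((hq _).1 e)
  obtain ⟨φ⟩ := Ambiv.perm3 (G := 𝒞[z] ⧸ pCore 2 𝒞[z]) (by rw [← s.six, opOf_relIndex Nat.prime_two]; rfl)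
    (Sect.card_zpowers_two j2 j1) fun hn => by
      rcases (Sect.mem_zpowers_two j2).1 (hn.conj_mem _ (mem_zpowers _) ((⟨x, c.xz⟩ : 𝒞[z]) : _)) with e | e
      · exact j1 (by simpa using e)
      · have := (hq (⟨j, s.jY⟩ * (⟨x, c.xz⟩ * ⟨j, s.jY⟩ * ⟨x, c.xz⟩⁻¹)⁻¹)).1 (by
          rw [QuotientGroup.mk_mul, QuotientGroup.mk_inv, QuotientGroup.mk_mul, QuotientGroup.mk_mul,
            QuotientGroup.mk_inv, e, mul_inv_cancel])
        have e' : j * (x * j * x⁻¹)⁻¹ = x := by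
          calc _ = j * x * j⁻¹ * x⁻¹ := by group
            _ = x := by rw [s.jx, ← mul_inv_rev, inv_eq_iff_mul_eq_one, mul_assoc, ← pow_three, c.x3]
        exact notMem_two c.two s.x3 (e' ▸ this)
  have x3 : Nat.card (zpowers x) = 3 := by rw [Nat.card_zpowers, s.x3]
  obtain ⟨X, hX⟩ := exists_sylow_map Nat.prime_three (Sylow_intro (zpowers_le.2 c.xz)
    (pgp_of_card_prime x3 Nat.prime_three) fun e => h.cl.h9 (by
      refine Dvd.dvd.trans ?_ (card_subgroup_dvd_card 𝒞[z])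
      rw [← Lagrange (zpowers_le.2 c.xz), x3]
      exact Nat.mul_dvd_mul_left 3 e))
  obtain ⟨w, hw, w1⟩ := c.exists_w
  rw [c.mz, not_or] at w1
  obtain ⟨g, hg⟩ := isConj_iff.1 (s.tr w hw w1.1)
  have k5 : ∀ {n : ℕ}, 5 ∣ n → Nat.card G ≠ n := fun h5 e => h.cl.h5 (e ▸ h5)
  rcases Cfsg.Agent.S3344.result z z2 _ rfl _ (opOf_eq_map Nat.prime_two _) hex c.E32 φ X
    (by rw [hX, cent_zpowers]; exact c.inf_eq c.zE inf_le_left) ⟨g, hg ▸ c.WE hw, hg ▸ w1.2⟩ with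
    ⟨N, hN, n1, -, n2, -⟩ | ⟨⟨e⟩⟩ | ⟨⟨e⟩⟩ | ⟨⟨e⟩⟩
  · rcases hN.eq_bot_or_eq_top with rfl | rfl
    · simp at n2
    · exact h.ncomm ⟨⟨fun a b => congrArg Subtype.val (n1.1.1 ⟨a, mem_top a⟩ ⟨b, mem_top b⟩)⟩⟩
  · exact k5 (by rw [nat_card_alternatingGroup]; simp [Nat.factorial]) (Nat.card_congr e.toEquiv)
  · exact k5 (by rw [nat_card_alternatingGroup]; simp [Nat.factorial]) (Nat.card_congr e.toEquiv)
  · exact k5 (by rw [Mathieu.card_M12]; decide) (Nat.card_congr e.toEquiv)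

omit h h2 h8 in
theorem St.odd (s : St H Q x z j) : ¬ 2 ∣ 𝒞[z].index := by
  have c := s.cf
  obtain ⟨S, hS⟩ := Sylow_exists Nat.prime_two 𝒞[z]
  have US := pcore_sub_Hall hS
  refine (relIndex_top_right 𝒞[z]) ▸ (not_dvd_relIndex_iff_Sylow_le Nat.prime_two le_top).2
    ⟨S, Sylow_of_norm_le Nat.prime_two hS le_top fun g hg => ?_, hS.1⟩
  have h1 : g * z * g⁻¹ ∈ 𝒞(S) := by
    rw [← cj_eq_of_mem_norm hg.2, ← cj_cent, conj_mem_cj]
    exact sub_cent1.1 hS.1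
  have h3 := c.ZE (c.WE (c.cW (centS ((c.WE.trans c.EU).trans US) h1))) (centS (c.EU.trans US) h1)
  exact mem_cent1.2 (mul_inv_eq_iff_eq_mul.1 ((c.mz.1 h3).resolve_left (by simpa using c.z1)))

end Low

open Low

theorem not_low (h : Min G) (h2 : IsCharacteristicTwoType G)
    (h8 : ∀ (H Q : Subgroup G) (π : H →* L7), Par H Q π → Nat.card Q = 8) (p : Par H Q π) :
    False := by
  obtain ⟨x, z, j, s⟩ := exists_st h h2 h8 p
  have c := s.cf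
  have hn := c.le_norm
  have hne := s.not_le h
  have hx := s.x3
  have z2 : orderOf z = 2 := orderOf_eq_prime (by rw [pow_two, c.zz]) c.z1
  have hs := solv h h2 h8 z2
  have nU := pcore_norm {2} 𝒞[z]
  have K := s.K
  have odd := s.odd
  have c384 : Nat.card 𝒞[z] = 384 := by rw [← Lagrange c.Uz, s.six, c.U64 hn hne]
  have nE : 𝒞[z] ≤ 𝒩(opOf 2 𝒞[z] ⊓ H) := fun y hy => by
    obtain ⟨k, hk, e⟩ := s.cover y hy
    refine (mul_mem_cancel_left (inv_mem ?_)).1 (hn e)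
    exact mem_norm_of_cj_le (by rw [cj_inf, cj_eq_of_mem_norm (nU hk.1), cj_eq_of_mem hk.2])
  obtain ⟨v, vU, vx, vE⟩ := c.exists_v hn hne
  have vv : v * v = 1 := by
    obtain ⟨k, hk⟩ := pgroup_card Nat.prime_two c.two
    refine ((h.cl.mem_V hx).1 (h.cl.mem_V_of hx (fun e => ?_) vx)).2
    exact absurd (Nat.Prime.dvd_of_dvd_pow Nat.prime_three (hk ▸ e.trans (order_dvdG vU))) (by decide)
  have v2 : orderOf v = 2 := orderOf_eq_prime (by rw [pow_two, vv]) fun e => vE (e ▸ one_mem _)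
  have nD : 𝒞[z] ≤ 𝒩(cm (opOf 2 𝒞[z] ⊓ H) (zpowers z) (opOf 2 𝒞[z])) := fun y hy =>
    norm_cm (nE hy) (nz hy) (nU hy)
  have B16 := c.B16 hn hne vU vx vE
  have Beq := c.B_eq hn hne vU vx vE
  have zB := c.DB hn hne c.zD
  have D8 := c.D8 hn hne
  have inv := fun {e} => c.invol (e := e) hn hne vU vE vv
  have nB := normsI nU (norms_cent nD)
  set U := opOf 2 𝒞[z]
  set D := cm (U ⊓ H) (zpowers z) U
  set B := U ⊓ 𝒞(D)
  have pB : IsPGroup 2 B := c.two.to_le inf_le_left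
  have B1 : B ≠ ⊥ := ne_bot_of_mem zB c.z1
  have fib : ∀ {e a b : G}, a * e * a⁻¹ = b * e * b⁻¹ → a⁻¹ * b ∈ 𝒞[e] := fun {e a b} h => mem_cent1.2 (by
    calc a⁻¹ * b * e = a⁻¹ * (b * e * b⁻¹) * b := by group
      _ = _ := by rw [← h]; group)
  -- `N(B) = C(z)`
  have NB : 𝒩(B) ≤ 𝒞[z] := by
    have sM : Group.IsSolvable 𝒩(B) := by
      by_contra e
      obtain ⟨π', p'⟩ := par_of h h2 pB B1 e
      have := BG.card_le_of_le (pcore_max (normalIn_norm B) ((pigroup_singleton Nat.prime_two).2 pB))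
      rw [h8 _ _ _ p', B16] at this
      omega
    have m1 : 𝒞[z].relIndex 𝒩(B) ≤ 16 := B16 ▸ Sect.index_le _ _ (fun a => a * z * a⁻¹) (B : Set G)
      (fun a ha => conj_mem_of_mem_norm ha zB) fun a _ b _ => fib
    have m2 := Lagrange nB
    have m3 : ¬ 2 ∣ 𝒞[z].relIndex 𝒩(B) := fun e => odd (e.trans (relIndex_dvd_index_of_le nB))
    have m0 := relIndex_pos 𝒞[z] 𝒩(B)
    have m4 := h.sol sM
    rw [kq h (h.norm_ne_top B1 (h.solv_of_not3 (by rw [B16]; decide))) (char2 h2 pB B1) hx (nB c.xz) (nB s.jY) s.jx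
      (.inl (by rw [← m2, c384]; omega))] at m4
    obtain ⟨k, hk⟩ := pgp_card Nat.prime_two (pcore_pgroup {2} 𝒩(B))
    have m5 := Nat.mul_dvd_mul_left (2 ^ k) m4
    rw [← hk, Lagrange (pcore_sub _ _), ← m2, c384, hk] at m5
    have m6 : 𝒞[z].relIndex 𝒩(B) ∣ 2 ^ (k + 1) := by
      refine Nat.dvd_of_mul_dvd_mul_left (by norm_num : 0 < 3) (Dvd.dvd.trans ?_ (m5.trans (by ring_nf; rfl)))
      exact Nat.mul_dvd_mul_right (by norm_num) _
    exact relIndex_eq_one.1 ((((Nat.Prime.coprime_iff_not_dvd Nat.prime_two).2 m3).symm.pow_right _).eq_one_of_dvd m6)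
  -- `64 ∤ |C(v)|`
  have n64 : ¬ 64 ∣ Nat.card 𝒞[v] := fun e => by
    have sv := solv h h2 h8 v2
    have xv : x ∈ 𝒞[v] := mem_cent1.2 vx.symm
    have BK : B ≤ oppOf 3 𝒞[v] := h.xinv sv hx xv (Beq.le.trans inf_le_right) (by rw [B16]; decide) (nB c.xz)
    have p3 := (isPiNat_compl_singleton Nat.prime_three).1 (pcore_pgroup {3}ᶜ 𝒞[v])
    have h1 : oppOf 3 𝒞[v] ⊓ 𝒞[z] ≤ U := K ▸ h.xinv hs hx c.xz inf_le_right
      (fun e => p3 (e.trans (cardSg inf_le_left)))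
      (mem_norm_of_cj_le (by rw [cj_inf, cj_eq_of_mem c.xz, cj_eq_of_mem_norm (pcore_norm _ _ xv)]))
    have h3 := Sylow_index Nat.prime_two (Sylow_of_norm_le Nat.prime_two
      (Sylow_intro le_rfl ((pigroup_singleton Nat.prime_two).2 pB) (by simp)) BK
      fun a ha => Beq.ge ⟨h1 ⟨ha.1, NB ha.2⟩, pcore_sub _ _ ha.1⟩)
    rw [← Lagrange (pcore_sub {3}ᶜ 𝒞[v]), ← Lagrange BK, B16, mul_assoc] at e
    have h4 := (Nat.Coprime.pow_left 2 ((Nat.Prime.coprime_iff_not_dvd Nat.prime_two).2 h3)).dvd_of_dvd_mul_left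
      (Nat.dvd_of_mul_dvd_mul_left (by norm_num : 0 < 16) e)
    exact absurd (h4.trans (h.sol sv)) (by decide)
  have y64 : ∀ a, IsConj z a → 64 ∣ Nat.card 𝒞[a] := fun a e => by rw [← card_cent_conj e, c384]; decide
  have d64 : ∀ e ∈ D, e ∉ zpowers z → 64 ∣ Nat.card 𝒞[e] := fun e he e1 => by
    have m1 : 𝒞[e].relIndex 𝒞[z] ≤ 8 := D8 ▸ Sect.index_le _ _ (fun a => a * e * a⁻¹) (D : Set G)
      (fun a ha => conj_mem_of_mem_norm (nD ha) he) fun a _ b _ => fib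
    have m2 := LagrangeI 𝒞[e] 𝒞[z]
    have m3 : ¬ 3 ∣ Nat.card ↥(𝒞[e] ⊓ 𝒞[z]) := fun d => by
      obtain ⟨y, hy, y3⟩ := Cauchy Nat.prime_three d
      obtain ⟨k, hk, e2⟩ := h.cl.conj3 hx y3 c.xz hy.2
      have e3 : k * x * k⁻¹ ∈ 𝒞[e] := by
        rcases e2 with e2 | e2 <;> rw [e2]
        exacts [hy.1, inv_mem hy.1]
      have e4 := c.fix _ (conj_mem_of_mem_norm' (nD hk) he).1 (by
        calc k⁻¹ * e * k * x = k⁻¹ * (e * (k * x * k⁻¹)) * k := by group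
          _ = _ := by rw [← mem_cent1.1 e3]; group)
      exact e1 (by rw [← cz hk e4] at e4; simpa [mul_assoc] using e4)
    refine Dvd.dvd.trans ?_ (cardSg (inf_le_left (b := 𝒞[z])))
    rw [c384] at m2
    generalize 𝒞[e].relIndex 𝒞[z] = n at *
    interval_cases n <;> omega
  obtain ⟨M, -, m, -⟩ | ⟨g, hg⟩ := Transfer.thompson_transfer (Q := H) odd (by
    have := LagrangeI H 𝒞[z]
    rw [inf_comm, s.c192, c384] at this
    omega) v2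
  · exact h.no_index_two M m
  have cv : ∀ a, IsConj (g * v * g⁻¹) a → ¬ 64 ∣ Nat.card 𝒞[a] := fun a e => by
    rwa [← card_cent_conj e, ← card_cent_conj (isConj_iff.2 ⟨g, rfl⟩)]
  have a2 : g * v * g⁻¹ * (g * v * g⁻¹) = 1 := by rw [conj_mul, vv]; simp
  by_cases aQ : g * v * g⁻¹ ∈ Q
  · exact cv _ (IsConj.refl _) (y64 _ (s.tr _ aQ fun e => vE (by rw [conj_eq_one_iff.1 e]; exact one_mem _)))
  obtain ⟨b, hb, bQ⟩ := SetLike.not_le_iff_exists.1 c.not_EW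
  obtain ⟨k, hk, e⟩ := p.conj2 hg aQ (a2 ▸ one_mem _) hb.2 bQ (c.zle c.zW (c.sqE hb))
  refine cv (k * (g * v * g⁻¹) * k⁻¹) (isConj_iff.2 ⟨k, rfl⟩) ?_
  rcases inv ((mul_mem_cancel_right (inv_mem hb)).1 (c.WE e)) (by rw [conj_mul, a2]; simp)
    (fun e' => bQ (by simpa using (mul_mem_cancel_left e').1 e)) with ⟨e1, e2⟩ | ⟨w, hw, w1, e1⟩
  · exact d64 _ e1 e2
  · exact y64 _ ((s.tr w hw w1).trans (isConj_iff.2 ⟨v, e1.symm⟩))

end CfsgLib.C3
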