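import Cfsg.Agent.Lib.C3.Frame
import Cfsg.Agent.Lib.C3.Kq
import Cfsg.Agent.Lib.C3.Cf
import Cfsg.Agent.Lib.Transfer.Cocycle
import Cfsg.Agent.Lib.C3.Big
import Cfsg.Agent.Lib.Metacyc.Arith
import Cfsg.Agent.Lib.Fgs.ConjCount
import Cfsg.Agent.Lib.BG.S1_2

/-! Package MID.  See `plans/C3.md`. -/

set_option autoImplicit false
set_option linter.unusedSectionVars false

namespace CfsgLib.C3

open Cfsg CfsgLib.BG Subgroup
open scoped MatrixGroups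

universe u

variable {G : Type*} [Group G] [Finite G] {H Q : Subgroup G} {π : H →* L7}

namespace Mid

open Big

variable {U W Z : Subgroup G} {x y z w a b j m : G}

theorem two (h : Nat.card U = 2) : ∃ z ∈ U, z ≠ 1 ∧ ∀ c ∈ U, c ≠ 1 → c = z := by
  obtain ⟨z, h1, h2⟩ := (Nat.card_eq_two_iff' (1 : U)).1 h
  exact ⟨z, z.2, fun e => h1 (Subtype.ext e), fun c hc c1 =>
    congrArg Subtype.val (h2 ⟨c, hc⟩ fun e => c1 (congrArg Subtype.val e))⟩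

theorem four (h : Nat.card W = 4) (hU : U ≤ W) (hz : z ∈ U) (hw : w ∈ U) (z1 : z ≠ 1) (w1 : w ≠ 1)
    (ne : z ≠ w) : U = W := by
  refine eq_of_le_card hU ?_
  have h1 := h ▸ cardSg hU
  have h2 : 1 < Nat.card U := cardG_gt1.2 (ne_bot_of_mem hz z1)
  have h3 : Nat.card U ≠ 2 := fun e =>
    let ⟨_, _, _, k⟩ := two e; ne ((k z hz z1).trans (k w hw w1).symm)
  have := Nat.le_of_dvd (by norm_num) h1
  interval_cases Nat.card U <;> omega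

theorem mul_mem_half (hZ : Z ≤ Q) (h : Nat.card Q ≤ 2 * Nat.card Z) (ha : a ∈ Q) (hb : b ∈ Q)
    (a1 : a ∉ Z) (b1 : b ∉ Z) : a * b ∈ Z := by
  have e := Lagrange hZ
  have e1 : Z.relIndex Q ≠ 1 := fun e => a1 (relIndex_eq_one.1 e ha)
  have e2 : Z.relIndex Q = 2 := by
    have := relIndex_pos Z Q
    have := cardG_pos Z
    have : Z.relIndex Q ≤ 2 := by nlinarith
    omega
  exact (mul_mem_iff_of_index_two (H := Z.subgroupOf Q) e2 (a := ⟨a, ha⟩) (b := ⟨b, hb⟩)).2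
    (iff_of_false a1 b1)

theorem inv_mul_cent (hj : j * x * j⁻¹ = x⁻¹) (hm : m * x * m⁻¹ = x⁻¹) :
    j⁻¹ * m * x = x * (j⁻¹ * m) := by
  calc j⁻¹ * m * x = j⁻¹ * (m * x * m⁻¹) * m := by group
    _ = j⁻¹ * (j * x * j⁻¹)⁻¹⁻¹ * m := by rw [hm, hj, inv_inv]
    _ = x * (j⁻¹ * m) := by group

variable (p : Par H Q π) (h : Min G) (h16 : Nat.card Q = 16)
include p h h16

theorem cases (xH : x ∈ H) (hx : orderOf x = 3) : V x ≤ Q ∧ Nat.card (V x) = 4 := by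
  rcases p.cases h.cl xH hx with e | e | e
  · omega
  · exact e.2
  · omega

theorem b0 (xH : x ∈ H) (hx : orderOf x = 3) (e : m * x * m⁻¹ = x⁻¹) : m ∈ H := by
  obtain ⟨j, jH, hj, -⟩ := p.exists_inv h.cl xH hx
  obtain ⟨i, v, hv, e'⟩ := h.cl.mem_cent hx (inv_mul_cent hj e)
  exact (mul_mem_cancel_left (inv_mem jH)).1
    (e' ▸ mul_mem (pow_mem xH i) (p.le ((cases p h h16 xH hx).1 hv)))

theorem s7 (yH : y ∈ H) (hy : orderOf y = 7) : Nat.card ↥(Q ⊓ 𝒞[y]) = 2 := by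
  have h1 := card_modEq_cent (by norm_num : Nat.Prime 7) (hy ▸ pow_orderOf_eq_one y) (HN p yH)
  have h2 := cardSg (inf_le_left : Q ⊓ 𝒞[y] ≤ Q)
  have h3 : Nat.card ↥(Q ⊓ 𝒞[y]) ≠ 16 := fun e => by
    have := p.exp y (p.cent.le (sub_cent1.1
      ((eq_of_le_card inf_le_left (h16.trans e.symm).le).ge.trans inf_le_right)))
    exact absurd (hy ▸ orderOf_dvd_of_pow_eq_one (pow_two y ▸ this)) (by norm_num)
  rw [h16] at h1 h2
  have h4 := Nat.le_of_dvd (by norm_num) h2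
  unfold Nat.ModEq at h1
  interval_cases Nat.card ↥(Q ⊓ 𝒞[y]) <;> omega

theorem bound (xH : x ∈ H) (hx : orderOf x = 3) (jH : j ∈ H) (hj : j * x * j⁻¹ = x⁻¹)
    (j2 : j * j ∈ Q) (aH : a ∈ H) (aQ : a ∉ Q) (a2 : a * a ∈ Q) :
    Nat.card ↥(Q ⊓ 𝒞[a]) * Nat.card ↥(Q ⊓ 𝒞[a]) ≤ 16 * Nat.card ↥(V x ⊓ 𝒞[j]) := by
  obtain ⟨k, kH, hk⟩ := p.conj2 aH aQ a2 jH (p.inv_notMem xH hx hj) j2
  have cjk : ∀ {k a}, k ∈ H → cj k (Q ⊓ 𝒞[a]) = Q ⊓ 𝒞[k * a * k⁻¹] := fun kH => by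
    rw [cj_inf, cj_cent1, cj_eq_of_mem_norm (HN p kH)]
  rw [← card_cj k, cjk kH, ← inv_mul_cancel_right (k * a * k⁻¹) j, cent_mul p hk]
  have h1 := mul_cardG (H := Q ⊓ 𝒞[j]) (K := cj x (Q ⊓ 𝒞[j])) (.inl (cents_norm (centSS inf_le_left
    ((cjk xH).le.trans inf_le_left) (QC p))))
  have h2 : Q ⊓ 𝒞[j] ⊓ cj x (Q ⊓ 𝒞[j]) ≤ V x ⊓ 𝒞[j] := fun d hd => by
    have e1 := mem_cent1.1 hd.1.2
    have e2 := mem_cent1.1 ((cjk xH).le hd.2).2
    have e3 : j⁻¹ * (x * j * x⁻¹) = x := by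
      calc j⁻¹ * (x * j * x⁻¹) = j⁻¹ * (x * (j * x * j⁻¹)⁻¹⁻¹ * (j * x * j⁻¹)⁻¹) * j * x⁻¹ := by group
        _ = j⁻¹ * (j * x * j⁻¹)⁻¹ * j * x⁻¹ := by rw [hj]; group
        _ = (x ^ 3)⁻¹ * x := by group
        _ = x := by rw [cube hx]; group
    exact ⟨(h.cl.mem_V hx).2 ⟨e3 ▸ ((show Commute d j from e1).inv_right.mul_right e2).eq,
      p.exp d hd.1.1⟩, hd.1.2⟩
  rw [card_cj] at h1
  rw [← h1, ← h16]
  exact Nat.mul_le_mul (BG.card_le_of_le (sup_le inf_le_left ((cjk xH).le.trans inf_le_left)))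
    (BG.card_le_of_le h2)

theorem caseA (h2 : IsCharacteristicTwoType G) (xH : x ∈ H) (hx : orderOf x = 3) (j2 : j * j = 1)
    (hj : j * x * j⁻¹ = x⁻¹) (hV : j ∈ 𝒞(V x)) : False := by
  haveI : Fact (Nat.Prime 2) := ⟨Nat.prime_two⟩
  have jH := b0 p h h16 xH hx hj
  obtain ⟨VQ, V4⟩ := cases p h h16 xH hx
  obtain ⟨y, yH, hy, xy, gen⟩ := p.exists_seven h.cl xH hx
  have c2 := s7 p h h16 yH hy
  obtain ⟨z, hz, z1, hz'⟩ := two c2
  have ab : IsMulCommutative Q := abelian_iff.2 (QC p)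
  have xN : zpowers x ≤ 𝒩(Q) := zpowers_le.2 (HN p xH)
  have yN : zpowers y ≤ 𝒩(Q) := zpowers_le.2 (HN p yH)
  have Cx : Q ⊓ 𝒞[y] ≤ 𝒞(zpowers x) := fun c hc => by
    rw [cent_zpowers, mem_cent1]
    rcases eq_or_ne c 1 with rfl | c1
    · simp
    have := conj_mem_of_mem_norm (normsI xN (cent_zpowers y ▸ norms_cent (zpowers_le.2 xy))
      (mem_zpowers x)) hc
    exact (mul_inv_eq_iff_eq_mul.1 ((hz' _ this (by simpa using c1)).trans (hz' c hc c1).symm)).symm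
  have zx : x ∈ 𝒞[z] := cent1C.1 (cent_zpowers x ▸ Cx hz)
  have zV : z ∈ V x := (h.cl.mem_V hx).2 ⟨(mem_cent1.1 zx).symm, p.exp z hz.1⟩
  have Hz : H ≤ 𝒞[z] := (gen j jH hj).trans (sup_le ((QC p).trans (cent_le_cent1 hz.1))
    ((closure_le _).2 (by
      rintro _ (rfl | rfl | rfl)
      exacts [zx, cent1C.1 hz.2, cent_le_cent1 zV hV])))
  obtain ⟨π', p', c16⟩ := par_of_inv h h2 (orderOf_eq_prime (by rw [pow_two, p.exp z hz.1]) z1)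
    fun e => p.not_solvable (solvableS Hz e)
  have zH : 𝒞[z] ≤ H := (eq_of_le_card Hz (by rw [p'.card_H, p.card_H, c16, h16])).ge
  have xV : 𝒞[x] ≤ 𝒞(V x) := cents_iff.2 fun a ha b hb => h.cl.comm x hx a ha b (V_le x hb)
  have NV : 𝒩(V x) ≤ 𝒞(V x) := fun g hg => by
    obtain ⟨n, hn, m, rfl, e | e⟩ := h.cl.frattini3 hx (xV (cent1id x)) (norms_cent le_rfl hg)
    · exact mul_mem hn (xV (mem_cent1.2 (mul_inv_eq_iff_eq_mul.1 e)))
    · exact mul_mem hn ((mul_mem_cancel_left (inv_mem hV)).1 (xV (mem_cent1.2 (inv_mul_cent hj e))))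
  have co : ∀ {u : G} {n}, orderOf u = n → Nat.Coprime 16 n →
      (Nat.card Q).Coprime (Nat.card (zpowers u)) := fun e c => by rwa [h16, Nat.card_zpowers, e]
  have w1 := coprime_cent_prod yN (co hy (by norm_num)) (abelian_sol ab)
  have w2 := coprime_abel_cent_TI yN (co hy (by norm_num)) ab
  have w3 := coprime_cent_prod xN (co hx (by norm_num)) (abelian_sol ab)
  have w4 : zpowers x ≤ 𝒩(⁅Q, zpowers y⁆) := normsR xN (zpowers_le.2 xy)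
  have w5 : ⁅zpowers y, Q⁆ ≤ ⁅Q, zpowers y⁆ := (commGC _ _).le
  have WQ : ⁅Q, zpowers y⁆ ≤ Q := commg_subl.2 yN
  rw [cent_zpowers] at w1 w2
  generalize ⁅Q, zpowers y⁆ = W at w1 w2 w4 w5 WQ
  have QW : Q ≤ 𝒩(W) := sub_abelian_norm ab WQ
  have zW : z ∉ W := fun e => z1 (mem_bot.1 (w2.le ⟨e, hz.2⟩))
  have W8 : Nat.card W = 8 := by
    have := TI_cardMg (H := W) (K := Q ⊓ 𝒞[y]) (.inr (inf_le_left.trans QW))
      (le_bot_iff.1 ((inf_le_inf_left _ inf_le_right).trans w2.le))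
    rw [w1, h16, c2] at this
    omega
  have w6 : ⁅Q, zpowers x⁆ ≤ W := by
    rw [← w1, commg_sup_cent Cx (inf_le_left.trans QW)]
    exact commg_subl.2 w4
  have w7 : ⁅zpowers j, Q⁆ ≤ W := by
    have jx : j ∈ 𝒩(zpowers x) := mem_norm_iff.2 (by rw [cj_zpowers, hj, zpowers_inv])
    rw [commGC, ← w3, commg_sup_cent _ (inf_le_left.trans (sub_abelian_norm ab (commg_subl.2 xN)))]
    · exact (commg_subl.2 (normsR (zpowers_le.2 (HN p jH)) (zpowers_le.2 jx))).trans w6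
    · exact fun c hc => centsC.1 (zpowers_le.2 hV) ((h.cl.mem_V hx).2
        ⟨mem_cent1.1 (cent_zpowers x ▸ hc.2), p.exp c hc.1⟩)
  have nW : ∀ {A}, ⁅A, Q⁆ ≤ W → A ≤ 𝒩(W) := fun e => commg_subr.1 ((commgS _ WQ).trans e)
  have sW : ∀ {A B}, ⁅A, Q⁆ ≤ W → ⁅B, Q⁆ ≤ W → ⁅A ⊔ B, Q⁆ ≤ W := fun e e' =>
    commg_sup_le (nW e) (nW e') e e'
  have HQ : ⁅H, Q⁆ ≤ W := (commSg Q ((gen j jH hj).trans (sup_le_sup_left ((closure_le _).2 (by
    rintro _ (rfl | rfl | rfl)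
    exacts [mem_sup_left (mem_sup_left (mem_zpowers _)), mem_sup_left (mem_sup_right (mem_zpowers _)),
      mem_sup_right (mem_zpowers _)])) Q))).trans
    (sW ((commG1.2 (QC p)).le.trans bot_le) (sW (sW ((commGC _ _).le.trans w6) w5) w7))
  have HW := nW HQ
  obtain ⟨w, hw, w1'⟩ := exists_ne_one_of_ne_bot (H := V x ⊓ W) (cardG_gt1.1 (by
    have e1 := mul_cardG (H := V x) (K := W) (.inl (VQ.trans QW))
    have e2 := BG.card_le_of_le (sup_le VQ WQ)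
    rw [V4, W8] at e1
    nlinarith))
  have zw : 𝒞[z] ⊓ 𝒞[w] ≤ 𝒞(V x) := fun g hg => sub_cent1.1
    ((four V4 (inf_le_left (b := 𝒞[g])) ⟨zV, cent1C.1 hg.1⟩ ⟨hw.1, cent1C.1 hg.2⟩ z1 w1'
      fun e => zW (e ▸ hw.2)).ge.trans inf_le_right)
  have i7 : (H ⊓ 𝒞[w]).relIndex H = 7 := by
    refine le_antisymm ?_ (p.index_ge (le_inf p.le ((QC p).trans (cent_le_cent1 (WQ hw.2)))) inf_le_left
      fun e => zW (hz' w ⟨WQ hw.2, cent1C.1 (e.ge yH).2⟩ w1' ▸ hw.2))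
    rw [inf_relIndex_left, ← CfsgLib.Fgs.ncard_conj_by_subgroup]
    refine (Set.ncard_le_ncard (t := (W : Set G) \ {1}) ?_).trans ?_
    · rintro _ ⟨g, hg, rfl⟩
      exact ⟨conj_mem_of_mem_norm (HW hg) hw.2, by simpa using w1'⟩
    · rw [Set.ncard_sdiff_singleton_of_mem W.one_mem, ← Nat.card_coe_set_eq]
      exact (congrArg (· - 1) W8).le
  obtain ⟨T, hT, TM⟩ := (not_dvd_relIndex_iff_Sylow_le Nat.prime_two inf_le_left).1
    (by rw [i7]; norm_num)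
  have TH := pHall_sub hT
  obtain ⟨QT, i8, a, ha, b, hb, a2, b2, r2, r4, eT⟩ := p.sylow hT
  have TV : T ≤ 𝒞(V x) := (le_inf (TH.trans Hz) (TM.trans inf_le_right)).trans zw
  have VZ : V x ≤ T ⊓ 𝒞(T) := le_inf (VQ.trans QT) (centsC.1 TV)
  have ZQ : T ⊓ 𝒞(T) ≤ Q := (inf_le_right.trans (centS QT)).trans p.cent.le
  have eZ : V x = T ⊓ 𝒞(T) := by
    by_contra hne
    have e1 := proper_card (lt_of_le_of_ne VZ hne)
    obtain ⟨k, hk⟩ := V4 ▸ cardSg VZ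
    refine r2 (p.cent.le (mem_cent_iff.2 fun q hq => ?_))
    have hr := mul_mem ha hb
    generalize a * b = r at hr
    have k1 : ∀ c ∈ T ⊓ 𝒞(T), r * c * r⁻¹ = c := fun c hc => by
      rw [mem_cent_iff.1 hc.2 r hr, mul_inv_cancel_right]
    have k2 : r * q * r⁻¹ * q ∈ T ⊓ 𝒞(T) := by
      by_cases hq' : q ∈ T ⊓ 𝒞(T)
      · rw [k1 q hq']; exact mul_mem hq' hq'
      refine mul_mem_half ZQ (by omega) (p.conj_mem (TH hr) hq) hq (fun e => hq' ?_) hq'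
      have := k1 _ e
      rw [mul_left_inj, mul_right_inj] at this
      exact this ▸ e
    have k3 := k1 _ k2
    have k4 := p.exp _ (p.conj_mem (TH hr) hq)
    calc q * r ^ 2 = r * q * r⁻¹ * (r * q * r⁻¹) * q * r ^ 2 := by rw [k4, one_mul]
      _ = r * q * r⁻¹ * (r * (r * q * r⁻¹ * q) * r⁻¹) * r ^ 2 := by rw [k3]; group
      _ = r * q * r⁻¹ * (r * (r * q * r⁻¹) * r⁻¹) * (r * q * r⁻¹) * r ^ 2 := by group
      _ = r * (r * q * r⁻¹) * r⁻¹ * (r * q * r⁻¹ * (r * q * r⁻¹)) * r ^ 2 := by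
        rw [p.comm (p.conj_mem (TH hr) hq) (p.conj_mem (TH hr) (p.conj_mem (TH hr) hq))]; group
      _ = r ^ 2 * q := by rw [k4, pow_two]; group
  have NT : 𝒩(T) ≤ 𝒞[z] := ((eZ ▸ normsI le_rfl (norms_cent le_rfl) : 𝒩(T) ≤ 𝒩(V x)).trans NV).trans
    (cent_le_cent1 zV)
  have hT' := Sylow_of_norm_le Nat.prime_two hT le_top (inf_le_right.trans (NT.trans zH))
  have sq : ∀ c ∈ H, c ∉ Q → c * c ∈ Q → c * c ∈ W := fun c cH cQ c2 => by
    obtain ⟨k, kH, hk⟩ := p.conj2 cH cQ c2 jH (p.inv_notMem xH hx hj) (j2 ▸ one_mem Q)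
    have e1 := HQ (commutator_mem_commutator jH hk)
    rw [commutatorElement_def, inv_eq_of_mul_eq_one_right (p.exp _ hk), p.comm (p.conj_mem jH hk) hk,
      inv_eq_of_mul_eq_one_right j2] at e1
    have e2 := conj_mem_of_mem_norm' (HW kH) e1
    rwa [show k⁻¹ * (k * c * k⁻¹ * j * (j * (k * c * k⁻¹ * j) * j)) * k =
      c * k⁻¹ * (j * j) * k * c * k⁻¹ * (j * j) * k by group, j2, mul_one, mul_one,
      inv_mul_cancel_right, inv_mul_cancel_right] at e2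
  have aW := sq a (TH ha) (fun e => r2 (by
    rw [show (a * b) ^ 2 = a * (b * a * b⁻¹) * (b * b) by rw [pow_two]; group]
    exact mul_mem (mul_mem e (p.conj_mem (TH hb) e)) b2)) a2
  have bW := sq b (TH hb) (fun e => r2 (by
    rw [show (a * b) ^ 2 = a * b * a⁻¹ * (a * a) * b by rw [pow_two]; group]
    exact mul_mem (mul_mem (p.conj_mem (TH ha) e) a2) e)) b2
  have rW := sq _ (pow_mem (TH (mul_mem ha hb)) 2) r2 (by rwa [← pow_add])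
  have rH := TH (mul_mem ha hb)
  have n1 : zpowers (a * b) ≤ 𝒩(W) := zpowers_le.2 (HW rH)
  have n2 : zpowers a ≤ 𝒩(W ⊔ zpowers (a * b)) := zpowers_le.2 (mem_norm_of_cj_le (by
    rw [cj_sup, cj_eq_of_mem_norm (HW (TH ha)), cj_zpowers]
    refine sup_le le_sup_left (zpowers_le.2 ?_)
    rw [show a * (a * b) * a⁻¹ = a * a * (b * b) * (a * b)⁻¹ by group]
    exact mul_mem (mem_sup_left (mul_mem aW bW)) (mem_sup_right (inv_mem (mem_zpowers _)))))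
  have i1 := relIndex_mul_relIndex W (W ⊔ zpowers (a * b)) (W ⊔ zpowers (a * b) ⊔ zpowers a)
    le_sup_left le_sup_left
  rw [relIndex_sup_norm n1, relIndex_sup_norm n2] at i1
  have i2 := Nat.le_of_dvd (by norm_num) ((CfsgLib.Metacyc.pow_mem_iff_relIndex_dvd W (a * b) 4).1
    (by rwa [← pow_add] at rW))
  have i3 := Nat.le_of_dvd (by norm_num) ((CfsgLib.Metacyc.pow_mem_iff_relIndex_dvd
    (W ⊔ zpowers (a * b)) a 2).1 (mem_sup_left (pow_two a ▸ aW)))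
  have MT : W ⊔ zpowers (a * b) ⊔ zpowers a ≤ T :=
    sup_le (sup_le (WQ.trans QT) (zpowers_le.2 (mul_mem ha hb))) (zpowers_le.2 ha)
  have aM : a ∈ W ⊔ zpowers (a * b) ⊔ zpowers a := mem_sup_right (mem_zpowers a)
  have bM : b ∈ W ⊔ zpowers (a * b) ⊔ zpowers a :=
    (mul_mem_cancel_left aM).1 (mem_sup_left (mem_sup_right (mem_zpowers _)))
  have WM : W ≤ W ⊔ zpowers (a * b) ⊔ zpowers a := le_sup_left.trans le_sup_left
  generalize W ⊔ zpowers (a * b) ⊔ zpowers a = M at i1 MT aM bM WM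
  have eM : M ⊔ zpowers z = T := le_antisymm (sup_le MT (zpowers_le.2 (QT hz.1))) (eT.le.trans (sup_le
    (w1.ge.trans (sup_le_sup WM fun c hc => by
      rcases eq_or_ne c 1 with rfl | c1
      exacts [one_mem _, hz' c hc c1 ▸ mem_zpowers z]))
    ((closure_le _).2 (by
      rintro _ (rfl | rfl)
      exacts [mem_sup_left aM, mem_sup_left bM]))))
  have zM : z ∉ M := fun e => by
    have e1 := relIndex_mul_relIndex W Q T WQ QT
    have e2 := Lagrange WQ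
    rw [sup_eq_left.2 (zpowers_le.2 e)] at eM
    rw [W8, h16] at e2
    rw [i8, ← eM, ← i1] at e1
    nlinarith
  have i4 : M.relIndex T = 2 := by
    rw [← eM, relIndex_sup_norm (cents_norm (zpowers_le.2 (sub_cent1.1 ((MT.trans TH).trans Hz))))]
    exact ((Nat.dvd_prime Nat.prime_two).1 ((CfsgLib.Metacyc.pow_mem_iff_relIndex_dvd M z 2).1 (by
      rw [pow_two, p.exp z hz.1]; exact one_mem M))).resolve_left
      fun e => zM (relIndex_eq_one.1 e (mem_zpowers z))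
  obtain ⟨t, h1, h3⟩ := CfsgLib.Transfer.thompson_transfer_extremal h.no_index_two
    (relIndex_top_right T ▸ Sylow_index Nat.prime_two hT') i4 (p.exp z hz.1) (Sylow_isPGroup hT)
    (TH.trans Hz)
  have h4 := mem_cent1.1 (NT (mem_norm_of_cj_le (g := t⁻¹) (cj_le_iff.2 fun r hr => by
    simpa only [inv_inv] using h3 r hr)))
  rw [h4, inv_mul_cancel_right] at h1
  exact zM h1

theorem caseB (h2 : IsCharacteristicTwoType G) (xH : x ∈ H) (hx : orderOf x = 3) (j2 : j * j = 1)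
    (hj : j * x * j⁻¹ = x⁻¹) (hV : j ∉ 𝒞(V x)) : False := by
  haveI : Fact (Nat.Prime 2) := ⟨Nat.prime_two⟩
  haveI := h.simple
  obtain ⟨-, V4⟩ := cases p h h16 xH hx
  have jV : j ∈ 𝒩(V x) := mem_norm_iff.2 (by rw [cj_V, hj, V_inv])
  obtain ⟨u, hu, hu'⟩ : ∃ u ∈ V x, j * u * j⁻¹ ≠ u := by
    by_contra! hh
    exact hV (mem_cent_iff.2 fun u hu => (mul_inv_eq_iff_eq_mul.1 (hh u hu)).symm)
  have hu2 := conj_mem_of_mem_norm jV hu
  have sqV : ∀ v ∈ V x, v * v = 1 := fun v hv => ((h.cl.mem_V hx).1 hv).2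
  have o2 : ∀ v ∈ V x, v ≠ 1 → orderOf v = 2 := fun v hv =>
    orderOf_eq_prime (by rw [pow_two, sqV v hv])
  have ji : j⁻¹ = j := inv_eq_of_mul_eq_one_right j2
  have u1 : u ≠ 1 := fun e => hu' (by simp [e])
  have u2 : j * u * j⁻¹ ≠ 1 := by simpa using u1
  obtain ⟨w, ew⟩ : ∃ w, w = u * (j * u * j⁻¹) := ⟨_, rfl⟩
  have wV : w ∈ V x := ew ▸ mul_mem hu hu2
  have w1 : w ≠ 1 := fun e => hu' (mul_left_cancel ((ew.symm.trans e).trans (sqV u hu).symm))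
  have wj : j ∈ 𝒞[w] := mem_cent1.2 (by
    calc j * w = j * u * j⁻¹ * (j * j) * u * j⁻¹ := by rw [ew]; group
      _ = u * (j * u * j⁻¹) * j⁻¹ := by rw [j2, mul_one, h.cl.V_comm hx hu2 hu]
      _ = w * j := by rw [ew, ji])
  have nV : V x ⊓ 𝒞[j] ≠ V x := fun e =>
    hu' (mul_inv_eq_iff_eq_mul.2 (mem_cent1.1 (e.ge hu).2).symm)
  have cw : ∀ v ∈ V x, v ∈ 𝒞[j] → v ≠ 1 → v = w := fun v hv hc v1 => by_contra fun e =>
    nV (four V4 inf_le_left ⟨hv, hc⟩ ⟨wV, cent1C.1 wj⟩ v1 w1 e)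
  have c2 : Nat.card ↥(V x ⊓ 𝒞[j]) ≤ 2 := by
    have e1 := V4 ▸ cardSg (inf_le_left : V x ⊓ 𝒞[j] ≤ V x)
    have e2 := V4 ▸ proper_card (lt_of_le_of_ne inf_le_left nV)
    interval_cases Nat.card ↥(V x ⊓ 𝒞[j]) <;> omega
  have one : ∀ a : G, orderOf a = 2 → ∃ g, cj g 𝒞[a] = 𝒞[j] := fun a ha => by
    suffices hh : IsConj a j by
      obtain ⟨g, e⟩ := isConj_iff.1 hh
      exact ⟨g, by rw [cj_cent1, e]⟩
    obtain ⟨g, e⟩ := inverts h.cl h.ncomm hx ha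
    refine (isConj_iff.2 ⟨g, rfl⟩).trans ?_
    have a2 : g * a * g⁻¹ * (g * a * g⁻¹) = 1 := by
      rw [conj_mul, ← pow_two, ← ha, pow_orderOf_eq_one, mul_one, mul_inv_cancel]
    obtain ⟨i, v, hv, e'⟩ := h.cl.mem_cent hx (inv_mul_cent hj e)
    rw [inv_mul_eq_iff_eq_mul] at e'
    have c1 : v * x ^ i = x ^ i * v := ((show Commute v x from ((h.cl.mem_V hx).1 hv).1).pow_right i).eq
    have c2 : j * x ^ i * j⁻¹ = (x ^ i)⁻¹ := by rw [← conj_pow, hj, inv_pow]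
    have c3 : (x ^ i) ^ 3 = 1 := by rw [← pow_mul, mul_comm, pow_mul, cube hx, one_pow]
    rw [e'] at a2 ⊢
    generalize x ^ i = s at c1 c2 c3 a2
    have c4 : s * j = j * s⁻¹ := by rw [← c2, ← mul_assoc, ← mul_assoc, j2, one_mul, ji]
    have c5 : j * v = v * j := comm_of_sq j2 (sqV v hv) (by
      calc j * v * (j * v) = j * v * (j * s⁻¹) * s * v := by group
        _ = j * (v * s) * (j * (s * v)) := by rw [← c4]; group
        _ = 1 := by rw [c1, a2])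
    refine (isConj_iff.2 ⟨s, ?_⟩ : IsConj (j * v) _).symm.trans ?_
    · calc s * (j * v) * s⁻¹ = s * j * s⁻¹ * (s * v) * s⁻¹ := by group
        _ = j * (s ^ 3)⁻¹ * s * v := by rw [c4, ← c1]; group
        _ = j * (s * v) := by rw [c3]; group
    rcases eq_or_ne v 1 with rfl | v1
    · rw [mul_one]
    refine (isConj_iff.2 ⟨u, ?_⟩ : IsConj j _).symm
    rw [cw v hv (mem_cent1.2 c5.symm) v1, ew, ← h.cl.V_comm hx hu2 hu,
      inv_eq_of_mul_eq_one_right (sqV u hu), ji, ← mul_assoc, ← mul_assoc, ← mul_assoc, j2, one_mul]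
  have cc : ∀ a b : G, orderOf a = 2 → orderOf b = 2 → ∃ g, cj g 𝒞[a] = 𝒞[b] := fun a b ha hb =>
    let ⟨g, e⟩ := one a ha; let ⟨k, e'⟩ := one b hb; ⟨k⁻¹ * g, by rw [cj_mul, e, ← e', cj_inv_cj]⟩
  have xv : ∀ v ∈ V x, x ∈ 𝒞[v] := fun v hv => cent1C.1 (V_le x hv)
  have nsw : ¬ Group.IsSolvable 𝒞[w] := fun hs => by
    obtain ⟨y, yH, hy, -⟩ := p.exists_seven h.cl xH hx
    obtain ⟨z, hz, z1, -⟩ := two (s7 p h h16 yH hy)
    obtain ⟨g, e⟩ := cc z w (orderOf_eq_prime (by rw [pow_two, p.exp z hz.1]) z1) (o2 w wV w1)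
    have e1 := hy ▸ order_dvdG (cent1C.1 hz.2)
    have e2 := kq h (h.cent_ne_top w1) (char2_inv h2 (o2 w wV w1)) hx (xv w wV) wj hj
      (.inr (.inl ⟨w, cent1id w, o2 w wV w1, le_rfl⟩))
    have e3 := h.sol hs
    rw [← card_cj g, e, ← Lagrange (pcore_sub {3}ᶜ 𝒞[w])] at e1
    rcases (Nat.Prime.dvd_mul (by norm_num)).1 e1 with e4 | e4
    · exact absurd (pcore_pgroup {2} 𝒞[w] 7 (by norm_num) (e4.trans (cardSg e2.le))) (by simp)
    · exact absurd (e4.trans e3) (by norm_num)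
  have ns := fun v (hv : v ∈ V x) v1 => par_of_inv h h2 (o2 v hv v1) fun hs => by
    obtain ⟨g, e⟩ := cc v w (o2 v hv v1) (o2 w wV w1)
    exact nsw (e ▸ isSolvable_cj.2 hs)
  have A1 : ∀ v ∈ V x, v ≠ 1 → V x ≤ opOf 2 𝒞[v] ∧ opOf 2 𝒞[v] ≤ 𝒞(V x) := fun v hv v1 =>
    let ⟨_, p', c⟩ := ns v hv v1
    ⟨(cases p' h c (xv v hv) hx).1, centsS (cases p' h c (xv v hv) hx).1 (QC p')⟩
  have A2 : ∀ v ∈ V x, v ≠ 1 → ∀ v' ∈ V x, v' ≠ 1 → v ≠ v' → ¬ opOf 2 𝒞[v] ≤ opOf 2 𝒞[v'] := by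
    intro v hv v1 v' hv' v1' ne e
    obtain ⟨_, p1, c1⟩ := ns v hv v1
    obtain ⟨_, p2, c2⟩ := ns v' hv' v1'
    obtain ⟨y, yH, hy, -⟩ := p1.exists_seven h.cl (xv v hv) hx
    have e1 : 𝒞[v] = 𝒞[v'] := by rw [← p1.norm, eq_of_le_card e (c2.trans c1.symm).le, p2.norm]
    have e2 := BG.card_le_of_le (le_inf (A1 v hv v1).1 ((four V4 (inf_le_left (b := 𝒞[y]))
      ⟨hv, cent1C.1 yH⟩ ⟨hv', cent1C.1 (e1.le yH)⟩ v1 v1' ne).ge.trans inf_le_right))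
    rw [s7 p1 h c1 yH hy] at e2
    omega
  obtain ⟨_, p1, c1⟩ := ns w wV w1
  have Vw : 𝒞(V x) ≤ 𝒞[w] := cent_le_cent1 wV
  have A3 : ∀ v ∈ V x, v ≠ 1 → ∀ a ∈ opOf 2 𝒞[v], a ∉ opOf 2 𝒞[w] → V x = opOf 2 𝒞[w] ⊓ 𝒞[a] := by
    intro v hv v1 a ha aQ
    obtain ⟨_, p2, -⟩ := ns v hv v1
    have e1 := bound p1 h c1 (xv w wV) hx wj hj (j2 ▸ one_mem _) (Vw ((A1 v hv v1).2 ha)) aQ
      (p2.exp a ha ▸ one_mem _)
    have e2 := le_inf (A1 w wV w1).1 (sub_cent1.2 ((A1 v hv v1).2 ha))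
    obtain ⟨k, hk⟩ := V4 ▸ cardSg e2
    refine eq_of_le_card e2 ?_
    rw [hk] at e1 ⊢
    have : k ≤ 1 := by nlinarith
    omega
  have A4 : ∀ v ∈ V x, v ≠ 1 → v ≠ w → Four 𝒞[w] (opOf 2 𝒞[w]) (opOf 2 𝒞[w] ⊔ opOf 2 𝒞[v]) ∧
      x ∈ 𝒩(opOf 2 𝒞[w] ⊔ opOf 2 𝒞[v]) ∧ opOf 2 𝒞[w] ⊔ opOf 2 𝒞[v] ≤ 𝒞(V x) := by
    intro v hv v1 ne
    obtain ⟨_, p2, c2⟩ := ns v hv v1
    obtain ⟨a, ha, aQ⟩ := SetLike.not_le_iff_exists.1 (A2 v hv v1 w wV w1 ne)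
    have e1 := (A1 v hv v1).2.trans Vw
    have e2 := LagrangeI (opOf 2 𝒞[w]) (opOf 2 𝒞[v])
    rw [le_antisymm ((inf_le_inf_left _ ((QC p2).trans (cent_le_cent1 ha))).trans (A3 v hv v1 a ha aQ).ge)
      (le_inf (A1 w wV w1).1 (A1 v hv v1).1), V4, c2] at e2
    refine ⟨⟨le_sup_left, sup_le p1.le e1, (relIndex_sup_norm (e1.trans (HN p1))).trans (by omega),
      fun b hb => ?_⟩, normsY (zpowers_le.2 (HN p1 (xv w wV))) (zpowers_le.2 (HN p2 (xv v hv)))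
      (mem_zpowers x), sup_le (A1 w wV w1).2 (A1 v hv v1).2⟩
    obtain ⟨q, hq, c, hc, rfl⟩ := (mem_sup_norm_l (e1.trans (HN p1))).1 hb
    rw [show q * c * (q * c) = q * (c * q * c⁻¹) * (c * c) by group, p2.exp c hc, mul_one]
    exact mul_mem hq (p1.conj_mem (e1 hc) hq)
  have n1 : u ≠ w := fun e => u2 (by rwa [ew, left_eq_mul] at e)
  have n2 : j * u * j⁻¹ ≠ w := fun e => u1 (by rwa [ew, right_eq_mul] at e)
  obtain ⟨f1, x1, m1⟩ := A4 u hu u1 n1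
  obtain ⟨f2, x2, m2⟩ := A4 _ hu2 u2 n2
  have e := p1.four_unique f1 f2 hx x1 x2 Vw (fun e => hV (e.ge wj))
    (sub_cent1.1 (V_le x)) m1 m2
  obtain ⟨_, p2, -⟩ := ns u hu u1
  obtain ⟨_, p3, -⟩ := ns _ hu2 u2
  have k : ∀ c ∈ opOf 2 𝒞[j * u * j⁻¹], c ∉ opOf 2 𝒞[w] → c ∈ opOf 2 𝒞[u] := fun c hc cQ => by
    obtain ⟨q, hq, a, ha, rfl⟩ := (mem_sup_norm_l (((A1 u hu u1).2.trans Vw).trans (HN p1))).1
      (e.ge (mem_sup_right hc))
    exact mul_mem ((A1 u hu u1).1 ((A3 u hu u1 a ha fun e => cQ (mul_mem hq e)).ge ⟨hq, mem_cent1.2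
      (comm_of_sq (p1.exp q hq) (p2.exp a ha) (p3.exp _ hc))⟩)) ha
  obtain ⟨a, ha, aQ⟩ := SetLike.not_le_iff_exists.1 (A2 _ hu2 u2 w wV w1 n2)
  refine A2 _ hu2 u2 u hu u1 hu' fun c hc => by_contra fun hn => ?_
  have cQ : c ∈ opOf 2 𝒞[w] := by_contra fun e => hn (k c hc e)
  exact hn ((mul_mem_cancel_right (k a ha aQ)).1
    (k _ (mul_mem hc ha) fun e => aQ ((mul_mem_cancel_left cQ).1 e)))

end Mid

theorem not_mid (h : Min G) (h2 : IsCharacteristicTwoType G) (p : Par H Q π) :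
    Nat.card Q ≠ 16 := fun h16 => by
  haveI : Fact (Nat.Prime 2) := ⟨Nat.prime_two⟩
  haveI := h.simple
  obtain ⟨x, xH, hx⟩ := p.exists_three
  obtain ⟨q, hq, q1⟩ := exists_ne_one_of_ne_bot (cardG_gt1.1 (by omega : 1 < Nat.card Q))
  obtain ⟨g, e⟩ := inverts h.cl h.ncomm hx (orderOf_eq_prime (by rw [pow_two, p.exp q hq]) q1)
  have j2 : g * q * g⁻¹ * (g * q * g⁻¹) = 1 := by rw [conj_mul, p.exp q hq, mul_one, mul_inv_cancel]
  exact (em _).elim (Mid.caseA p h h16 h2 xH hx j2 e) (Mid.caseB p h h16 h2 xH hx j2 e)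

end CfsgLib.C3
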