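import Cfsg.Agent.Lib.C3.ModA
import Cfsg.Agent.Lib.FT3.Fpf

/-! Package MOD: 2-groups acted on by `L₃(2)` with few fixed points of a 3-element.
See `plans/C3.md`. -/

set_option autoImplicit false

namespace CfsgLib.C3

open Cfsg CfsgLib.BG Subgroup
open scoped MatrixGroups

universe u

section

variable {Y : Type*} [Group Y] [Finite Y] {π : Y →* L7} {x y a : Y}

/-- `Ω₁(Z(Q))` -/
def omZ (Q : Subgroup Y) : Subgroup Y where
  carrier := {w | (w ∈ Q ∧ w ∈ 𝒞(Q)) ∧ w * w = 1}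
  one_mem' := ⟨⟨one_mem _, one_mem _⟩, one_mul 1⟩
  mul_mem' := fun {u v} hu hv => ⟨⟨mul_mem hu.1.1 hv.1.1, mul_mem hu.1.2 hv.1.2⟩, by
    rw [mul_assoc, ← mul_assoc v, ← mem_cent_iff.1 hv.1.2 u hu.1.1, mul_assoc, hv.2, mul_one, hu.2]⟩
  inv_mem' := fun {u} hu => ⟨⟨inv_mem hu.1.1, inv_mem hu.1.2⟩, by rw [← mul_inv_rev, hu.2, inv_one]⟩

instance (Q : Subgroup Y) [hQ : Q.Normal] : (omZ Q).Normal :=
  ⟨fun w hw g => ⟨⟨hQ.conj_mem w hw.1.1 g, Normal.conj_mem inferInstance w hw.1.2 g⟩, by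
    rw [conj_mul, hw.2, mul_one, mul_inv_cancel]⟩⟩

theorem omZ_ne_bot {Q : Subgroup Y} (h : IsPGroup 2 Q) (h1 : Q ≠ ⊥) : omZ Q ≠ ⊥ := by
  obtain ⟨z, hz⟩ := exists_prime_orderOf_dvd_card' 2 (pgroup_pdiv Nat.prime_two (h.to_le (centerOf_le Q))
    (center_nil_ne_bot (pgroup_nil Nat.prime_two h) h1))
  refine fun e => ?_
  have := mem_bot.1 (e.le (show (z : Y) ∈ omZ Q from
    ⟨z.2, (pow_two _).symm.trans (congrArg Subtype.val (orderOf_dvd_iff_pow_eq_one.1 hz.dvd))⟩))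
  simp [show z = 1 from Subtype.ext this] at hz

theorem MD.exp (m : MD π x y a) (h : Cl Y) : ∀ q ∈ π.ker, q * q = 1 := by
  intro q hq
  have hN : omZ π.ker ≤ π.ker := fun w hw => hw.1.1
  by_contra hq2
  have hV := h.le_V m.x3 (R := π.ker ⊓ 𝒞[x]) (fun e => by
    simpa using pgroup_prime_eq Nat.prime_two Nat.prime_three (m.pg.to_le inf_le_left) e) inf_le_right
  have h4 := (card_dvd_of_le hV).trans (h.card_V m.x3)
  have h1 := (one_lt_card_iff_ne_bot _).2 fun e => omZ_ne_bot m.pg (fun k => hq2 (by simp [mem_bot.1 (k.le hq)])) (m.c1 hN e)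
  have m' := m.quot hN
  have n1 : (QuotientGroup.lift _ π hN).ker ≠ ⊥ := fun e => hq2 (by
    rw [QuotientGroup.ker_lift, Subgroup.map_eq_bot_iff, QuotientGroup.ker_mk'] at e
    exact (e hq).2)
  have h2 := (one_lt_card_iff_ne_bot _).2 fun e => n1 (m'.c1 le_rfl e)
  have h3 : Nat.card ↥((QuotientGroup.lift _ π hN).ker ⊓ 𝒞[(x : Y ⧸ omZ π.ker)]) = 2 := by
    have := Nat.le_of_dvd (by norm_num) ((m.cardq hN).2 ▸ h4)
    have := (Dvd.intro _ (m.cardq hN).2).trans h4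
    generalize Nat.card ↥((QuotientGroup.lift _ π hN).ker ⊓ 𝒞[(x : Y ⧸ omZ π.ker)]) = c at *
    have : c ≤ 2 := by nlinarith
    omega
  have h5 := (m'.irr h3 (N := omZ _) fun w hw => hw.1.1).resolve_left (omZ_ne_bot m'.pg n1)
  obtain ⟨k, hk⟩ := m'.m1' (h.of_surj _ (QuotientGroup.mk'_surjective _)) (fun w hw => (h5.ge hw).2) h3
    (g := (q : Y ⧸ omZ π.ker)) hq
  obtain ⟨k, rfl⟩ := QuotientGroup.mk_surjective k
  obtain ⟨v, hv, e⟩ := (m.fixq hN).le hk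
  have hw : v⁻¹ * (k * q * k⁻¹) ∈ omZ π.ker := QuotientGroup.eq.1 e
  have e2 : k * q * k⁻¹ * (k * q * k⁻¹) = 1 := by
    rw [← mul_inv_cancel_left v (k * q * k⁻¹), mul_assoc v, ← mul_assoc _ v, ← mem_cent_iff.1 hw.1.2 v hv.1, mul_assoc v,
      hw.2, mul_one, ((h.mem_V m.x3).1 (hV hv)).2]
  exact hq2 (by rwa [conj_mul, conj_eq_one_iff] at e2)

end

theorem mod_main {Y : Type*} [Group Y] [Finite Y] (h : Cl Y) (π : Y →* L7)
    (hs : Function.Surjective π) (hQ : IsPGroup 2 π.ker) (hc : 𝒞(π.ker) ≤ π.ker) {x : Y}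
    (hx : orderOf x = 3) : (∀ a ∈ π.ker, a * a = 1) ∧
    ((Nat.card π.ker = 8 ∧ Nat.card ↥(π.ker ⊓ 𝒞[x]) = 2 ∧ center Y = ⊥) ∨
      (Nat.card π.ker = 16 ∧ Nat.card ↥(π.ker ⊓ 𝒞[x]) = 4) ∨
      (64 ≤ Nat.card π.ker ∧ Nat.card ↥(π.ker ⊓ 𝒞[x]) = 4 ∧ center Y = ⊥)) := by
  obtain ⟨y, a, m⟩ := exists_MD hs hQ hx
  have he := m.exp h
  have hx' : ¬ π.ker ≤ 𝒞[x] := fun e => m.x1 (hc (sub_cent1.1 e))
  have h4 := (card_dvd_of_le (h.le_V hx (R := π.ker ⊓ 𝒞[x]) (fun e => by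
    simpa using pgroup_prime_eq Nat.prime_two Nat.prime_three (hQ.to_le inf_le_left) e) inf_le_right)).trans (h.card_V hx)
  have h1 := (one_lt_card_iff_ne_bot _).2 fun e => hx' ((m.c1 le_rfl e).trans_le bot_le)
  have hZ : center Y ≤ π.ker := (center_le_centralizer _).trans hc
  have hZ' : ∀ g : Y, center Y ≤ 𝒞[g] := fun g => center_le_centralizer _
  have : Nat.card ↥(π.ker ⊓ 𝒞[x]) = 2 ∨ Nat.card ↥(π.ker ⊓ 𝒞[x]) = 4 := by
    have := Nat.le_of_dvd (by norm_num) h4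
    generalize Nat.card ↥(π.ker ⊓ 𝒞[x]) = c at *
    interval_cases c <;> omega
  refine ⟨he, this.imp (fun h2 => ?_) fun h2 => ?_⟩
  · obtain ⟨h3, h5⟩ := (m.m1 h he h2).resolve_left hx'
    exact ⟨h3, h2, eq_bot_iff.2 (h5 ▸ le_inf hZ (hZ' y))⟩
  have h5 : 4 < Nat.card π.ker := lt_of_not_ge fun e =>
    hx' ((eq_of_le_of_card_ge inf_le_left (h2 ▸ e)).ge.trans inf_le_right)
  by_cases hz : center Y = ⊥
  · have h6 := h.card_mod (R := π.ker) hx (normalizer_eq_top π.ker ▸ mem_top x)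
    obtain ⟨k, hk⟩ := pgroup_card Nat.prime_two hQ
    rw [h2, hk] at h6
    rw [hk] at h5 ⊢
    refine (lt_or_ge k 6).imp (fun k6 => ⟨?_, h2⟩) fun k6 => ⟨Nat.pow_le_pow_right two_pos k6, h2, hz⟩
    interval_cases k <;> simp_all [Nat.ModEq]
  obtain ⟨e1, e2⟩ := m.cardq hZ
  rw [inf_eq_left.2 (hZ' x), h2] at e2
  have z1 := (one_lt_card_iff_ne_bot _).2 hz
  have z2 : Nat.card (center Y) < 4 := lt_of_not_ge fun e => hx' ((m.c1' hZ
    (eq_of_le_of_card_ge (le_inf hZ (hZ' x)) (h2 ▸ e)).ge).ge.trans (hZ' x))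
  have z3 : Nat.card (center Y) = 2 := by
    generalize Nat.card (center Y) = c at *
    interval_cases c <;> omega
  rw [z3] at e1 e2
  rcases (m.quot hZ).m1 (h.of_surj _ (QuotientGroup.mk'_surjective _)) (fun q hq => by
    obtain ⟨q, rfl⟩ := QuotientGroup.mk_surjective q
    rw [← QuotientGroup.mk_mul, he q hq, QuotientGroup.mk_one]) (by omega) with k | k
  · rw [inf_eq_left.2 k] at e2; omega
  · exact Or.inl ⟨by omega, h2⟩

variable {G : Type*} [Group G] [Finite G] {H Q : Subgroup G} {π : H →* L7}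

theorem Par.cases (p : Par H Q π) (h : Cl G) {x : G} (xH : x ∈ H) (hx : orderOf x = 3) :
    (Nat.card Q = 8 ∧ Nat.card ↥(Q ⊓ 𝒞[x]) = 2 ∧ H ⊓ 𝒞(H) = ⊥) ∨
      (Nat.card Q = 16 ∧ V x ≤ Q ∧ Nat.card (V x) = 4) ∨
      (64 ≤ Nat.card Q ∧ V x ≤ Q ∧ Nat.card (V x) = 4 ∧ H ⊓ 𝒞(H) = ⊥) := by
  have QH : Q ≤ H := p.norm ▸ normG Q
  have hk : π.ker = Q.subgroupOf H := Subgroup.ext p.ker
  have h2 : IsPGroup 2 Q := fun q => ⟨1, Subtype.ext (by simpa [pow_two] using p.exp q q.2)⟩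
  have := (mod_main (h.sub H) π p.surj (hk ▸ h2.comap_subtype) (x := ⟨x, xH⟩) (fun c hc => (p.ker c).2 (p.cent.le
    (mem_cent_iff.2 fun q hq => congrArg Subtype.val (mem_cent_iff.1 hc ⟨q, QH hq⟩ ((p.ker _).2 hq)))))
    (by rw [← hx, ← orderOf_coe])).2
  have e1 : Nat.card π.ker = Nat.card Q := by rw [hk, Core.card_subgroupOf_of_le QH]
  have e2 : Nat.card ↥(π.ker ⊓ 𝒞[(⟨x, xH⟩ : H)]) = Nat.card ↥(Q ⊓ 𝒞[x]) := by
    rw [← Core.card_subgroupOf_of_le (inf_le_left.trans QH), hk]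
    congr 2; ext u; simp [mem_subgroupOf, mem_cent1, Subtype.ext_iff]
  have e3 : center H = ⊥ → H ⊓ 𝒞(H) = ⊥ := fun e => (centerOf_eq_map H).trans (by rw [e, Subgroup.map_bot])
  have e4 : Nat.card ↥(Q ⊓ 𝒞[x]) = 4 → V x ≤ Q ∧ Nat.card (V x) = 4 := fun e => by
    have := eq_of_le_of_card_ge (h.le_V hx (R := Q ⊓ 𝒞[x]) (by rw [e]; norm_num) inf_le_right)
      (e ▸ Nat.le_of_dvd (by norm_num) (h.card_V hx))
    exact ⟨this.ge.trans inf_le_left, this ▸ e⟩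
  rw [e1, e2] at this
  exact this.imp (fun k => ⟨k.1, k.2.1, e3 k.2.2⟩) (Or.imp (fun k => ⟨k.1, e4 k.2⟩)
    fun k => ⟨k.1, (e4 k.2.1).1, (e4 k.2.1).2, e3 k.2.2⟩)

theorem Par.sixteen (p : Par H Q π) (h : Cl G) {z : G} (zH : z ∈ H) (z1 : z ≠ 1)
    (hz : H ≤ 𝒞[z]) : Nat.card Q = 16 := by
  obtain ⟨b, hb⟩ := exists_prime_orderOf_dvd_card' (G := L7) 3 (by rw [card_L7]; norm_num)
  obtain ⟨x, hx, -⟩ := (h.sub H).lift3 π p.surj hb
  have k : H ⊓ 𝒞(H) ≠ ⊥ := fun e => z1 (mem_bot.1 (e.le ⟨zH, sub_cent1.1 hz⟩))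
  rcases p.cases h x.2 (by rw [orderOf_coe, hx]) with e | e | e
  exacts [(k e.2.2).elim, e.1, (k e.2.2.2).elim]

end CfsgLib.C3
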