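import Cfsg.Agent.Lib.C3.Basic
import Cfsg.Agent.Lib.BG.S3_10

/-! Package MOD, part A: Scott's inequality and `L₃(2)`-modules.  See `plans/C3.md`. -/

set_option autoImplicit false

namespace CfsgLib.C3

open Cfsg CfsgLib.BG Subgroup CfsgLib.PSL2Rec
open scoped MatrixGroups

/-- `m ↦ m / α m` -/
def dd {M : Type*} [CommGroup M] (α : MulAut M) : M →* M := MonoidHom.id M / α.toMonoidHom

theorem dd_apply {M : Type*} [CommGroup M] (α : MulAut M) (m : M) : dd α m = m / α m := rfl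

theorem card_ker_mul {A B : Type*} [Group A] [Group B] (f : A →* B) :
    Nat.card f.ker * Nat.card f.range = Nat.card A := by
  rw [← index_ker, card_mul_index]

/-- Scott's inequality -/
theorem scott {M : Type*} [CommGroup M] [Finite M] {α β γ : MulAut M} (h : α * β * γ = 1)
    (irr : ∀ N : Subgroup M, (∀ m ∈ N, α m ∈ N) → (∀ m ∈ N, β m ∈ N) → N = ⊥ ∨ N = ⊤) (hβ : β ≠ 1) :
    Nat.card (dd α).ker * Nat.card (dd β).ker * Nat.card (dd γ).ker ≤ Nat.card M := by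
  let δ := (dd α).rangeRestrict.prod ((dd β).rangeRestrict.prod (dd γ).rangeRestrict)
  let ε : (dd α).range × (dd β).range × (dd γ).range →* M := (dd α).range.subtype.coprod
    ((α.toMonoidHom.comp (dd β).range.subtype).coprod ((α * β).toMonoidHom.comp (dd γ).range.subtype))
  have hb : ¬ ∀ m, dd β m = 1 := fun k => hβ (MulEquiv.ext fun m => (div_eq_one.1 (k m)).symm)
  have k0 : ∀ {φ : MulAut M} {m : M}, m ∈ (dd φ).ker → φ m = m := fun k => (div_eq_one.1 k).symm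
  have h1 : Function.Injective δ := (injective_iff_map_eq_one δ).2 fun m hm => by
    rcases irr ((dd α).ker ⊓ (dd β).ker) (fun m k => by rwa [k0 k.1]) (fun m k => by rwa [k0 k.2]) with k | k
    · exact mem_bot.1 (k.le (mem_inf.2 ⟨congrArg Subtype.val (congrArg Prod.fst hm),
        congrArg Subtype.val (congrArg Prod.fst (congrArg Prod.snd hm))⟩))
    · exact (hb fun m => (k.ge (mem_top m)).2).elim
  have ha : ∀ m, dd α m ∈ ε.range := fun m => ⟨(⟨_, m, rfl⟩, 1), by simp [ε]⟩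
  have hb' : ∀ m, dd β m ∈ ε.range := fun m => by
    have := mul_mem (ha (dd β m)) (show α (dd β m) ∈ ε.range from ⟨(1, ⟨_, m, rfl⟩, 1), by simp [ε]⟩)
    rwa [dd_apply, div_mul_cancel] at this
  have h2 : ε.range = ⊤ := (irr _ (fun m k => by simpa [dd_apply] using div_mem k (ha m))
    fun m k => by simpa [dd_apply] using div_mem k (hb' m)).resolve_left fun k => hb fun m => mem_bot.1 (k.le (hb' m))
  have h3 : Nat.card M ≤ Nat.card ε.ker := Nat.card_le_card_of_injective (δ.codRestrict ε.ker fun m => by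
    have e : α (β (γ m)) = m := DFunLike.congr_fun h m
    simp [δ, ε, dd_apply, e]) fun a b k => h1 (congrArg Subtype.val k)
  have h4 := card_ker_mul ε
  rw [h2, card_top, Nat.card_prod, Nat.card_prod] at h4
  have e1 := card_ker_mul (dd α)
  have e2 := card_ker_mul (dd β)
  have e3 := card_ker_mul (dd γ)
  have hp : 0 < Nat.card M := Nat.card_pos
  refine Nat.le_of_mul_le_mul_right (c := Nat.card M * Nat.card M) ?_ (by positivity)
  calc _ ≤ Nat.card (dd α).ker * Nat.card (dd β).ker * Nat.card (dd γ).ker * (Nat.card ε.ker * Nat.card M) := by gcongr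
    _ = (Nat.card (dd α).ker * Nat.card (dd α).range) * ((Nat.card (dd β).ker * Nat.card (dd β).range) *
        (Nat.card (dd γ).ker * Nat.card (dd γ).range)) := by rw [h4]; ring
    _ = _ := by rw [e1, e2, e3]

theorem triple_L7 : ∃ a y : L7, orderOf a = 2 ∧ orderOf y = 7 ∧ orderOf (a * y) = 3 := by
  let a : SL(2, ZMod 7) := ⟨!![0, 1; -1, 0], by decide⟩
  let y : SL(2, ZMod 7) := ⟨!![1, 1; 0, 1], by decide⟩
  have k : ∀ u v : SL(2, ZMod 7), v * u ≠ u * v → (u : L7) ≠ 1 := fun u v h e =>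
    h (mem_center_iff.1 ((QuotientGroup.eq_one_iff _).1 e) v)
  refine ⟨a, y, orderOf_eq_prime ?_ (k a y (by decide)), @orderOf_eq_prime _ _ _ 7 ⟨by norm_num⟩ ?_ (k y a (by decide)),
    orderOf_eq_prime ?_ (k (a * y) a (by decide))⟩
  · rw [← QuotientGroup.mk_pow, QuotientGroup.eq_one_iff, show a ^ 2 = -1 by decide]
    exact mem_center_iff.2 fun g => by simp
  · rw [← QuotientGroup.mk_pow, show y ^ 7 = 1 by decide, QuotientGroup.mk_one]
  · rw [← QuotientGroup.mk_mul, ← QuotientGroup.mk_pow, show (a * y) ^ 3 = 1 by decide, QuotientGroup.mk_one]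

theorem triple_L7' {x : L7} (hx : orderOf x = 3) :
    ∃ a y : L7, orderOf a = 2 ∧ orderOf y = 7 ∧ orderOf (a * y) = 3 ∧ x ∈ 𝒩(zpowers y) := by
  have := simple_L7
  obtain ⟨a, y, h1, h2, h3⟩ := triple_L7
  obtain ⟨x0, h0⟩ := exists_prime_orderOf_dvd_card' (G := 𝒩(zpowers y)) 3 (by rw [O168.n7 card_L7 h2]; norm_num)
  obtain ⟨k, rfl⟩ := isConj_iff.1 (O168.conj3 card_L7 (x0 : L7) x (by rw [orderOf_coe, h0]) hx)
  refine ⟨k * a * k⁻¹, k * y * k⁻¹, by rwa [orderOf_conj], by rwa [orderOf_conj],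
    by rwa [conj_mul, orderOf_conj], ?_⟩
  rw [← cj_zpowers, ← cj_norm, conj_mem_cj]
  exact x0.2

variable {Y : Type*} [Group Y] [Finite Y] {π : Y →* L7} {x y a g g' : Y} {N : Subgroup Y}

omit [Finite Y] in
theorem eq_one_of_odd (h : IsPGroup 2 N) (hg : g ∈ N) {n : ℕ} (hn : Odd n) (e : g ^ n = 1) : g = 1 := by
  obtain ⟨k, hk⟩ := h ⟨g, hg⟩
  simpa [(hn.coprime_two_right.pow_right k).gcd_eq_one] using
    pow_gcd_eq_one.2 ⟨e, congrArg Subtype.val hk⟩

omit [Finite Y] in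
theorem orderOf_map_prime {A : Type*} [Group A] (f : Y →* A) {p : ℕ} (hp : p.Prime) (hg : orderOf g = p)
    (h : f g ≠ 1) : orderOf (f g) = p :=
  @orderOf_eq_prime _ _ _ p ⟨hp⟩ (by rw [← map_pow, ← hg, pow_orderOf_eq_one, map_one]) h

/-- an extension of a 2-group by `L₃(2)` with a subgroup `⟨y⟩⟨x⟩` of order 21 -/
structure MD (π : Y →* L7) (x y a : Y) : Prop where
  surj : Function.Surjective π
  pg : IsPGroup 2 π.ker
  x3 : orderOf x = 3
  y7 : orderOf y = 7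
  nrm : x ∈ 𝒩(zpowers y)
  a2 : orderOf (π a) = 2
  ay : orderOf (π (a * y)) = 3

theorem exists_MD (hs : Function.Surjective π) (hQ : IsPGroup 2 π.ker) (hx : orderOf x = 3) :
    ∃ y a, MD π x y a := by
  have x1 : π x ≠ 1 := fun e => by
    simp [eq_one_of_odd hQ e (n := 3) (by decide) (hx ▸ pow_orderOf_eq_one x)] at hx
  obtain ⟨a, y, h1, h2, h3, h4⟩ := triple_L7' (orderOf_map_prime π Nat.prime_three hx x1)
  obtain ⟨a, rfl⟩ := hs a
  obtain ⟨k, hk⟩ := pgroup_card Nat.prime_two hQ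
  have hc : Nat.card ((zpowers y).comap π) = 7 * 2 ^ k := by
    rw [← Core.card_map_mul_card_inf_ker π, map_comap_eq_self_of_surjective hs, inf_eq_right.2 (ker_le_comap π _),
      Nat.card_zpowers, h2, hk]
  obtain ⟨P, hP, xP⟩ := coprime_Sylow_exists (p := 7) (A := zpowers x) (M := (zpowers y).comap π) (by norm_num)
    (zpowers_le.2 (le_normalizer_comap π h4))
    (by rw [hc, Nat.card_zpowers, hx]; exact Nat.Coprime.mul_left (by norm_num) (Nat.Coprime.pow_left _ (by norm_num)))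
    (Or.inl (Coprime.isSolvable_zpowers x))
  have c7 : Nat.card P = 7 := by
    rw [card_Sylow (by norm_num) hP, hc, Nat.factorization_mul (by norm_num) (by positivity), Nat.factorization_pow]
    simp [Nat.Prime.factorization (by norm_num : Nat.Prime 7), Nat.prime_two.factorization]
  have hd : P ⊓ π.ker = ⊥ := eq_bot_iff.2 fun u hu => eq_one_of_odd hQ hu.2 (n := 7) (by decide)
    (congrArg Subtype.val (c7 ▸ pow_card_eq_one' (x := (⟨u, hu.1⟩ : P))))
  have hm : P.map π = zpowers y := eq_of_le_of_card_ge (map_le_iff_le_comap.2 (pHall_sub hP)) (by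
    have := Core.card_map_mul_card_inf_ker π P
    rw [hd, card_bot, c7] at this
    rw [Nat.card_zpowers]; omega)
  obtain ⟨y, yP, rfl⟩ := hm.ge (mem_zpowers y)
  have y7 : orderOf y = 7 := @orderOf_eq_prime _ _ _ 7 ⟨by norm_num⟩
    (congrArg Subtype.val (c7 ▸ pow_card_eq_one' (x := (⟨y, yP⟩ : P)))) fun e => by simp [e] at h2
  have : zpowers y = P := eq_of_le_of_card_ge (zpowers_le.2 yP) (by rw [Nat.card_zpowers]; omega)
  exact ⟨y, a, hs, hQ, hx, y7, this ▸ xP (mem_zpowers x), h1, by rwa [map_mul]⟩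

namespace MD

variable (m : MD π x y a)
include m

omit [Finite Y] in
theorem x1 : π x ≠ 1 := fun e => by
  simpa [eq_one_of_odd m.pg e (n := 3) (by decide) (m.x3 ▸ pow_orderOf_eq_one x)] using m.x3

omit [Finite Y] in
theorem y1 : π y ≠ 1 := fun e => by
  simpa [eq_one_of_odd m.pg e (n := 7) (by decide) (m.y7 ▸ pow_orderOf_eq_one y)] using m.y7

omit [Finite Y] in
theorem big [hN : N.Normal] (hg : g ∈ N) (h1 : π g ≠ 1) : x ∈ N := by
  have := simple_L7
  have ht := ((hN.map π m.surj).eq_bot_or_eq_top).resolve_left fun e => h1 (mem_bot.1 (e.le ⟨g, hg, rfl⟩))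
  obtain ⟨n, hn, e⟩ := ht.ge (mem_top (π x))
  obtain ⟨k, hk⟩ := m.pg ⟨n⁻¹ * x, by simp [MonoidHom.mem_ker, e]⟩
  have h2 : (x : Y ⧸ N) ^ 2 ^ k = 1 := by
    have := congrArg (fun t : π.ker => ((t : Y) : Y ⧸ N)) hk
    simpa [(QuotientGroup.eq_one_iff n).2 hn] using this
  have h3 : (x : Y ⧸ N) ^ 3 = 1 := by rw [← QuotientGroup.mk_pow, ← m.x3, pow_orderOf_eq_one, QuotientGroup.mk_one]
  simpa [(Nat.Coprime.pow_right k (by norm_num : Nat.Coprime 3 2)).gcd_eq_one] using pow_gcd_eq_one.2 ⟨h3, h2⟩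

theorem frob : Frob (zpowers y) (zpowers x) (zpowers y ⊔ zpowers x) := by
  have := simple_L7
  refine prime_Frobenius (sdprodY (zpowers_le.2 m.nrm) (disjoint_of_coprime_natCard ?_).eq_bot) (fun e => m.y1 ?_) ?_
    (eq_bot_iff.2 fun u hu => ?_)
  · rw [Nat.card_zpowers, Nat.card_zpowers, m.x3, m.y7]; norm_num
  · rw [zpowers_eq_bot.1 e, map_one]
  · rw [Nat.card_zpowers, m.x3]; norm_num
  have u7 : u ^ 7 = 1 := congrArg Subtype.val ((Nat.card_zpowers y).trans m.y7 ▸ pow_card_eq_one' (x := (⟨u, hu.1⟩ : zpowers y)))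
  have h1 : π u ∈ 𝒞[π x] := mem_cent1.2 (by rw [← map_mul, ← map_mul, mem_cent1.1 (cent_zpowers x ▸ hu.2)])
  have u3 : π u ^ 3 = 1 := congrArg Subtype.val (O168.c3 card_L7 (orderOf_map_prime π Nat.prime_three m.x3 m.x1) ▸
    pow_card_eq_one' (x := (⟨_, h1⟩ : 𝒞[π x])))
  exact eq_one_of_odd m.pg (by simpa using pow_gcd_eq_one.2 ⟨u3, (by rw [← map_pow, u7, map_one] : π u ^ 7 = 1)⟩)
    (by decide) u7

theorem wiel [N.Normal] (hN : N ≤ π.ker) :
    Nat.card ↥(N ⊓ 𝒞(zpowers y ⊔ zpowers x)) ^ 3 * Nat.card N = Nat.card ↥(N ⊓ 𝒞[x]) ^ 3 * Nat.card ↥(N ⊓ 𝒞[y]) ∧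
      (N ⊓ 𝒞[x] = ⊥ → y ∈ 𝒞(N)) := by
  have h2 := m.pg.to_le hN
  obtain ⟨k, hk⟩ := pgroup_card Nat.prime_two h2
  have := Frobenius_Wielandt_fixpoint (M := N) m.frob (normalizer_eq_top N ▸ le_top) (by
    rw [← m.frob.sdprod.card, Nat.card_zpowers, Nat.card_zpowers, m.x3, m.y7, hk]
    exact Nat.Coprime.pow_left _ (by norm_num)) (pgroup_sol Nat.prime_two h2)
  rw [cent_zpowers, cent_zpowers, Nat.card_zpowers, m.x3, zpowers_le] at this
  exact ⟨this.1, this.2.1⟩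

theorem c1 [N.Normal] (hN : N ≤ π.ker) (h : N ⊓ 𝒞[x] = ⊥) : N = ⊥ :=
  (inf_eq_left.2 (sub_cent1.2 (m.big ((m.wiel hN).2 h) m.y1))).symm.trans h

omit [Finite Y] in
theorem quot [N.Normal] (hN : N ≤ π.ker) : MD (QuotientGroup.lift N π hN) (x : Y ⧸ N) y a := by
  refine ⟨fun b => ?_, QuotientGroup.ker_lift N π hN ▸ m.pg.map _,
    orderOf_map_prime (QuotientGroup.mk' N) Nat.prime_three m.x3 fun e => m.x1 (hN ((QuotientGroup.eq_one_iff _).1 e)),
    orderOf_map_prime (QuotientGroup.mk' N) (by norm_num) m.y7 fun e => m.y1 (hN ((QuotientGroup.eq_one_iff _).1 e)),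
    ?_, m.a2, m.ay⟩
  · obtain ⟨b, rfl⟩ := m.surj b
    exact ⟨b, rfl⟩
  · have := le_normalizer_map (QuotientGroup.mk' N) ⟨x, m.nrm, rfl⟩
    rwa [MonoidHom.map_zpowers] at this

theorem fixq [N.Normal] (hN : N ≤ π.ker) :
    (QuotientGroup.lift N π hN).ker ⊓ 𝒞[(x : Y ⧸ N)] = (π.ker ⊓ 𝒞[x]).map (QuotientGroup.mk' N) := by
  obtain ⟨k, hk⟩ := pgroup_card Nat.prime_two (m.pg.to_le (inf_le_left : π.ker ⊓ (QuotientGroup.mk' N).ker ≤ _))
  have := Coprime.map_inf_centralizer (QuotientGroup.mk' N) (K := π.ker) (A := zpowers x) (normalizer_eq_top π.ker ▸ le_top)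
    (by rw [hk, Nat.card_zpowers, m.x3]; exact Nat.Coprime.pow_right _ (by norm_num)) (Or.inl (Coprime.isSolvable_zpowers x))
  rw [MonoidHom.map_zpowers, cent_zpowers, cent_zpowers] at this
  rw [this, QuotientGroup.ker_lift]; rfl

theorem cardq [N.Normal] (hN : N ≤ π.ker) :
    Nat.card (QuotientGroup.lift N π hN).ker * Nat.card N = Nat.card π.ker ∧
    Nat.card ↥((QuotientGroup.lift N π hN).ker ⊓ 𝒞[(x : Y ⧸ N)]) * Nat.card ↥(N ⊓ 𝒞[x]) = Nat.card ↥(π.ker ⊓ 𝒞[x]) := by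
  rw [m.fixq, QuotientGroup.ker_lift, ← Core.card_map_mul_card_inf_ker (QuotientGroup.mk' N) π.ker,
    ← Core.card_map_mul_card_inf_ker (QuotientGroup.mk' N) (π.ker ⊓ 𝒞[x]), QuotientGroup.ker_mk', inf_right_comm,
    inf_eq_right.2 hN]
  exact ⟨rfl, rfl⟩

theorem c1' [N.Normal] (hN : N ≤ π.ker) (h : π.ker ⊓ 𝒞[x] ≤ N) : N = π.ker := by
  have := (m.quot hN).c1 le_rfl (by rwa [m.fixq, Subgroup.map_eq_bot_iff, QuotientGroup.ker_mk'])
  rw [QuotientGroup.ker_lift, Subgroup.map_eq_bot_iff, QuotientGroup.ker_mk'] at this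
  exact le_antisymm hN this

theorem irr (h2 : Nat.card ↥(π.ker ⊓ 𝒞[x]) = 2) [N.Normal] (hN : N ≤ π.ker) : N = ⊥ ∨ N = π.ker := by
  refine or_iff_not_imp_left.2 fun h => m.c1' hN ((eq_of_le_of_card_ge (inf_le_inf_right 𝒞[x] hN) ?_).ge.trans inf_le_left)
  exact h2.trans_le ((one_lt_card_iff_ne_bot _).2 fun e => h (m.c1 hN e))

omit [Finite Y] in
theorem card_fix_conj (hab : π.ker ≤ 𝒞(π.ker)) (h : IsConj (π g) (π g')) :
    Nat.card ↥(π.ker ⊓ 𝒞[g]) = Nat.card ↥(π.ker ⊓ 𝒞[g']) := by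
  obtain ⟨k, hk⟩ := isConj_iff.1 h
  obtain ⟨k, rfl⟩ := m.surj k
  have hq : (k * g * k⁻¹)⁻¹ * g' ∈ π.ker := by simp [MonoidHom.mem_ker, ← hk, mul_assoc]
  rw [← card_cj k, cj_inf, cj_cent1, cj_eq_of_mem_norm (normalizer_eq_top π.ker ▸ mem_top k)]
  congr 2
  refine le_antisymm (fun u hu => ⟨hu.1, cent1C.1 ?_⟩) fun u hu => ⟨hu.1, cent1C.1 ?_⟩
  · simpa [mul_assoc] using mul_mem (cent1C.1 hu.2) (inv_mem (cent_le_cent1 hu.1 (hab hq)))
  · simpa [mul_assoc] using mul_mem (cent1C.1 hu.2) (cent_le_cent1 hu.1 (hab hq))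

omit [Finite Y] in
theorem eq_top {H : Subgroup Y} (hH : π.ker ≤ H) (ha : a ∈ H) (hy : y ∈ H) : H = ⊤ := by
  have := simple_L7
  rw [← comap_map_eq_self hH, show H.map π = ⊤ from by_contra fun e => ?_, comap_top]
  have h1 := O168.le24 card_L7 e
  have h2 := m.a2 ▸ orderOf_dvd_natCard _ (mem_map_of_mem π ha)
  have h3 := m.ay ▸ orderOf_dvd_natCard _ (mem_map_of_mem π (mul_mem ha hy))
  have h4 := orderOf_map_prime π (by norm_num) m.y7 m.y1 ▸ orderOf_dvd_natCard _ (mem_map_of_mem π hy)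
  have h5 : 0 < Nat.card (H.map π) := Nat.card_pos
  omega

omit m [Finite Y] in
theorem abelian (he : ∀ q ∈ N, q * q = 1) : N ≤ 𝒞(N) := fun u hu => mem_cent_iff.2 fun v hv => by
  rw [← inv_eq_of_mul_eq_one_right (he _ (mul_mem hv hu)), mul_inv_rev, inv_eq_of_mul_eq_one_right (he _ hu),
    inv_eq_of_mul_eq_one_right (he _ hv)]

theorem scott (he : ∀ q ∈ π.ker, q * q = 1) (h2 : Nat.card ↥(π.ker ⊓ 𝒞[x]) = 2) (hy : y ∉ 𝒞(π.ker)) :
    ∃ f, Nat.card π.ker ≤ f * f ∧ f * Nat.card ↥(π.ker ⊓ 𝒞[y]) * 2 ≤ Nat.card π.ker := by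
  have := simple_L7
  have hab := abelian he
  let _ : CommGroup π.ker := { (inferInstance : Group π.ker) with
    mul_comm := fun u v => Subtype.ext (mem_cent_iff.1 (hab v.2) u u.2) }
  have hf : ∀ g : Y, Nat.card (dd (MulAut.conjNormal g : MulAut π.ker)).ker = Nat.card ↥(π.ker ⊓ 𝒞[g]) := fun g => by
    rw [inf_comm, ← subgroupOf_map_subtype, card_map_of_injective (subtype_injective _)]
    congr 2; ext u
    simp [dd_apply, div_eq_one, mem_subgroupOf, mem_cent1, Subtype.ext_iff, eq_mul_inv_iff_mul_eq]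
  have h1 := C3.scott (α := (MulAut.conjNormal a : MulAut π.ker)) (β := MulAut.conjNormal y)
    (γ := MulAut.conjNormal (a * y)⁻¹) (by rw [← map_mul, ← map_mul, mul_inv_cancel, map_one]) (fun N k1 k2 => by
      have k : ∀ g : Y, (∀ u ∈ N, MulAut.conjNormal g u ∈ N) → g ∈ 𝒩(N.map π.ker.subtype) := fun g k =>
        mem_norm_of_cj_le (cj_le_iff.2 (by rintro _ ⟨u, hu, rfl⟩; exact ⟨_, k u hu, rfl⟩))
      have := normalizer_eq_top_iff.1 (m.eq_top (sub_abelian_norm (abelian_iff.2 hab) (map_subtype_le N)) (k a k1) (k y k2))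
      refine (m.irr h2 (map_subtype_le N)).imp (fun e => ?_) fun e => ?_
      · exact (map_eq_bot_iff_of_injective N (subtype_injective _)).1 e
      · exact map_injective (subtype_injective _) (by rw [e, ← MonoidHom.range_eq_map, range_subtype]))
    fun e => hy (mem_cent_iff.2 fun u hu => by
      exact (mul_inv_eq_iff_eq_mul.1 (congrArg Subtype.val (DFunLike.congr_fun e ⟨u, hu⟩))).symm)
  rw [hf y, hf (a * y)⁻¹, m.card_fix_conj hab (O168.conj3 card_L7 (π (a * y)⁻¹) (π x) (by rw [map_inv, orderOf_inv, m.ay])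
    (orderOf_map_prime π Nat.prime_three m.x3 m.x1)), h2] at h1
  refine ⟨_, ?_, h1⟩
  rw [← card_ker_mul (dd (MulAut.conjNormal a : MulAut π.ker))]
  refine Nat.mul_le_mul_left _ (Subgroup.card_le_of_le ?_)
  rintro _ ⟨u, rfl⟩
  have e : MulAut.conjNormal a (MulAut.conjNormal a u) = u := Subtype.ext (by
    have := mem_cent_iff.1 (hab (show a * a ∈ π.ker by
      rw [MonoidHom.mem_ker, map_mul, ← pow_two]; exact orderOf_dvd_iff_pow_eq_one.1 m.a2.dvd)) u u.2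
    simp only [MulAut.conjNormal_apply]
    rw [show a * (a * u * a⁻¹) * a⁻¹ = a * a * u * (a * a)⁻¹ by group, ← this, mul_inv_cancel_right])
  rw [MonoidHom.mem_ker, dd_apply, dd_apply, map_div, e, div_eq_one, ← inv_div, inv_eq_iff_mul_eq_one]
  exact Subtype.ext (he _ (Subtype.prop _))

theorem m1 (h : Cl Y) (he : ∀ q ∈ π.ker, q * q = 1) (h2 : Nat.card ↥(π.ker ⊓ 𝒞[x]) = 2) :
    π.ker ≤ 𝒞[x] ∨ (Nat.card π.ker = 8 ∧ π.ker ⊓ 𝒞[y] = ⊥) := by
  refine or_iff_not_imp_left.2 fun hx => ?_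
  have hy : y ∉ 𝒞(π.ker) := fun e => hx (sub_cent1.2 (m.big e m.y1))
  obtain ⟨f, h3, h4⟩ := m.scott he h2 hy
  have h5 := (m.wiel le_rfl).1
  have h6 := h.card_mod (R := π.ker) m.x3 (normalizer_eq_top π.ker ▸ mem_top x)
  have h7 : Nat.card ↥(π.ker ⊓ 𝒞[y]) < Nat.card π.ker := lt_of_not_ge fun e =>
    hy (sub_cent1.1 ((eq_of_le_of_card_ge inf_le_left e).ge.trans inf_le_right))
  have h8 : Nat.card ↥(π.ker ⊓ 𝒞(zpowers y ⊔ zpowers x)) ≤ 2 :=
    (Subgroup.card_le_of_le (inf_le_inf_left _ (cent_zpowers x ▸ centS le_sup_right))).trans h2.le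
  have h9 : 0 < Nat.card ↥(π.ker ⊓ 𝒞(zpowers y ⊔ zpowers x)) := Nat.card_pos
  have h0 : 0 < Nat.card ↥(π.ker ⊓ 𝒞[y]) := Nat.card_pos
  rw [← card_eq_one]
  rw [h2, Nat.ModEq] at h6
  rw [h2] at h5
  generalize Nat.card ↥(π.ker ⊓ 𝒞(zpowers y ⊔ zpowers x)) = c at *
  generalize Nat.card ↥(π.ker ⊓ 𝒞[y]) = d at *
  have f4 : f ≤ 4 := by interval_cases c <;> nlinarith
  have : f * f ≤ 4 * 4 := Nat.mul_le_mul f4 f4
  interval_cases c <;> omega

theorem m1' (h : Cl Y) (he : ∀ q ∈ π.ker, q * q = 1) (h2 : Nat.card ↥(π.ker ⊓ 𝒞[x]) = 2) (hg : g ∈ π.ker) :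
    ∃ k, k * g * k⁻¹ ∈ π.ker ⊓ 𝒞[x] := by
  rcases m.m1 h he h2 with h3 | ⟨h3, h4⟩
  · exact ⟨1, by simpa using ⟨hg, h3 hg⟩⟩
  obtain rfl | g1 := eq_or_ne g 1
  · exact ⟨1, by simp⟩
  obtain ⟨⟨v, hv⟩, v1⟩ := ne_bot_iff_exists_ne_one.1 ((one_lt_card_iff_ne_bot _).1 (h2.symm ▸ one_lt_two))
  have sr := prime_semiregular (K := π.ker) (H := zpowers y) (by rw [Nat.card_zpowers, m.y7]; norm_num) (by rwa [cent_zpowers])
  let φ : Option (zpowers y) → π.ker := fun o => o.elim 1 fun u => MulAut.conjNormal (u : Y) ⟨g, hg⟩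
  have hφ : Function.Injective φ := by
    rintro (_ | u) (_ | w) e
    · rfl
    · exact (g1 (by simpa [φ, Subtype.ext_iff] using e.symm)).elim
    · exact (g1 (by simpa [φ, Subtype.ext_iff] using e)).elim
    · refine congrArg _ (by_contra fun k => g1 (mem_bot.1 ((sr _ (w⁻¹ * u).2 fun k' => k ?_).le ⟨hg, mem_cent1.2 ?_⟩)))
      · exact (inv_mul_eq_one.1 (Subtype.ext k')).symm
      · have : (u : Y) * g * (u : Y)⁻¹ = w * g * (w : Y)⁻¹ := congrArg Subtype.val e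
        rw [coe_mul, coe_inv, show g * ((w : Y)⁻¹ * u) = (w : Y)⁻¹ * (w * g * (w : Y)⁻¹) * u by group, ← this]; group
  obtain ⟨_ | u, e⟩ := (hφ.bijective_of_nat_card_le (by rw [Finite.card_option, Nat.card_zpowers, m.y7, h3])).2 ⟨v, hv.1⟩
  · exact (v1 (Subtype.ext (congrArg Subtype.val e).symm)).elim
  · exact ⟨u, (show (u : Y) * g * (u : Y)⁻¹ = v from congrArg Subtype.val e) ▸ hv⟩

end MD

end CfsgLib.C3
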