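import Cfsg.Agent.Lib.C3.PGL
import Cfsg.Agent.S0336
import Cfsg.Agent.Lib.CIT.AppEPPO
import Cfsg.Agent.Lib.TwoGrp.Pres

/-! Package ST: the structure of an arbitrary member of the class.  See `plans/C3.md`. -/

set_option autoImplicit false

namespace CfsgLib.C3

open Cfsg CfsgLib.BG Subgroup
open scoped MatrixGroups

universe u

theorem st_aux35 (n : ℕ) : ∀ (Y : Type u) [Group Y] [Finite Y], Nat.card Y = n → ¬ 3 ∣ Nat.card Y →
    ¬ 5 ∣ Nat.card Y → Group.IsSolvable Y := by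
  induction n using Nat.strong_induction_on with
  | _ n ih =>
  intro Y _ _ hn h3 h5
  by_cases hex : ∃ N : Subgroup Y, N.Normal ∧ N ≠ ⊥ ∧ N ≠ ⊤
  · obtain ⟨N, _, h1, h2⟩ := hex
    have := ih _ (hn ▸ Core.card_lt_of_ne_top h2) N rfl
      (fun e => h3 (e.trans (card_subgroup_dvd_card N))) fun e => h5 (e.trans (card_subgroup_dvd_card N))
    have := ih _ (hn ▸ Core.card_quotient_lt_of_ne_bot h1) (Y ⧸ N) rfl
      (fun e => h3 (e.trans (card_quotient_dvd_card N))) fun e => h5 (e.trans (card_quotient_dvd_card N))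
    exact Group.isSolvable_of_ker_le_range N.subtype (QuotientGroup.mk' N) (by simp)
  rcases subsingleton_or_nontrivial Y with h0 | h0
  · infer_instance
  have : IsSimpleGroup Y := ⟨fun N hN => by_contra fun e =>
    hex ⟨N, hN, fun e' => e (Or.inl e'), fun e' => e (Or.inr e')⟩⟩
  by_contra hs
  obtain ⟨-, m, -, hm⟩ := Cfsg.Agent.S0336.result (G := Y) (by
    by_contra hc
    push Not at hc
    exact hs (Group.isSolvable_of_comm hc)) h3
  exact h5 (hm ▸ ((CIT.App.five_dvd_sz m).mul_left _).mul_right _)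

theorem solvable_of_35 {Y : Type*} [Group Y] [Finite Y] (h3 : ¬ 3 ∣ Nat.card Y)
    (h5 : ¬ 5 ∣ Nat.card Y) : Group.IsSolvable Y := st_aux35 _ Y rfl h3 h5

theorem st_norm3 {G : Type*} [Group G] [Finite G] {x y : G} (hx : orderOf x = 3)
    (hy : y ∈ zpowers x) (h3 : orderOf y = 3) : y = x ∨ y = x⁻¹ := by
  obtain ⟨k, rfl⟩ := (mem_powers_iff_mem_zpowers.2 hy)
  have e : x ^ k = x ^ (k % 3) := by rw [← hx, pow_mod_orderOf]
  have : k % 3 = 0 ∨ k % 3 = 1 ∨ k % 3 = 2 := by omega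
  simp only [e] at h3 ⊢
  rcases this with h0 | h0 | h0 <;> rw [h0] at h3 ⊢
  · simp at h3
  · exact Or.inl (pow_one x)
  · exact Or.inr (eq_inv_of_mul_eq_one_left (by
      rw [← pow_succ]; exact orderOf_dvd_iff_pow_eq_one.1 hx.dvd))

theorem st_inv_ne {G : Type*} [Group G] {x : G} (hx : orderOf x = 3) : x⁻¹ ≠ x := fun e => by
  have : orderOf x ∣ 2 := orderOf_dvd_of_pow_eq_one (by rw [pow_two]; nth_rw 1 [← e]; simp)
  rw [hx] at this
  omega

theorem st_nine {G : Type*} [Group G] [Finite G] (h9 : ¬ 9 ∣ Nat.card G) {H K : Subgroup G}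
    [K.Normal] (hH : 3 ∣ Nat.card H) (hK : 3 ∣ Nat.card K) : H ⊓ K ≠ ⊥ := fun e => by
  have := Core.card_sup_mul_card_inf_of_normal H K
  rw [e, card_bot, mul_one] at this
  exact h9 ((this ▸ mul_dvd_mul hH hK : 3 * 3 ∣ _).trans (card_subgroup_dvd_card _))

theorem st_three {G : Type*} [Group G] [Finite G] (hO : pPrimeCore 3 G = ⊥) {N : Subgroup G}
    [N.Normal] (h1 : N ≠ ⊥) : 3 ∣ Nat.card N := by_contra fun e => h1 (le_bot_iff.1
  (hO ▸ Core.le_pPrimeCore ((Nat.Prime.coprime_iff_not_dvd Nat.prime_three).2 e).symm))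

theorem st_simple {G : Type*} [Group G] [Finite G] (h9 : ¬ 9 ∣ Nat.card G)
    (hO : pPrimeCore 3 G = ⊥) {M : Subgroup G} [M.Normal] (m1 : M ≠ ⊥)
    (hmin : ∀ K : Subgroup G, K.Normal → K ≤ M → K = ⊥ ∨ K = M) : IsSimpleGroup M := by
  have := (nontrivial_iff_ne_bot M).2 m1
  have hM : pPrimeCore 3 M = ⊥ := (map_eq_bot_iff_of_injective _ M.subtype_injective).1
    (le_bot_iff.1 (hO ▸ Core.map_pPrimeCore_le_of_normal M))
  refine ⟨fun K hK => or_iff_not_imp_left.2 fun k1 => ?_⟩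
  obtain ⟨L, hL, l1, hLK, hLmin⟩ := Core.exists_minimal_normal_le k1
  have : (L.map M.subtype).Normal := ⟨by
    rintro _ ⟨x, hx, rfl⟩ g
    rcases hLmin _ inferInstance (inf_le_left (b := L.comap (MulAut.conjNormal g).toMonoidHom)) with
      e | e
    · refine absurd e (st_nine (fun e => h9 (e.trans (card_subgroup_dvd_card M))) (st_three hM l1)
        (st_three hM fun e' => l1 ?_))
      rw [← map_comap_eq_self_of_surjective (f := (MulAut.conjNormal (H := M) g).toMonoidHom)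
        (MulAut.conjNormal g).surjective L, e', Subgroup.map_bot]
    · exact ⟨_, (e.ge hx).2, rfl⟩⟩
  rcases hmin _ this (map_subtype_le L) with e | e
  · exact absurd ((map_eq_bot_iff_of_injective _ M.subtype_injective).1 e) l1
  · refine top_le_iff.1 fun x _ => hLK ?_
    obtain ⟨y, hy, e'⟩ := e.ge x.2
    exact (Subtype.ext e' : y = x) ▸ hy

theorem st_of {Y : Type u} [Group Y] [Finite Y] (hY : Cl Y)
    (ih : ∀ (A : Type u) [Group A] [Finite A], Nat.card A ≤ Nat.card Y → Cl A → IsSimpleGroup A →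
      ¬ IsMulCommutative A → Sm A) : ST Y := by
  have hK := solvable_of_35 (Core.not_dvd_card_pPrimeCore Nat.prime_three Y)
    fun e => hY.h5 (e.trans (card_subgroup_dvd_card _))
  have hQ := hY.of_surj _ (QuotientGroup.mk'_surjective (pPrimeCore 3 Y))
  have hO := Core.pPrimeCore_quotient_pPrimeCore 3 Y
  have key : Nat.card (Y ⧸ pPrimeCore 3 Y) ∣ 6 →
      Group.IsSolvable Y ∧ (pPrimeCore 3 Y).index ∣ 6 := fun h6 => by
    have := IsZGroup.of_squarefree (Squarefree.squarefree_of_dvd h6 (by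
      rw [show 6 = 2 * 3 from rfl, Nat.squarefree_mul (by norm_num)]
      exact ⟨Nat.prime_two.prime.squarefree, Nat.prime_three.prime.squarefree⟩))
    exact ⟨Group.isSolvable_of_ker_le_range (pPrimeCore 3 Y).subtype (QuotientGroup.mk' (pPrimeCore 3 Y))
      (by simp), h6⟩
  refine ⟨hK, ?_⟩
  rcases subsingleton_or_nontrivial (Y ⧸ pPrimeCore 3 Y) with h0 | h0
  · exact Or.inl (key (by rw [Nat.card_of_subsingleton 1]; norm_num))
  obtain ⟨M, hM, m1, -, hmin⟩ := Core.exists_minimal_normal_le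
    (K := (⊤ : Subgroup (Y ⧸ pPrimeCore 3 Y))) top_ne_bot
  have hs := st_simple hQ.h9 hO m1 hmin
  have h3 := st_three hO m1
  by_cases hc : IsMulCommutative M
  · refine Or.inl (key ?_)
    obtain ⟨x, hxM, hx⟩ := Core.exists_mem_orderOf_eq_of_dvd_card Nat.prime_three h3
    have := Group.isSolvable_of_comm hc.1.1
    have hx' : zpowers x = M := eq_of_le_of_card_ge (zpowers_le.2 hxM) (by
      rw [Nat.card_zpowers, hx]
      exact ((Nat.prime_dvd_prime_iff_eq Nat.prime_three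
        Core.card_prime_of_isSimpleGroup_of_isSolvable).1 h3).ge)
    have hg : ∀ g, g * x * g⁻¹ = x ∨ g * x * g⁻¹ = x⁻¹ := fun g =>
      st_norm3 hx (hx' ▸ hM.conj_mem x hxM g) ((Invol.orderOf_conj g x).trans hx)
    have hV : (V x).Normal := ⟨fun v hv g => by
      have : cj g (V x) = V x := by
        rw [cj_V]
        rcases hg g with e | e <;> rw [e]
        exact V_inv x
      rw [← this]
      exact mem_cj'.2 ⟨v, hv, rfl⟩⟩
    have hV1 : V x = ⊥ := by_contra fun e => absurd ((st_three hO e).trans (hQ.card_V hx)) (by norm_num)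
    have h2 : (𝒞[x]).index ∣ 2 := index_dvd_two_iff.2 (by
      by_cases hj : ∃ j, j * x * j⁻¹ = x⁻¹
      · obtain ⟨j, hj⟩ := hj
        refine ⟨j, fun b => (hg b).symm.imp (fun e => mem_cent1.2 ?_) fun e =>
          mem_cent1.2 (mul_inv_eq_iff_eq_mul.1 e)⟩
        calc _ = b * (j * x * j⁻¹) * b⁻¹ * (b * j) := by group
          _ = _ := by rw [hj, ← conj_inv, e, inv_inv]
      · exact ⟨1, fun b => Or.inr (mem_cent1.2 (mul_inv_eq_iff_eq_mul.1
          ((hg b).resolve_right fun e => hj ⟨b, e⟩)))⟩)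
    rw [← (𝒞[x]).card_mul_index, hQ.card_cent hx, hV1, card_bot]
    exact mul_dvd_mul_left (3 * 1) h2
  · refine Or.inr ⟨M, hM, ih M ((Nat.le_of_dvd Nat.card_pos (card_subgroup_dvd_card M)).trans
      (Nat.le_of_dvd Nat.card_pos (card_quotient_dvd_card _))) (hQ.sub M) hs hc, ?_⟩
    by_contra e
    refine st_nine hQ.h9 (st_three hO e) h3 ?_
    rcases hmin _ inferInstance (inf_le_right (a := 𝒞(M))) with e | e
    · exact e
    · exact absurd ⟨⟨fun a b => Subtype.ext ((e.ge b.2).1 a a.2)⟩⟩ hc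

theorem st_card_cent {G G' : Type*} [Group G] [Group G'] (e : G ≃* G') (x : G) :
    Nat.card 𝒞[x] = Nat.card 𝒞[e x] :=
  Nat.card_congr (e.toEquiv.subtypeEquiv fun a => by
    rw [mem_cent1, mem_cent1, MulEquiv.toEquiv_eq_coe, EquivLike.coe_coe, ← map_mul, ← map_mul,
      e.apply_eq_iff_eq])

theorem Sm.not_twelve {G : Type*} [Group G] (h : Sm G) {x : G} (hx : orderOf x = 3) :
    Nat.card 𝒞[x] ≠ 12 := by
  rcases h with ⟨⟨e⟩⟩ | ⟨⟨e⟩⟩ <;> rw [st_card_cent e]
  · rw [cent3_L7 ((e.orderOf_eq x).trans hx)]; norm_num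
  · rw [cent3_L13 ((e.orderOf_eq x).trans hx)]; norm_num

/-- the class from one element of order three -/
theorem cl_of {G : Type*} [Group G] [Finite G] (h5 : ¬ 5 ∣ Nat.card G) {x : G}
    (hx : orderOf x = 3) (hC : Nat.card 𝒞[x] = 12)
    (hCab : ∀ a ∈ 𝒞[x], ∀ b ∈ 𝒞[x], a * b = b * a) (hCexp : ∀ a ∈ 𝒞[x], a ^ 6 = 1) : Cl G := by
  have := Fact.mk Nat.prime_three
  have x1 : x ≠ 1 := fun e => by rw [e, orderOf_one] at hx; omega
  have hp : ∀ y : G, orderOf y = 3 → IsPGroup 3 (zpowers y) := fun y hy =>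
    IsPGroup.of_card (n := 1) (by rw [Nat.card_zpowers, hy, pow_one])
  obtain ⟨P, hP⟩ := (hp x hx).exists_le_sylow
  have h1 : zpowers x = (P : Subgroup G) ⊓ 𝒞[x] := by
    refine eq_of_le_of_card_ge (le_inf hP (zpowers_le.2 (mem_cent1.2 rfl))) ?_
    obtain ⟨k, hk⟩ := IsPGroup.iff_card.1 (P.isPGroup'.to_le (inf_le_left (b := 𝒞[x])))
    have h2 := card_dvd_of_le (inf_le_right (a := (P : Subgroup G)) (b := 𝒞[x]))
    rw [hk, hC] at h2
    rw [hk, Nat.card_zpowers, hx]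
    rcases k with _ | _ | k
    · norm_num
    · norm_num
    · exact absurd ((Nat.pow_dvd_pow 3 (by omega : 2 ≤ k + 1 + 1)).trans h2) (by norm_num)
  have h2 : zpowers x = P := by
    obtain ⟨z, ⟨hz, hzc⟩, hz3⟩ := Core.exists_mem_orderOf_eq_of_isPGroup
      (P.isPGroup'.to_le inf_le_left) (Core.inf_centralizer_ne_bot_of_isPGroup P.isPGroup' P.isPGroup'
        le_normalizer fun e => x1 (mem_bot.1 (e ▸ hP (mem_zpowers x))))
    refine h1.trans (inf_eq_left.2 fun g hg => ?_)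
    rcases st_norm3 hx (h1 ▸ ⟨hz, mem_cent1.2 (hzc x (hP (mem_zpowers x))).symm⟩) hz3 with e | e
    · exact mem_cent1.2 (e ▸ hzc g hg)
    · exact mem_cent1.2 (Commute.inv_right_iff.1 (e ▸ hzc g hg))
  have key : ∀ y : G, orderOf y = 3 → ∃ k : G, 𝒞[y] = cj k 𝒞[x] := fun y hy => by
    obtain ⟨Q, hQ⟩ := (hp y hy).exists_le_sylow
    obtain ⟨k, rfl⟩ := MulAction.exists_smul_eq G P Q
    obtain ⟨w, hw, rfl⟩ := hQ (mem_zpowers y)
    have hw3 : orderOf w = 3 := (Invol.orderOf_conj k w).symm.trans hy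
    refine ⟨k, Eq.trans (cj_cent1 k w).symm (congrArg _ ?_)⟩
    rcases st_norm3 hx (h2 ▸ hw) hw3 with e | e <;> rw [e]
    ext a
    exact mem_cent1.trans (Commute.inv_right_iff.trans mem_cent1.symm)
  refine ⟨h5, fun e => ?_, fun y hy a ha b hb => ?_, fun y hy a ha => ?_, fun y hy => ?_⟩
  · refine P.not_dvd_index (Nat.dvd_of_mul_dvd_mul_left (by norm_num : 0 < 3) ?_)
    rwa [← (P : Subgroup G).card_mul_index, ← h2, Nat.card_zpowers, hx, h2] at e
  · obtain ⟨k, e⟩ := key y hy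
    rw [e] at ha hb
    obtain ⟨c, hc, rfl⟩ := mem_cj'.1 ha
    obtain ⟨d, hd, rfl⟩ := mem_cj'.1 hb
    rw [conj_mul, conj_mul, hCab c hc d hd]
  · obtain ⟨k, e⟩ := key y hy
    rw [e] at ha
    obtain ⟨c, hc, rfl⟩ := mem_cj'.1 ha
    rw [conj_pow, hCexp c hc, mul_one, mul_inv_cancel]
  · obtain ⟨k, e⟩ := key y hy
    rw [e, card_cj, hC]

theorem st_dih {G : Type*} [Group G] [Finite G] (hO : pPrimeCore 3 G = ⊥) (h6 : Nat.card G = 6) :
    Nonempty (G ≃* DihedralGroup 3) := by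
  have := Fact.mk Nat.prime_two
  have := Fact.mk Nat.prime_three
  obtain ⟨a, ha⟩ := exists_prime_orderOf_dvd_card' (G := G) 2 (by rw [h6]; norm_num)
  obtain ⟨r, hr⟩ := exists_prime_orderOf_dvd_card' (G := G) 3 (by rw [h6]; norm_num)
  have hi : (zpowers r).index = 2 := by
    have := (zpowers r).card_mul_index
    rw [Nat.card_zpowers, hr, h6] at this
    omega
  rcases st_norm3 hr ((normal_of_index_eq_two hi).conj_mem r (mem_zpowers r) a)
    ((Invol.orderOf_conj a r).trans hr) with e | e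
  · have hc : Commute a r := mul_inv_eq_iff_eq_mul.1 e
    have : IsCyclic G := isCyclic_of_orderOf_eq_card (a * r) (by
      rw [hc.orderOf_mul_eq_mul_orderOf_of_coprime (by rw [ha, hr]; norm_num), ha, hr, h6])
    have : (zpowers a).Normal := inferInstance
    have := st_three hO (N := zpowers a) (zpowers_ne_bot.2 fun e => by rw [e, orderOf_one] at ha; omega)
    rw [Nat.card_zpowers, ha] at this
    omega
  · obtain ⟨f, hf, -⟩ := TwoGrp.exists_dihedral_hom hr (by rw [← pow_two, ← ha, pow_orderOf_eq_one]) e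
      fun hm => by
        have := orderOf_dvd_of_mem_zpowers hm
        rw [ha, hr] at this
        omega
    exact ⟨(MulEquiv.ofBijective f ((Nat.bijective_iff_injective_and_card f).2
      ⟨hf, by rw [DihedralGroup.nat_card, h6]⟩)).symm⟩

theorem st_sup {G : Type*} [Group G] [Finite G] (h : Cl G) {x : G} (hx : orderOf x = 3)
    {L : Subgroup (G ⧸ pPrimeCore 3 G)} [L.Normal] (hi : L.index = 2)
    (hj : ∀ y : L, orderOf y = 3 → ∃ j, j * y * j⁻¹ = y⁻¹) :
    ∃ K : Subgroup G, K.Normal ∧ K.index = 2 ∧ K ⊔ Subgroup.centralizer ({x} : Set G) = ⊤ := by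
  have := Fact.mk Nat.prime_three
  set f := QuotientGroup.mk' (pPrimeCore 3 G)
  have hs : Function.Surjective f := QuotientGroup.mk'_surjective _
  have hi' : (L.comap f).index = 2 := (index_comap_of_surjective _ hs).trans hi
  have x3 : x ^ 3 = 1 := hx ▸ pow_orderOf_eq_one x
  have xK : x ∈ L.comap f := by
    have := sq_mem_of_index_two hi' (x ^ 2)
    rwa [← pow_mul, show 2 * 2 = 3 + 1 from rfl, pow_succ, x3, one_mul] at this
  have hf : orderOf (f x) = 3 := orderOf_eq_prime (by rw [← map_pow, x3, map_one]) fun e =>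
    Core.not_dvd_card_pPrimeCore Nat.prime_three G
      (hx.symm.dvd.trans (Subgroup.orderOf_dvd_natCard _ ((QuotientGroup.eq_one_iff x).1 e)))
  obtain ⟨⟨j, hjL⟩, e⟩ := hj ⟨f x, xK⟩ (by rwa [← orderOf_coe])
  obtain ⟨j, rfl⟩ := hs j
  have e1 : f (j * x * j⁻¹) = (f x)⁻¹ := by
    rw [map_mul, map_mul, map_inv]; exact congrArg Subtype.val e
  obtain ⟨k, hk, e2⟩ := h.conj3 (H := (zpowers (f x)).comap f) hx ((Invol.orderOf_conj j x).trans hx)
    (mem_zpowers _) (by rw [mem_comap, e1]; exact inv_mem (mem_zpowers _))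
  have e3 : k * x * k⁻¹ = (j * x * j⁻¹)⁻¹ := e2.resolve_left fun e2 => st_inv_ne hf (by
    obtain ⟨i, hi⟩ := hk
    rw [← e1, ← e2, map_mul, map_mul, map_inv, ← hi, ((Commute.refl _).zpow_left i).eq,
      mul_inv_cancel_right])
  have hkK : k ∈ L.comap f := (zpowers_le (H := L)).2 xK hk
  refine ⟨L.comap f, inferInstance, hi', eq_top_iff.2 fun g _ => ?_⟩
  obtain ⟨n, hn, m, rfl, e4⟩ := h.frattini3 hx xK (le_normalizer_of_normal (mem_top g))
  refine mul_mem (mem_sup_left hn) ?_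
  rcases e4 with e4 | e4
  · exact mem_sup_right (mem_cent1.2 (mul_inv_eq_iff_eq_mul.1 e4))
  · rw [← mul_inv_cancel_left (k⁻¹ * j) m]
    refine mul_mem (mem_sup_left (mul_mem (inv_mem hkK) hjL)) (mem_sup_right (mem_cent1.2 ?_))
    calc _ = j⁻¹ * (k * (m * x * m⁻¹) * k⁻¹) * k * m := by group
      _ = _ := by rw [e4, ← conj_inv, e3]; group

/-- the conclusion of S3714 -/
theorem s3714_of {G : Type*} [Group G] [Finite G] (h : Cl G) (hst : ST G) {x : G}
    (hx : orderOf x = 3) :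
    ((Nat.card (G ⧸ pPrimeCore 3 G) = 3 ∨ Nonempty (G ⧸ pPrimeCore 3 G ≃* DihedralGroup 3)) ∧
      Group.IsSolvable G) ∨
    (Nonempty (G ⧸ pPrimeCore 3 G ≃* Matrix.ProjectiveSpecialLinearGroup (Fin 2) (ZMod 7)) ∨
      Nonempty (G ⧸ pPrimeCore 3 G ≃* Matrix.ProjectiveSpecialLinearGroup (Fin 2) (ZMod 13))) ∨
    ((Nonempty (G ⧸ pPrimeCore 3 G ≃*
        (GL (Fin 2) (ZMod 7) ⧸ Subgroup.center (GL (Fin 2) (ZMod 7)))) ∨
      Nonempty (G ⧸ pPrimeCore 3 G ≃*
        (GL (Fin 2) (ZMod 13) ⧸ Subgroup.center (GL (Fin 2) (ZMod 13))))) ∧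
      ∃ K : Subgroup G, K.Normal ∧ K.index = 2 ∧ K ⊔ Subgroup.centralizer ({x} : Set G) = ⊤) := by
  rcases hst.2 with ⟨hs, h6⟩ | ⟨L, hL, hm, hC⟩
  · refine Or.inl ⟨?_, hs⟩
    have h3 : 3 ∣ (pPrimeCore 3 G).index := (Nat.prime_three.dvd_mul.1 (by
      rw [card_mul_index, ← hx]; exact _root_.orderOf_dvd_natCard x)).resolve_left
      (Core.not_dvd_card_pPrimeCore Nat.prime_three G)
    rw [index_eq_card] at h3 h6
    have := Nat.le_of_dvd (by norm_num) h6
    refine or_iff_not_imp_left.2 fun e => st_dih (Core.pPrimeCore_quotient_pPrimeCore 3 G) ?_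
    have := Nat.card_pos (α := G ⧸ pPrimeCore 3 G)
    omega
  by_cases hT : L = ⊤
  · subst hT
    exact Or.inr (Or.inl (hm.of_equiv topEquiv.symm))
  rcases hm with ⟨⟨e⟩⟩ | ⟨⟨e⟩⟩
  · obtain ⟨hi, hp⟩ := pgl7 L hC e hT
    refine Or.inr (Or.inr ⟨Or.inl hp, st_sup h hx hi fun y hy => ?_⟩)
    have := simple_L7
    have := e.isSimpleGroup
    exact isConj_iff.1 (PSL2Rec.O168.conj3 ((Nat.card_congr e.toEquiv).trans card_L7) y y⁻¹ hy
      (by rwa [orderOf_inv]))
  · obtain ⟨hi, hp⟩ := pgl13 L hC e hT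
    refine Or.inr (Or.inr ⟨Or.inr hp, st_sup h hx hi fun y hy => ?_⟩)
    obtain ⟨j, hj⟩ := inv3_L13 ((e.orderOf_eq y).trans hy)
    exact ⟨e.symm j, e.injective (by simpa using hj)⟩

end CfsgLib.C3
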